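/-
The atoms: words and their image vectors (generated).
-/
import Cfsg.Agent.Lib.HNPres.AtomPart0
import Cfsg.Agent.Lib.HNPres.AtomPart1
import Cfsg.Agent.Lib.HNPres.AtomPart2
import Cfsg.Agent.Lib.HNPres.AtomPart3

set_option autoImplicit false
set_option maxRecDepth 100000

namespace Cfsg.Agent.HNPres

open Cfsg.Agent.CosetEnum

/-- Number of atoms. -/
def natoms : ℕ := 1458

/-- Part of the tree. -/
noncomputable def vecT_t1 (q : ℕ) : ℕ :=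
  bif Nat.blt q 5 then (bif Nat.blt q 2 then (bif Nat.blt q 1 then vec0 else vec1) else (bif Nat.blt q 3 then vec2 else (bif Nat.blt q 4 then vec3 else vec4))) else (bif Nat.blt q 8 then (bif Nat.blt q 6 then vec5 else (bif Nat.blt q 7 then vec6 else vec7)) else (bif Nat.blt q 9 then vec8 else (bif Nat.blt q 10 then vec9 else vec10)))

/-- Part of the tree. -/
noncomputable def vecT_t2 (q : ℕ) : ℕ :=
  bif Nat.blt q 16 then (bif Nat.blt q 13 then (bif Nat.blt q 12 then vec11 else vec12) else (bif Nat.blt q 14 then vec13 else (bif Nat.blt q 15 then vec14 else vec15))) else (bif Nat.blt q 19 then (bif Nat.blt q 17 then vec16 else (bif Nat.blt q 18 then vec17 else vec18)) else (bif Nat.blt q 20 then vec19 else (bif Nat.blt q 21 then vec20 else vec21)))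

/-- Part of the tree. -/
noncomputable def vecT_t3 (q : ℕ) : ℕ :=
  bif Nat.blt q 11 then (vecT_t1 q) else (vecT_t2 q)

/-- Part of the tree. -/
noncomputable def vecT_t4 (q : ℕ) : ℕ :=
  bif Nat.blt q 27 then (bif Nat.blt q 24 then (bif Nat.blt q 23 then vec22 else vec23) else (bif Nat.blt q 25 then vec24 else (bif Nat.blt q 26 then vec25 else vec26))) else (bif Nat.blt q 30 then (bif Nat.blt q 28 then vec27 else (bif Nat.blt q 29 then vec28 else vec29)) else (bif Nat.blt q 31 then vec30 else (bif Nat.blt q 32 then vec31 else vec32)))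

/-- Part of the tree. -/
noncomputable def vecT_t5 (q : ℕ) : ℕ :=
  bif Nat.blt q 39 then (bif Nat.blt q 36 then (bif Nat.blt q 34 then vec33 else (bif Nat.blt q 35 then vec34 else vec35)) else (bif Nat.blt q 37 then vec36 else (bif Nat.blt q 38 then vec37 else vec38))) else (bif Nat.blt q 42 then (bif Nat.blt q 40 then vec39 else (bif Nat.blt q 41 then vec40 else vec41)) else (bif Nat.blt q 43 then vec42 else (bif Nat.blt q 44 then vec43 else vec44)))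

/-- Part of the tree. -/
noncomputable def vecT_t6 (q : ℕ) : ℕ :=
  bif Nat.blt q 33 then (vecT_t4 q) else (vecT_t5 q)

/-- Part of the tree. -/
noncomputable def vecT_t7 (q : ℕ) : ℕ :=
  bif Nat.blt q 22 then (vecT_t3 q) else (vecT_t6 q)

/-- Part of the tree. -/
noncomputable def vecT_t8 (q : ℕ) : ℕ :=
  bif Nat.blt q 50 then (bif Nat.blt q 47 then (bif Nat.blt q 46 then vec45 else vec46) else (bif Nat.blt q 48 then vec47 else (bif Nat.blt q 49 then vec48 else vec49))) else (bif Nat.blt q 53 then (bif Nat.blt q 51 then vec50 else (bif Nat.blt q 52 then vec51 else vec52)) else (bif Nat.blt q 54 then vec53 else (bif Nat.blt q 55 then vec54 else vec55)))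

/-- Part of the tree. -/
noncomputable def vecT_t9 (q : ℕ) : ℕ :=
  bif Nat.blt q 62 then (bif Nat.blt q 59 then (bif Nat.blt q 57 then vec56 else (bif Nat.blt q 58 then vec57 else vec58)) else (bif Nat.blt q 60 then vec59 else (bif Nat.blt q 61 then vec60 else vec61))) else (bif Nat.blt q 65 then (bif Nat.blt q 63 then vec62 else (bif Nat.blt q 64 then vec63 else vec64)) else (bif Nat.blt q 66 then vec65 else (bif Nat.blt q 67 then vec66 else vec67)))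

/-- Part of the tree. -/
noncomputable def vecT_t10 (q : ℕ) : ℕ :=
  bif Nat.blt q 56 then (vecT_t8 q) else (vecT_t9 q)

/-- Part of the tree. -/
noncomputable def vecT_t11 (q : ℕ) : ℕ :=
  bif Nat.blt q 73 then (bif Nat.blt q 70 then (bif Nat.blt q 69 then vec68 else vec69) else (bif Nat.blt q 71 then vec70 else (bif Nat.blt q 72 then vec71 else vec72))) else (bif Nat.blt q 76 then (bif Nat.blt q 74 then vec73 else (bif Nat.blt q 75 then vec74 else vec75)) else (bif Nat.blt q 77 then vec76 else (bif Nat.blt q 78 then vec77 else vec78)))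

/-- Part of the tree. -/
noncomputable def vecT_t12 (q : ℕ) : ℕ :=
  bif Nat.blt q 85 then (bif Nat.blt q 82 then (bif Nat.blt q 80 then vec79 else (bif Nat.blt q 81 then vec80 else vec81)) else (bif Nat.blt q 83 then vec82 else (bif Nat.blt q 84 then vec83 else vec84))) else (bif Nat.blt q 88 then (bif Nat.blt q 86 then vec85 else (bif Nat.blt q 87 then vec86 else vec87)) else (bif Nat.blt q 89 then vec88 else (bif Nat.blt q 90 then vec89 else vec90)))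

/-- Part of the tree. -/
noncomputable def vecT_t13 (q : ℕ) : ℕ :=
  bif Nat.blt q 79 then (vecT_t11 q) else (vecT_t12 q)

/-- Part of the tree. -/
noncomputable def vecT_t14 (q : ℕ) : ℕ :=
  bif Nat.blt q 68 then (vecT_t10 q) else (vecT_t13 q)

/-- Part of the tree. -/
noncomputable def vecT_t15 (q : ℕ) : ℕ :=
  bif Nat.blt q 45 then (vecT_t7 q) else (vecT_t14 q)

/-- Part of the tree. -/
noncomputable def vecT_t16 (q : ℕ) : ℕ :=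
  bif Nat.blt q 96 then (bif Nat.blt q 93 then (bif Nat.blt q 92 then vec91 else vec92) else (bif Nat.blt q 94 then vec93 else (bif Nat.blt q 95 then vec94 else vec95))) else (bif Nat.blt q 99 then (bif Nat.blt q 97 then vec96 else (bif Nat.blt q 98 then vec97 else vec98)) else (bif Nat.blt q 100 then vec99 else (bif Nat.blt q 101 then vec100 else vec101)))

/-- Part of the tree. -/
noncomputable def vecT_t17 (q : ℕ) : ℕ :=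
  bif Nat.blt q 107 then (bif Nat.blt q 104 then (bif Nat.blt q 103 then vec102 else vec103) else (bif Nat.blt q 105 then vec104 else (bif Nat.blt q 106 then vec105 else vec106))) else (bif Nat.blt q 110 then (bif Nat.blt q 108 then vec107 else (bif Nat.blt q 109 then vec108 else vec109)) else (bif Nat.blt q 111 then vec110 else (bif Nat.blt q 112 then vec111 else vec112)))

/-- Part of the tree. -/
noncomputable def vecT_t18 (q : ℕ) : ℕ :=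
  bif Nat.blt q 102 then (vecT_t16 q) else (vecT_t17 q)

/-- Part of the tree. -/
noncomputable def vecT_t19 (q : ℕ) : ℕ :=
  bif Nat.blt q 118 then (bif Nat.blt q 115 then (bif Nat.blt q 114 then vec113 else vec114) else (bif Nat.blt q 116 then vec115 else (bif Nat.blt q 117 then vec116 else vec117))) else (bif Nat.blt q 121 then (bif Nat.blt q 119 then vec118 else (bif Nat.blt q 120 then vec119 else vec120)) else (bif Nat.blt q 122 then vec121 else (bif Nat.blt q 123 then vec122 else vec123)))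

/-- Part of the tree. -/
noncomputable def vecT_t20 (q : ℕ) : ℕ :=
  bif Nat.blt q 130 then (bif Nat.blt q 127 then (bif Nat.blt q 125 then vec124 else (bif Nat.blt q 126 then vec125 else vec126)) else (bif Nat.blt q 128 then vec127 else (bif Nat.blt q 129 then vec128 else vec129))) else (bif Nat.blt q 133 then (bif Nat.blt q 131 then vec130 else (bif Nat.blt q 132 then vec131 else vec132)) else (bif Nat.blt q 134 then vec133 else (bif Nat.blt q 135 then vec134 else vec135)))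

/-- Part of the tree. -/
noncomputable def vecT_t21 (q : ℕ) : ℕ :=
  bif Nat.blt q 124 then (vecT_t19 q) else (vecT_t20 q)

/-- Part of the tree. -/
noncomputable def vecT_t22 (q : ℕ) : ℕ :=
  bif Nat.blt q 113 then (vecT_t18 q) else (vecT_t21 q)

/-- Part of the tree. -/
noncomputable def vecT_t23 (q : ℕ) : ℕ :=
  bif Nat.blt q 141 then (bif Nat.blt q 138 then (bif Nat.blt q 137 then vec136 else vec137) else (bif Nat.blt q 139 then vec138 else (bif Nat.blt q 140 then vec139 else vec140))) else (bif Nat.blt q 144 then (bif Nat.blt q 142 then vec141 else (bif Nat.blt q 143 then vec142 else vec143)) else (bif Nat.blt q 145 then vec144 else (bif Nat.blt q 146 then vec145 else vec146)))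

/-- Part of the tree. -/
noncomputable def vecT_t24 (q : ℕ) : ℕ :=
  bif Nat.blt q 153 then (bif Nat.blt q 150 then (bif Nat.blt q 148 then vec147 else (bif Nat.blt q 149 then vec148 else vec149)) else (bif Nat.blt q 151 then vec150 else (bif Nat.blt q 152 then vec151 else vec152))) else (bif Nat.blt q 156 then (bif Nat.blt q 154 then vec153 else (bif Nat.blt q 155 then vec154 else vec155)) else (bif Nat.blt q 157 then vec156 else (bif Nat.blt q 158 then vec157 else vec158)))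

/-- Part of the tree. -/
noncomputable def vecT_t25 (q : ℕ) : ℕ :=
  bif Nat.blt q 147 then (vecT_t23 q) else (vecT_t24 q)

/-- Part of the tree. -/
noncomputable def vecT_t26 (q : ℕ) : ℕ :=
  bif Nat.blt q 164 then (bif Nat.blt q 161 then (bif Nat.blt q 160 then vec159 else vec160) else (bif Nat.blt q 162 then vec161 else (bif Nat.blt q 163 then vec162 else vec163))) else (bif Nat.blt q 167 then (bif Nat.blt q 165 then vec164 else (bif Nat.blt q 166 then vec165 else vec166)) else (bif Nat.blt q 168 then vec167 else (bif Nat.blt q 169 then vec168 else vec169)))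

/-- Part of the tree. -/
noncomputable def vecT_t27 (q : ℕ) : ℕ :=
  bif Nat.blt q 176 then (bif Nat.blt q 173 then (bif Nat.blt q 171 then vec170 else (bif Nat.blt q 172 then vec171 else vec172)) else (bif Nat.blt q 174 then vec173 else (bif Nat.blt q 175 then vec174 else vec175))) else (bif Nat.blt q 179 then (bif Nat.blt q 177 then vec176 else (bif Nat.blt q 178 then vec177 else vec178)) else (bif Nat.blt q 180 then vec179 else (bif Nat.blt q 181 then vec180 else vec181)))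

/-- Part of the tree. -/
noncomputable def vecT_t28 (q : ℕ) : ℕ :=
  bif Nat.blt q 170 then (vecT_t26 q) else (vecT_t27 q)

/-- Part of the tree. -/
noncomputable def vecT_t29 (q : ℕ) : ℕ :=
  bif Nat.blt q 159 then (vecT_t25 q) else (vecT_t28 q)

/-- Part of the tree. -/
noncomputable def vecT_t30 (q : ℕ) : ℕ :=
  bif Nat.blt q 136 then (vecT_t22 q) else (vecT_t29 q)

/-- Part of the tree. -/
noncomputable def vecT_t31 (q : ℕ) : ℕ :=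
  bif Nat.blt q 91 then (vecT_t15 q) else (vecT_t30 q)

/-- Part of the tree. -/
noncomputable def vecT_t32 (q : ℕ) : ℕ :=
  bif Nat.blt q 187 then (bif Nat.blt q 184 then (bif Nat.blt q 183 then vec182 else vec183) else (bif Nat.blt q 185 then vec184 else (bif Nat.blt q 186 then vec185 else vec186))) else (bif Nat.blt q 190 then (bif Nat.blt q 188 then vec187 else (bif Nat.blt q 189 then vec188 else vec189)) else (bif Nat.blt q 191 then vec190 else (bif Nat.blt q 192 then vec191 else vec192)))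

/-- Part of the tree. -/
noncomputable def vecT_t33 (q : ℕ) : ℕ :=
  bif Nat.blt q 198 then (bif Nat.blt q 195 then (bif Nat.blt q 194 then vec193 else vec194) else (bif Nat.blt q 196 then vec195 else (bif Nat.blt q 197 then vec196 else vec197))) else (bif Nat.blt q 201 then (bif Nat.blt q 199 then vec198 else (bif Nat.blt q 200 then vec199 else vec200)) else (bif Nat.blt q 202 then vec201 else (bif Nat.blt q 203 then vec202 else vec203)))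

/-- Part of the tree. -/
noncomputable def vecT_t34 (q : ℕ) : ℕ :=
  bif Nat.blt q 193 then (vecT_t32 q) else (vecT_t33 q)

/-- Part of the tree. -/
noncomputable def vecT_t35 (q : ℕ) : ℕ :=
  bif Nat.blt q 209 then (bif Nat.blt q 206 then (bif Nat.blt q 205 then vec204 else vec205) else (bif Nat.blt q 207 then vec206 else (bif Nat.blt q 208 then vec207 else vec208))) else (bif Nat.blt q 212 then (bif Nat.blt q 210 then vec209 else (bif Nat.blt q 211 then vec210 else vec211)) else (bif Nat.blt q 213 then vec212 else (bif Nat.blt q 214 then vec213 else vec214)))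

/-- Part of the tree. -/
noncomputable def vecT_t36 (q : ℕ) : ℕ :=
  bif Nat.blt q 221 then (bif Nat.blt q 218 then (bif Nat.blt q 216 then vec215 else (bif Nat.blt q 217 then vec216 else vec217)) else (bif Nat.blt q 219 then vec218 else (bif Nat.blt q 220 then vec219 else vec220))) else (bif Nat.blt q 224 then (bif Nat.blt q 222 then vec221 else (bif Nat.blt q 223 then vec222 else vec223)) else (bif Nat.blt q 225 then vec224 else (bif Nat.blt q 226 then vec225 else vec226)))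

/-- Part of the tree. -/
noncomputable def vecT_t37 (q : ℕ) : ℕ :=
  bif Nat.blt q 215 then (vecT_t35 q) else (vecT_t36 q)

/-- Part of the tree. -/
noncomputable def vecT_t38 (q : ℕ) : ℕ :=
  bif Nat.blt q 204 then (vecT_t34 q) else (vecT_t37 q)

/-- Part of the tree. -/
noncomputable def vecT_t39 (q : ℕ) : ℕ :=
  bif Nat.blt q 232 then (bif Nat.blt q 229 then (bif Nat.blt q 228 then vec227 else vec228) else (bif Nat.blt q 230 then vec229 else (bif Nat.blt q 231 then vec230 else vec231))) else (bif Nat.blt q 235 then (bif Nat.blt q 233 then vec232 else (bif Nat.blt q 234 then vec233 else vec234)) else (bif Nat.blt q 236 then vec235 else (bif Nat.blt q 237 then vec236 else vec237)))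

/-- Part of the tree. -/
noncomputable def vecT_t40 (q : ℕ) : ℕ :=
  bif Nat.blt q 244 then (bif Nat.blt q 241 then (bif Nat.blt q 239 then vec238 else (bif Nat.blt q 240 then vec239 else vec240)) else (bif Nat.blt q 242 then vec241 else (bif Nat.blt q 243 then vec242 else vec243))) else (bif Nat.blt q 247 then (bif Nat.blt q 245 then vec244 else (bif Nat.blt q 246 then vec245 else vec246)) else (bif Nat.blt q 248 then vec247 else (bif Nat.blt q 249 then vec248 else vec249)))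

/-- Part of the tree. -/
noncomputable def vecT_t41 (q : ℕ) : ℕ :=
  bif Nat.blt q 238 then (vecT_t39 q) else (vecT_t40 q)

/-- Part of the tree. -/
noncomputable def vecT_t42 (q : ℕ) : ℕ :=
  bif Nat.blt q 255 then (bif Nat.blt q 252 then (bif Nat.blt q 251 then vec250 else vec251) else (bif Nat.blt q 253 then vec252 else (bif Nat.blt q 254 then vec253 else vec254))) else (bif Nat.blt q 258 then (bif Nat.blt q 256 then vec255 else (bif Nat.blt q 257 then vec256 else vec257)) else (bif Nat.blt q 259 then vec258 else (bif Nat.blt q 260 then vec259 else vec260)))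

/-- Part of the tree. -/
noncomputable def vecT_t43 (q : ℕ) : ℕ :=
  bif Nat.blt q 267 then (bif Nat.blt q 264 then (bif Nat.blt q 262 then vec261 else (bif Nat.blt q 263 then vec262 else vec263)) else (bif Nat.blt q 265 then vec264 else (bif Nat.blt q 266 then vec265 else vec266))) else (bif Nat.blt q 270 then (bif Nat.blt q 268 then vec267 else (bif Nat.blt q 269 then vec268 else vec269)) else (bif Nat.blt q 271 then vec270 else (bif Nat.blt q 272 then vec271 else vec272)))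

/-- Part of the tree. -/
noncomputable def vecT_t44 (q : ℕ) : ℕ :=
  bif Nat.blt q 261 then (vecT_t42 q) else (vecT_t43 q)

/-- Part of the tree. -/
noncomputable def vecT_t45 (q : ℕ) : ℕ :=
  bif Nat.blt q 250 then (vecT_t41 q) else (vecT_t44 q)

/-- Part of the tree. -/
noncomputable def vecT_t46 (q : ℕ) : ℕ :=
  bif Nat.blt q 227 then (vecT_t38 q) else (vecT_t45 q)

/-- Part of the tree. -/
noncomputable def vecT_t47 (q : ℕ) : ℕ :=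
  bif Nat.blt q 278 then (bif Nat.blt q 275 then (bif Nat.blt q 274 then vec273 else vec274) else (bif Nat.blt q 276 then vec275 else (bif Nat.blt q 277 then vec276 else vec277))) else (bif Nat.blt q 281 then (bif Nat.blt q 279 then vec278 else (bif Nat.blt q 280 then vec279 else vec280)) else (bif Nat.blt q 282 then vec281 else (bif Nat.blt q 283 then vec282 else vec283)))

/-- Part of the tree. -/
noncomputable def vecT_t48 (q : ℕ) : ℕ :=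
  bif Nat.blt q 289 then (bif Nat.blt q 286 then (bif Nat.blt q 285 then vec284 else vec285) else (bif Nat.blt q 287 then vec286 else (bif Nat.blt q 288 then vec287 else vec288))) else (bif Nat.blt q 292 then (bif Nat.blt q 290 then vec289 else (bif Nat.blt q 291 then vec290 else vec291)) else (bif Nat.blt q 293 then vec292 else (bif Nat.blt q 294 then vec293 else vec294)))

/-- Part of the tree. -/
noncomputable def vecT_t49 (q : ℕ) : ℕ :=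
  bif Nat.blt q 284 then (vecT_t47 q) else (vecT_t48 q)

/-- Part of the tree. -/
noncomputable def vecT_t50 (q : ℕ) : ℕ :=
  bif Nat.blt q 300 then (bif Nat.blt q 297 then (bif Nat.blt q 296 then vec295 else vec296) else (bif Nat.blt q 298 then vec297 else (bif Nat.blt q 299 then vec298 else vec299))) else (bif Nat.blt q 303 then (bif Nat.blt q 301 then vec300 else (bif Nat.blt q 302 then vec301 else vec302)) else (bif Nat.blt q 304 then vec303 else (bif Nat.blt q 305 then vec304 else vec305)))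

/-- Part of the tree. -/
noncomputable def vecT_t51 (q : ℕ) : ℕ :=
  bif Nat.blt q 312 then (bif Nat.blt q 309 then (bif Nat.blt q 307 then vec306 else (bif Nat.blt q 308 then vec307 else vec308)) else (bif Nat.blt q 310 then vec309 else (bif Nat.blt q 311 then vec310 else vec311))) else (bif Nat.blt q 315 then (bif Nat.blt q 313 then vec312 else (bif Nat.blt q 314 then vec313 else vec314)) else (bif Nat.blt q 316 then vec315 else (bif Nat.blt q 317 then vec316 else vec317)))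

/-- Part of the tree. -/
noncomputable def vecT_t52 (q : ℕ) : ℕ :=
  bif Nat.blt q 306 then (vecT_t50 q) else (vecT_t51 q)

/-- Part of the tree. -/
noncomputable def vecT_t53 (q : ℕ) : ℕ :=
  bif Nat.blt q 295 then (vecT_t49 q) else (vecT_t52 q)

/-- Part of the tree. -/
noncomputable def vecT_t54 (q : ℕ) : ℕ :=
  bif Nat.blt q 323 then (bif Nat.blt q 320 then (bif Nat.blt q 319 then vec318 else vec319) else (bif Nat.blt q 321 then vec320 else (bif Nat.blt q 322 then vec321 else vec322))) else (bif Nat.blt q 326 then (bif Nat.blt q 324 then vec323 else (bif Nat.blt q 325 then vec324 else vec325)) else (bif Nat.blt q 327 then vec326 else (bif Nat.blt q 328 then vec327 else vec328)))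

/-- Part of the tree. -/
noncomputable def vecT_t55 (q : ℕ) : ℕ :=
  bif Nat.blt q 335 then (bif Nat.blt q 332 then (bif Nat.blt q 330 then vec329 else (bif Nat.blt q 331 then vec330 else vec331)) else (bif Nat.blt q 333 then vec332 else (bif Nat.blt q 334 then vec333 else vec334))) else (bif Nat.blt q 338 then (bif Nat.blt q 336 then vec335 else (bif Nat.blt q 337 then vec336 else vec337)) else (bif Nat.blt q 339 then vec338 else (bif Nat.blt q 340 then vec339 else vec340)))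

/-- Part of the tree. -/
noncomputable def vecT_t56 (q : ℕ) : ℕ :=
  bif Nat.blt q 329 then (vecT_t54 q) else (vecT_t55 q)

/-- Part of the tree. -/
noncomputable def vecT_t57 (q : ℕ) : ℕ :=
  bif Nat.blt q 346 then (bif Nat.blt q 343 then (bif Nat.blt q 342 then vec341 else vec342) else (bif Nat.blt q 344 then vec343 else (bif Nat.blt q 345 then vec344 else vec345))) else (bif Nat.blt q 349 then (bif Nat.blt q 347 then vec346 else (bif Nat.blt q 348 then vec347 else vec348)) else (bif Nat.blt q 350 then vec349 else (bif Nat.blt q 351 then vec350 else vec351)))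

/-- Part of the tree. -/
noncomputable def vecT_t58 (q : ℕ) : ℕ :=
  bif Nat.blt q 358 then (bif Nat.blt q 355 then (bif Nat.blt q 353 then vec352 else (bif Nat.blt q 354 then vec353 else vec354)) else (bif Nat.blt q 356 then vec355 else (bif Nat.blt q 357 then vec356 else vec357))) else (bif Nat.blt q 361 then (bif Nat.blt q 359 then vec358 else (bif Nat.blt q 360 then vec359 else vec360)) else (bif Nat.blt q 362 then vec361 else (bif Nat.blt q 363 then vec362 else vec363)))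

/-- Part of the tree. -/
noncomputable def vecT_t59 (q : ℕ) : ℕ :=
  bif Nat.blt q 352 then (vecT_t57 q) else (vecT_t58 q)

/-- Part of the tree. -/
noncomputable def vecT_t60 (q : ℕ) : ℕ :=
  bif Nat.blt q 341 then (vecT_t56 q) else (vecT_t59 q)

/-- Part of the tree. -/
noncomputable def vecT_t61 (q : ℕ) : ℕ :=
  bif Nat.blt q 318 then (vecT_t53 q) else (vecT_t60 q)

/-- Part of the tree. -/
noncomputable def vecT_t62 (q : ℕ) : ℕ :=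
  bif Nat.blt q 273 then (vecT_t46 q) else (vecT_t61 q)

/-- Part of the tree. -/
noncomputable def vecT_t63 (q : ℕ) : ℕ :=
  bif Nat.blt q 182 then (vecT_t31 q) else (vecT_t62 q)

/-- Part of the tree. -/
noncomputable def vecT_t64 (q : ℕ) : ℕ :=
  bif Nat.blt q 369 then (bif Nat.blt q 366 then (bif Nat.blt q 365 then vec364 else vec365) else (bif Nat.blt q 367 then vec366 else (bif Nat.blt q 368 then vec367 else vec368))) else (bif Nat.blt q 372 then (bif Nat.blt q 370 then vec369 else (bif Nat.blt q 371 then vec370 else vec371)) else (bif Nat.blt q 373 then vec372 else (bif Nat.blt q 374 then vec373 else vec374)))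

/-- Part of the tree. -/
noncomputable def vecT_t65 (q : ℕ) : ℕ :=
  bif Nat.blt q 380 then (bif Nat.blt q 377 then (bif Nat.blt q 376 then vec375 else vec376) else (bif Nat.blt q 378 then vec377 else (bif Nat.blt q 379 then vec378 else vec379))) else (bif Nat.blt q 383 then (bif Nat.blt q 381 then vec380 else (bif Nat.blt q 382 then vec381 else vec382)) else (bif Nat.blt q 384 then vec383 else (bif Nat.blt q 385 then vec384 else vec385)))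

/-- Part of the tree. -/
noncomputable def vecT_t66 (q : ℕ) : ℕ :=
  bif Nat.blt q 375 then (vecT_t64 q) else (vecT_t65 q)

/-- Part of the tree. -/
noncomputable def vecT_t67 (q : ℕ) : ℕ :=
  bif Nat.blt q 391 then (bif Nat.blt q 388 then (bif Nat.blt q 387 then vec386 else vec387) else (bif Nat.blt q 389 then vec388 else (bif Nat.blt q 390 then vec389 else vec390))) else (bif Nat.blt q 394 then (bif Nat.blt q 392 then vec391 else (bif Nat.blt q 393 then vec392 else vec393)) else (bif Nat.blt q 395 then vec394 else (bif Nat.blt q 396 then vec395 else vec396)))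

/-- Part of the tree. -/
noncomputable def vecT_t68 (q : ℕ) : ℕ :=
  bif Nat.blt q 403 then (bif Nat.blt q 400 then (bif Nat.blt q 398 then vec397 else (bif Nat.blt q 399 then vec398 else vec399)) else (bif Nat.blt q 401 then vec400 else (bif Nat.blt q 402 then vec401 else vec402))) else (bif Nat.blt q 406 then (bif Nat.blt q 404 then vec403 else (bif Nat.blt q 405 then vec404 else vec405)) else (bif Nat.blt q 407 then vec406 else (bif Nat.blt q 408 then vec407 else vec408)))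

/-- Part of the tree. -/
noncomputable def vecT_t69 (q : ℕ) : ℕ :=
  bif Nat.blt q 397 then (vecT_t67 q) else (vecT_t68 q)

/-- Part of the tree. -/
noncomputable def vecT_t70 (q : ℕ) : ℕ :=
  bif Nat.blt q 386 then (vecT_t66 q) else (vecT_t69 q)

/-- Part of the tree. -/
noncomputable def vecT_t71 (q : ℕ) : ℕ :=
  bif Nat.blt q 414 then (bif Nat.blt q 411 then (bif Nat.blt q 410 then vec409 else vec410) else (bif Nat.blt q 412 then vec411 else (bif Nat.blt q 413 then vec412 else vec413))) else (bif Nat.blt q 417 then (bif Nat.blt q 415 then vec414 else (bif Nat.blt q 416 then vec415 else vec416)) else (bif Nat.blt q 418 then vec417 else (bif Nat.blt q 419 then vec418 else vec419)))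

/-- Part of the tree. -/
noncomputable def vecT_t72 (q : ℕ) : ℕ :=
  bif Nat.blt q 426 then (bif Nat.blt q 423 then (bif Nat.blt q 421 then vec420 else (bif Nat.blt q 422 then vec421 else vec422)) else (bif Nat.blt q 424 then vec423 else (bif Nat.blt q 425 then vec424 else vec425))) else (bif Nat.blt q 429 then (bif Nat.blt q 427 then vec426 else (bif Nat.blt q 428 then vec427 else vec428)) else (bif Nat.blt q 430 then vec429 else (bif Nat.blt q 431 then vec430 else vec431)))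

/-- Part of the tree. -/
noncomputable def vecT_t73 (q : ℕ) : ℕ :=
  bif Nat.blt q 420 then (vecT_t71 q) else (vecT_t72 q)

/-- Part of the tree. -/
noncomputable def vecT_t74 (q : ℕ) : ℕ :=
  bif Nat.blt q 437 then (bif Nat.blt q 434 then (bif Nat.blt q 433 then vec432 else vec433) else (bif Nat.blt q 435 then vec434 else (bif Nat.blt q 436 then vec435 else vec436))) else (bif Nat.blt q 440 then (bif Nat.blt q 438 then vec437 else (bif Nat.blt q 439 then vec438 else vec439)) else (bif Nat.blt q 441 then vec440 else (bif Nat.blt q 442 then vec441 else vec442)))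

/-- Part of the tree. -/
noncomputable def vecT_t75 (q : ℕ) : ℕ :=
  bif Nat.blt q 449 then (bif Nat.blt q 446 then (bif Nat.blt q 444 then vec443 else (bif Nat.blt q 445 then vec444 else vec445)) else (bif Nat.blt q 447 then vec446 else (bif Nat.blt q 448 then vec447 else vec448))) else (bif Nat.blt q 452 then (bif Nat.blt q 450 then vec449 else (bif Nat.blt q 451 then vec450 else vec451)) else (bif Nat.blt q 453 then vec452 else (bif Nat.blt q 454 then vec453 else vec454)))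

/-- Part of the tree. -/
noncomputable def vecT_t76 (q : ℕ) : ℕ :=
  bif Nat.blt q 443 then (vecT_t74 q) else (vecT_t75 q)

/-- Part of the tree. -/
noncomputable def vecT_t77 (q : ℕ) : ℕ :=
  bif Nat.blt q 432 then (vecT_t73 q) else (vecT_t76 q)

/-- Part of the tree. -/
noncomputable def vecT_t78 (q : ℕ) : ℕ :=
  bif Nat.blt q 409 then (vecT_t70 q) else (vecT_t77 q)

/-- Part of the tree. -/
noncomputable def vecT_t79 (q : ℕ) : ℕ :=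
  bif Nat.blt q 460 then (bif Nat.blt q 457 then (bif Nat.blt q 456 then vec455 else vec456) else (bif Nat.blt q 458 then vec457 else (bif Nat.blt q 459 then vec458 else vec459))) else (bif Nat.blt q 463 then (bif Nat.blt q 461 then vec460 else (bif Nat.blt q 462 then vec461 else vec462)) else (bif Nat.blt q 464 then vec463 else (bif Nat.blt q 465 then vec464 else vec465)))

/-- Part of the tree. -/
noncomputable def vecT_t80 (q : ℕ) : ℕ :=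
  bif Nat.blt q 471 then (bif Nat.blt q 468 then (bif Nat.blt q 467 then vec466 else vec467) else (bif Nat.blt q 469 then vec468 else (bif Nat.blt q 470 then vec469 else vec470))) else (bif Nat.blt q 474 then (bif Nat.blt q 472 then vec471 else (bif Nat.blt q 473 then vec472 else vec473)) else (bif Nat.blt q 475 then vec474 else (bif Nat.blt q 476 then vec475 else vec476)))

/-- Part of the tree. -/
noncomputable def vecT_t81 (q : ℕ) : ℕ :=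
  bif Nat.blt q 466 then (vecT_t79 q) else (vecT_t80 q)

/-- Part of the tree. -/
noncomputable def vecT_t82 (q : ℕ) : ℕ :=
  bif Nat.blt q 482 then (bif Nat.blt q 479 then (bif Nat.blt q 478 then vec477 else vec478) else (bif Nat.blt q 480 then vec479 else (bif Nat.blt q 481 then vec480 else vec481))) else (bif Nat.blt q 485 then (bif Nat.blt q 483 then vec482 else (bif Nat.blt q 484 then vec483 else vec484)) else (bif Nat.blt q 486 then vec485 else (bif Nat.blt q 487 then vec486 else vec487)))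

/-- Part of the tree. -/
noncomputable def vecT_t83 (q : ℕ) : ℕ :=
  bif Nat.blt q 494 then (bif Nat.blt q 491 then (bif Nat.blt q 489 then vec488 else (bif Nat.blt q 490 then vec489 else vec490)) else (bif Nat.blt q 492 then vec491 else (bif Nat.blt q 493 then vec492 else vec493))) else (bif Nat.blt q 497 then (bif Nat.blt q 495 then vec494 else (bif Nat.blt q 496 then vec495 else vec496)) else (bif Nat.blt q 498 then vec497 else (bif Nat.blt q 499 then vec498 else vec499)))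

/-- Part of the tree. -/
noncomputable def vecT_t84 (q : ℕ) : ℕ :=
  bif Nat.blt q 488 then (vecT_t82 q) else (vecT_t83 q)

/-- Part of the tree. -/
noncomputable def vecT_t85 (q : ℕ) : ℕ :=
  bif Nat.blt q 477 then (vecT_t81 q) else (vecT_t84 q)

/-- Part of the tree. -/
noncomputable def vecT_t86 (q : ℕ) : ℕ :=
  bif Nat.blt q 505 then (bif Nat.blt q 502 then (bif Nat.blt q 501 then vec500 else vec501) else (bif Nat.blt q 503 then vec502 else (bif Nat.blt q 504 then vec503 else vec504))) else (bif Nat.blt q 508 then (bif Nat.blt q 506 then vec505 else (bif Nat.blt q 507 then vec506 else vec507)) else (bif Nat.blt q 509 then vec508 else (bif Nat.blt q 510 then vec509 else vec510)))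

/-- Part of the tree. -/
noncomputable def vecT_t87 (q : ℕ) : ℕ :=
  bif Nat.blt q 517 then (bif Nat.blt q 514 then (bif Nat.blt q 512 then vec511 else (bif Nat.blt q 513 then vec512 else vec513)) else (bif Nat.blt q 515 then vec514 else (bif Nat.blt q 516 then vec515 else vec516))) else (bif Nat.blt q 520 then (bif Nat.blt q 518 then vec517 else (bif Nat.blt q 519 then vec518 else vec519)) else (bif Nat.blt q 521 then vec520 else (bif Nat.blt q 522 then vec521 else vec522)))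

/-- Part of the tree. -/
noncomputable def vecT_t88 (q : ℕ) : ℕ :=
  bif Nat.blt q 511 then (vecT_t86 q) else (vecT_t87 q)

/-- Part of the tree. -/
noncomputable def vecT_t89 (q : ℕ) : ℕ :=
  bif Nat.blt q 528 then (bif Nat.blt q 525 then (bif Nat.blt q 524 then vec523 else vec524) else (bif Nat.blt q 526 then vec525 else (bif Nat.blt q 527 then vec526 else vec527))) else (bif Nat.blt q 531 then (bif Nat.blt q 529 then vec528 else (bif Nat.blt q 530 then vec529 else vec530)) else (bif Nat.blt q 532 then vec531 else (bif Nat.blt q 533 then vec532 else vec533)))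

/-- Part of the tree. -/
noncomputable def vecT_t90 (q : ℕ) : ℕ :=
  bif Nat.blt q 540 then (bif Nat.blt q 537 then (bif Nat.blt q 535 then vec534 else (bif Nat.blt q 536 then vec535 else vec536)) else (bif Nat.blt q 538 then vec537 else (bif Nat.blt q 539 then vec538 else vec539))) else (bif Nat.blt q 543 then (bif Nat.blt q 541 then vec540 else (bif Nat.blt q 542 then vec541 else vec542)) else (bif Nat.blt q 544 then vec543 else (bif Nat.blt q 545 then vec544 else vec545)))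

/-- Part of the tree. -/
noncomputable def vecT_t91 (q : ℕ) : ℕ :=
  bif Nat.blt q 534 then (vecT_t89 q) else (vecT_t90 q)

/-- Part of the tree. -/
noncomputable def vecT_t92 (q : ℕ) : ℕ :=
  bif Nat.blt q 523 then (vecT_t88 q) else (vecT_t91 q)

/-- Part of the tree. -/
noncomputable def vecT_t93 (q : ℕ) : ℕ :=
  bif Nat.blt q 500 then (vecT_t85 q) else (vecT_t92 q)

/-- Part of the tree. -/
noncomputable def vecT_t94 (q : ℕ) : ℕ :=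
  bif Nat.blt q 455 then (vecT_t78 q) else (vecT_t93 q)

/-- Part of the tree. -/
noncomputable def vecT_t95 (q : ℕ) : ℕ :=
  bif Nat.blt q 551 then (bif Nat.blt q 548 then (bif Nat.blt q 547 then vec546 else vec547) else (bif Nat.blt q 549 then vec548 else (bif Nat.blt q 550 then vec549 else vec550))) else (bif Nat.blt q 554 then (bif Nat.blt q 552 then vec551 else (bif Nat.blt q 553 then vec552 else vec553)) else (bif Nat.blt q 555 then vec554 else (bif Nat.blt q 556 then vec555 else vec556)))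

/-- Part of the tree. -/
noncomputable def vecT_t96 (q : ℕ) : ℕ :=
  bif Nat.blt q 562 then (bif Nat.blt q 559 then (bif Nat.blt q 558 then vec557 else vec558) else (bif Nat.blt q 560 then vec559 else (bif Nat.blt q 561 then vec560 else vec561))) else (bif Nat.blt q 565 then (bif Nat.blt q 563 then vec562 else (bif Nat.blt q 564 then vec563 else vec564)) else (bif Nat.blt q 566 then vec565 else (bif Nat.blt q 567 then vec566 else vec567)))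

/-- Part of the tree. -/
noncomputable def vecT_t97 (q : ℕ) : ℕ :=
  bif Nat.blt q 557 then (vecT_t95 q) else (vecT_t96 q)

/-- Part of the tree. -/
noncomputable def vecT_t98 (q : ℕ) : ℕ :=
  bif Nat.blt q 573 then (bif Nat.blt q 570 then (bif Nat.blt q 569 then vec568 else vec569) else (bif Nat.blt q 571 then vec570 else (bif Nat.blt q 572 then vec571 else vec572))) else (bif Nat.blt q 576 then (bif Nat.blt q 574 then vec573 else (bif Nat.blt q 575 then vec574 else vec575)) else (bif Nat.blt q 577 then vec576 else (bif Nat.blt q 578 then vec577 else vec578)))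

/-- Part of the tree. -/
noncomputable def vecT_t99 (q : ℕ) : ℕ :=
  bif Nat.blt q 585 then (bif Nat.blt q 582 then (bif Nat.blt q 580 then vec579 else (bif Nat.blt q 581 then vec580 else vec581)) else (bif Nat.blt q 583 then vec582 else (bif Nat.blt q 584 then vec583 else vec584))) else (bif Nat.blt q 588 then (bif Nat.blt q 586 then vec585 else (bif Nat.blt q 587 then vec586 else vec587)) else (bif Nat.blt q 589 then vec588 else (bif Nat.blt q 590 then vec589 else vec590)))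

/-- Part of the tree. -/
noncomputable def vecT_t100 (q : ℕ) : ℕ :=
  bif Nat.blt q 579 then (vecT_t98 q) else (vecT_t99 q)

/-- Part of the tree. -/
noncomputable def vecT_t101 (q : ℕ) : ℕ :=
  bif Nat.blt q 568 then (vecT_t97 q) else (vecT_t100 q)

/-- Part of the tree. -/
noncomputable def vecT_t102 (q : ℕ) : ℕ :=
  bif Nat.blt q 596 then (bif Nat.blt q 593 then (bif Nat.blt q 592 then vec591 else vec592) else (bif Nat.blt q 594 then vec593 else (bif Nat.blt q 595 then vec594 else vec595))) else (bif Nat.blt q 599 then (bif Nat.blt q 597 then vec596 else (bif Nat.blt q 598 then vec597 else vec598)) else (bif Nat.blt q 600 then vec599 else (bif Nat.blt q 601 then vec600 else vec601)))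

/-- Part of the tree. -/
noncomputable def vecT_t103 (q : ℕ) : ℕ :=
  bif Nat.blt q 608 then (bif Nat.blt q 605 then (bif Nat.blt q 603 then vec602 else (bif Nat.blt q 604 then vec603 else vec604)) else (bif Nat.blt q 606 then vec605 else (bif Nat.blt q 607 then vec606 else vec607))) else (bif Nat.blt q 611 then (bif Nat.blt q 609 then vec608 else (bif Nat.blt q 610 then vec609 else vec610)) else (bif Nat.blt q 612 then vec611 else (bif Nat.blt q 613 then vec612 else vec613)))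

/-- Part of the tree. -/
noncomputable def vecT_t104 (q : ℕ) : ℕ :=
  bif Nat.blt q 602 then (vecT_t102 q) else (vecT_t103 q)

/-- Part of the tree. -/
noncomputable def vecT_t105 (q : ℕ) : ℕ :=
  bif Nat.blt q 619 then (bif Nat.blt q 616 then (bif Nat.blt q 615 then vec614 else vec615) else (bif Nat.blt q 617 then vec616 else (bif Nat.blt q 618 then vec617 else vec618))) else (bif Nat.blt q 622 then (bif Nat.blt q 620 then vec619 else (bif Nat.blt q 621 then vec620 else vec621)) else (bif Nat.blt q 623 then vec622 else (bif Nat.blt q 624 then vec623 else vec624)))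

/-- Part of the tree. -/
noncomputable def vecT_t106 (q : ℕ) : ℕ :=
  bif Nat.blt q 631 then (bif Nat.blt q 628 then (bif Nat.blt q 626 then vec625 else (bif Nat.blt q 627 then vec626 else vec627)) else (bif Nat.blt q 629 then vec628 else (bif Nat.blt q 630 then vec629 else vec630))) else (bif Nat.blt q 634 then (bif Nat.blt q 632 then vec631 else (bif Nat.blt q 633 then vec632 else vec633)) else (bif Nat.blt q 635 then vec634 else (bif Nat.blt q 636 then vec635 else vec636)))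

/-- Part of the tree. -/
noncomputable def vecT_t107 (q : ℕ) : ℕ :=
  bif Nat.blt q 625 then (vecT_t105 q) else (vecT_t106 q)

/-- Part of the tree. -/
noncomputable def vecT_t108 (q : ℕ) : ℕ :=
  bif Nat.blt q 614 then (vecT_t104 q) else (vecT_t107 q)

/-- Part of the tree. -/
noncomputable def vecT_t109 (q : ℕ) : ℕ :=
  bif Nat.blt q 591 then (vecT_t101 q) else (vecT_t108 q)

/-- Part of the tree. -/
noncomputable def vecT_t110 (q : ℕ) : ℕ :=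
  bif Nat.blt q 642 then (bif Nat.blt q 639 then (bif Nat.blt q 638 then vec637 else vec638) else (bif Nat.blt q 640 then vec639 else (bif Nat.blt q 641 then vec640 else vec641))) else (bif Nat.blt q 645 then (bif Nat.blt q 643 then vec642 else (bif Nat.blt q 644 then vec643 else vec644)) else (bif Nat.blt q 646 then vec645 else (bif Nat.blt q 647 then vec646 else vec647)))

/-- Part of the tree. -/
noncomputable def vecT_t111 (q : ℕ) : ℕ :=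
  bif Nat.blt q 654 then (bif Nat.blt q 651 then (bif Nat.blt q 649 then vec648 else (bif Nat.blt q 650 then vec649 else vec650)) else (bif Nat.blt q 652 then vec651 else (bif Nat.blt q 653 then vec652 else vec653))) else (bif Nat.blt q 657 then (bif Nat.blt q 655 then vec654 else (bif Nat.blt q 656 then vec655 else vec656)) else (bif Nat.blt q 658 then vec657 else (bif Nat.blt q 659 then vec658 else vec659)))

/-- Part of the tree. -/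
noncomputable def vecT_t112 (q : ℕ) : ℕ :=
  bif Nat.blt q 648 then (vecT_t110 q) else (vecT_t111 q)

/-- Part of the tree. -/
noncomputable def vecT_t113 (q : ℕ) : ℕ :=
  bif Nat.blt q 665 then (bif Nat.blt q 662 then (bif Nat.blt q 661 then vec660 else vec661) else (bif Nat.blt q 663 then vec662 else (bif Nat.blt q 664 then vec663 else vec664))) else (bif Nat.blt q 668 then (bif Nat.blt q 666 then vec665 else (bif Nat.blt q 667 then vec666 else vec667)) else (bif Nat.blt q 669 then vec668 else (bif Nat.blt q 670 then vec669 else vec670)))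

/-- Part of the tree. -/
noncomputable def vecT_t114 (q : ℕ) : ℕ :=
  bif Nat.blt q 677 then (bif Nat.blt q 674 then (bif Nat.blt q 672 then vec671 else (bif Nat.blt q 673 then vec672 else vec673)) else (bif Nat.blt q 675 then vec674 else (bif Nat.blt q 676 then vec675 else vec676))) else (bif Nat.blt q 680 then (bif Nat.blt q 678 then vec677 else (bif Nat.blt q 679 then vec678 else vec679)) else (bif Nat.blt q 681 then vec680 else (bif Nat.blt q 682 then vec681 else vec682)))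

/-- Part of the tree. -/
noncomputable def vecT_t115 (q : ℕ) : ℕ :=
  bif Nat.blt q 671 then (vecT_t113 q) else (vecT_t114 q)

/-- Part of the tree. -/
noncomputable def vecT_t116 (q : ℕ) : ℕ :=
  bif Nat.blt q 660 then (vecT_t112 q) else (vecT_t115 q)

/-- Part of the tree. -/
noncomputable def vecT_t117 (q : ℕ) : ℕ :=
  bif Nat.blt q 688 then (bif Nat.blt q 685 then (bif Nat.blt q 684 then vec683 else vec684) else (bif Nat.blt q 686 then vec685 else (bif Nat.blt q 687 then vec686 else vec687))) else (bif Nat.blt q 691 then (bif Nat.blt q 689 then vec688 else (bif Nat.blt q 690 then vec689 else vec690)) else (bif Nat.blt q 692 then vec691 else (bif Nat.blt q 693 then vec692 else vec693)))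

/-- Part of the tree. -/
noncomputable def vecT_t118 (q : ℕ) : ℕ :=
  bif Nat.blt q 700 then (bif Nat.blt q 697 then (bif Nat.blt q 695 then vec694 else (bif Nat.blt q 696 then vec695 else vec696)) else (bif Nat.blt q 698 then vec697 else (bif Nat.blt q 699 then vec698 else vec699))) else (bif Nat.blt q 703 then (bif Nat.blt q 701 then vec700 else (bif Nat.blt q 702 then vec701 else vec702)) else (bif Nat.blt q 704 then vec703 else (bif Nat.blt q 705 then vec704 else vec705)))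

/-- Part of the tree. -/
noncomputable def vecT_t119 (q : ℕ) : ℕ :=
  bif Nat.blt q 694 then (vecT_t117 q) else (vecT_t118 q)

/-- Part of the tree. -/
noncomputable def vecT_t120 (q : ℕ) : ℕ :=
  bif Nat.blt q 711 then (bif Nat.blt q 708 then (bif Nat.blt q 707 then vec706 else vec707) else (bif Nat.blt q 709 then vec708 else (bif Nat.blt q 710 then vec709 else vec710))) else (bif Nat.blt q 714 then (bif Nat.blt q 712 then vec711 else (bif Nat.blt q 713 then vec712 else vec713)) else (bif Nat.blt q 715 then vec714 else (bif Nat.blt q 716 then vec715 else vec716)))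

/-- Part of the tree. -/
noncomputable def vecT_t121 (q : ℕ) : ℕ :=
  bif Nat.blt q 723 then (bif Nat.blt q 720 then (bif Nat.blt q 718 then vec717 else (bif Nat.blt q 719 then vec718 else vec719)) else (bif Nat.blt q 721 then vec720 else (bif Nat.blt q 722 then vec721 else vec722))) else (bif Nat.blt q 726 then (bif Nat.blt q 724 then vec723 else (bif Nat.blt q 725 then vec724 else vec725)) else (bif Nat.blt q 727 then vec726 else (bif Nat.blt q 728 then vec727 else vec728)))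

/-- Part of the tree. -/
noncomputable def vecT_t122 (q : ℕ) : ℕ :=
  bif Nat.blt q 717 then (vecT_t120 q) else (vecT_t121 q)

/-- Part of the tree. -/
noncomputable def vecT_t123 (q : ℕ) : ℕ :=
  bif Nat.blt q 706 then (vecT_t119 q) else (vecT_t122 q)

/-- Part of the tree. -/
noncomputable def vecT_t124 (q : ℕ) : ℕ :=
  bif Nat.blt q 683 then (vecT_t116 q) else (vecT_t123 q)

/-- Part of the tree. -/
noncomputable def vecT_t125 (q : ℕ) : ℕ :=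
  bif Nat.blt q 637 then (vecT_t109 q) else (vecT_t124 q)

/-- Part of the tree. -/
noncomputable def vecT_t126 (q : ℕ) : ℕ :=
  bif Nat.blt q 546 then (vecT_t94 q) else (vecT_t125 q)

/-- Part of the tree. -/
noncomputable def vecT_t127 (q : ℕ) : ℕ :=
  bif Nat.blt q 364 then (vecT_t63 q) else (vecT_t126 q)

/-- Part of the tree. -/
noncomputable def vecT_t128 (q : ℕ) : ℕ :=
  bif Nat.blt q 734 then (bif Nat.blt q 731 then (bif Nat.blt q 730 then vec729 else vec730) else (bif Nat.blt q 732 then vec731 else (bif Nat.blt q 733 then vec732 else vec733))) else (bif Nat.blt q 737 then (bif Nat.blt q 735 then vec734 else (bif Nat.blt q 736 then vec735 else vec736)) else (bif Nat.blt q 738 then vec737 else (bif Nat.blt q 739 then vec738 else vec739)))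

/-- Part of the tree. -/
noncomputable def vecT_t129 (q : ℕ) : ℕ :=
  bif Nat.blt q 745 then (bif Nat.blt q 742 then (bif Nat.blt q 741 then vec740 else vec741) else (bif Nat.blt q 743 then vec742 else (bif Nat.blt q 744 then vec743 else vec744))) else (bif Nat.blt q 748 then (bif Nat.blt q 746 then vec745 else (bif Nat.blt q 747 then vec746 else vec747)) else (bif Nat.blt q 749 then vec748 else (bif Nat.blt q 750 then vec749 else vec750)))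

/-- Part of the tree. -/
noncomputable def vecT_t130 (q : ℕ) : ℕ :=
  bif Nat.blt q 740 then (vecT_t128 q) else (vecT_t129 q)

/-- Part of the tree. -/
noncomputable def vecT_t131 (q : ℕ) : ℕ :=
  bif Nat.blt q 756 then (bif Nat.blt q 753 then (bif Nat.blt q 752 then vec751 else vec752) else (bif Nat.blt q 754 then vec753 else (bif Nat.blt q 755 then vec754 else vec755))) else (bif Nat.blt q 759 then (bif Nat.blt q 757 then vec756 else (bif Nat.blt q 758 then vec757 else vec758)) else (bif Nat.blt q 760 then vec759 else (bif Nat.blt q 761 then vec760 else vec761)))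

/-- Part of the tree. -/
noncomputable def vecT_t132 (q : ℕ) : ℕ :=
  bif Nat.blt q 768 then (bif Nat.blt q 765 then (bif Nat.blt q 763 then vec762 else (bif Nat.blt q 764 then vec763 else vec764)) else (bif Nat.blt q 766 then vec765 else (bif Nat.blt q 767 then vec766 else vec767))) else (bif Nat.blt q 771 then (bif Nat.blt q 769 then vec768 else (bif Nat.blt q 770 then vec769 else vec770)) else (bif Nat.blt q 772 then vec771 else (bif Nat.blt q 773 then vec772 else vec773)))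

/-- Part of the tree. -/
noncomputable def vecT_t133 (q : ℕ) : ℕ :=
  bif Nat.blt q 762 then (vecT_t131 q) else (vecT_t132 q)

/-- Part of the tree. -/
noncomputable def vecT_t134 (q : ℕ) : ℕ :=
  bif Nat.blt q 751 then (vecT_t130 q) else (vecT_t133 q)

/-- Part of the tree. -/
noncomputable def vecT_t135 (q : ℕ) : ℕ :=
  bif Nat.blt q 779 then (bif Nat.blt q 776 then (bif Nat.blt q 775 then vec774 else vec775) else (bif Nat.blt q 777 then vec776 else (bif Nat.blt q 778 then vec777 else vec778))) else (bif Nat.blt q 782 then (bif Nat.blt q 780 then vec779 else (bif Nat.blt q 781 then vec780 else vec781)) else (bif Nat.blt q 783 then vec782 else (bif Nat.blt q 784 then vec783 else vec784)))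

/-- Part of the tree. -/
noncomputable def vecT_t136 (q : ℕ) : ℕ :=
  bif Nat.blt q 791 then (bif Nat.blt q 788 then (bif Nat.blt q 786 then vec785 else (bif Nat.blt q 787 then vec786 else vec787)) else (bif Nat.blt q 789 then vec788 else (bif Nat.blt q 790 then vec789 else vec790))) else (bif Nat.blt q 794 then (bif Nat.blt q 792 then vec791 else (bif Nat.blt q 793 then vec792 else vec793)) else (bif Nat.blt q 795 then vec794 else (bif Nat.blt q 796 then vec795 else vec796)))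

/-- Part of the tree. -/
noncomputable def vecT_t137 (q : ℕ) : ℕ :=
  bif Nat.blt q 785 then (vecT_t135 q) else (vecT_t136 q)

/-- Part of the tree. -/
noncomputable def vecT_t138 (q : ℕ) : ℕ :=
  bif Nat.blt q 802 then (bif Nat.blt q 799 then (bif Nat.blt q 798 then vec797 else vec798) else (bif Nat.blt q 800 then vec799 else (bif Nat.blt q 801 then vec800 else vec801))) else (bif Nat.blt q 805 then (bif Nat.blt q 803 then vec802 else (bif Nat.blt q 804 then vec803 else vec804)) else (bif Nat.blt q 806 then vec805 else (bif Nat.blt q 807 then vec806 else vec807)))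

/-- Part of the tree. -/
noncomputable def vecT_t139 (q : ℕ) : ℕ :=
  bif Nat.blt q 814 then (bif Nat.blt q 811 then (bif Nat.blt q 809 then vec808 else (bif Nat.blt q 810 then vec809 else vec810)) else (bif Nat.blt q 812 then vec811 else (bif Nat.blt q 813 then vec812 else vec813))) else (bif Nat.blt q 817 then (bif Nat.blt q 815 then vec814 else (bif Nat.blt q 816 then vec815 else vec816)) else (bif Nat.blt q 818 then vec817 else (bif Nat.blt q 819 then vec818 else vec819)))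

/-- Part of the tree. -/
noncomputable def vecT_t140 (q : ℕ) : ℕ :=
  bif Nat.blt q 808 then (vecT_t138 q) else (vecT_t139 q)

/-- Part of the tree. -/
noncomputable def vecT_t141 (q : ℕ) : ℕ :=
  bif Nat.blt q 797 then (vecT_t137 q) else (vecT_t140 q)

/-- Part of the tree. -/
noncomputable def vecT_t142 (q : ℕ) : ℕ :=
  bif Nat.blt q 774 then (vecT_t134 q) else (vecT_t141 q)

/-- Part of the tree. -/
noncomputable def vecT_t143 (q : ℕ) : ℕ :=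
  bif Nat.blt q 825 then (bif Nat.blt q 822 then (bif Nat.blt q 821 then vec820 else vec821) else (bif Nat.blt q 823 then vec822 else (bif Nat.blt q 824 then vec823 else vec824))) else (bif Nat.blt q 828 then (bif Nat.blt q 826 then vec825 else (bif Nat.blt q 827 then vec826 else vec827)) else (bif Nat.blt q 829 then vec828 else (bif Nat.blt q 830 then vec829 else vec830)))

/-- Part of the tree. -/
noncomputable def vecT_t144 (q : ℕ) : ℕ :=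
  bif Nat.blt q 836 then (bif Nat.blt q 833 then (bif Nat.blt q 832 then vec831 else vec832) else (bif Nat.blt q 834 then vec833 else (bif Nat.blt q 835 then vec834 else vec835))) else (bif Nat.blt q 839 then (bif Nat.blt q 837 then vec836 else (bif Nat.blt q 838 then vec837 else vec838)) else (bif Nat.blt q 840 then vec839 else (bif Nat.blt q 841 then vec840 else vec841)))

/-- Part of the tree. -/
noncomputable def vecT_t145 (q : ℕ) : ℕ :=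
  bif Nat.blt q 831 then (vecT_t143 q) else (vecT_t144 q)

/-- Part of the tree. -/
noncomputable def vecT_t146 (q : ℕ) : ℕ :=
  bif Nat.blt q 847 then (bif Nat.blt q 844 then (bif Nat.blt q 843 then vec842 else vec843) else (bif Nat.blt q 845 then vec844 else (bif Nat.blt q 846 then vec845 else vec846))) else (bif Nat.blt q 850 then (bif Nat.blt q 848 then vec847 else (bif Nat.blt q 849 then vec848 else vec849)) else (bif Nat.blt q 851 then vec850 else (bif Nat.blt q 852 then vec851 else vec852)))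

/-- Part of the tree. -/
noncomputable def vecT_t147 (q : ℕ) : ℕ :=
  bif Nat.blt q 859 then (bif Nat.blt q 856 then (bif Nat.blt q 854 then vec853 else (bif Nat.blt q 855 then vec854 else vec855)) else (bif Nat.blt q 857 then vec856 else (bif Nat.blt q 858 then vec857 else vec858))) else (bif Nat.blt q 862 then (bif Nat.blt q 860 then vec859 else (bif Nat.blt q 861 then vec860 else vec861)) else (bif Nat.blt q 863 then vec862 else (bif Nat.blt q 864 then vec863 else vec864)))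

/-- Part of the tree. -/
noncomputable def vecT_t148 (q : ℕ) : ℕ :=
  bif Nat.blt q 853 then (vecT_t146 q) else (vecT_t147 q)

/-- Part of the tree. -/
noncomputable def vecT_t149 (q : ℕ) : ℕ :=
  bif Nat.blt q 842 then (vecT_t145 q) else (vecT_t148 q)

/-- Part of the tree. -/
noncomputable def vecT_t150 (q : ℕ) : ℕ :=
  bif Nat.blt q 870 then (bif Nat.blt q 867 then (bif Nat.blt q 866 then vec865 else vec866) else (bif Nat.blt q 868 then vec867 else (bif Nat.blt q 869 then vec868 else vec869))) else (bif Nat.blt q 873 then (bif Nat.blt q 871 then vec870 else (bif Nat.blt q 872 then vec871 else vec872)) else (bif Nat.blt q 874 then vec873 else (bif Nat.blt q 875 then vec874 else vec875)))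

/-- Part of the tree. -/
noncomputable def vecT_t151 (q : ℕ) : ℕ :=
  bif Nat.blt q 882 then (bif Nat.blt q 879 then (bif Nat.blt q 877 then vec876 else (bif Nat.blt q 878 then vec877 else vec878)) else (bif Nat.blt q 880 then vec879 else (bif Nat.blt q 881 then vec880 else vec881))) else (bif Nat.blt q 885 then (bif Nat.blt q 883 then vec882 else (bif Nat.blt q 884 then vec883 else vec884)) else (bif Nat.blt q 886 then vec885 else (bif Nat.blt q 887 then vec886 else vec887)))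

/-- Part of the tree. -/
noncomputable def vecT_t152 (q : ℕ) : ℕ :=
  bif Nat.blt q 876 then (vecT_t150 q) else (vecT_t151 q)

/-- Part of the tree. -/
noncomputable def vecT_t153 (q : ℕ) : ℕ :=
  bif Nat.blt q 893 then (bif Nat.blt q 890 then (bif Nat.blt q 889 then vec888 else vec889) else (bif Nat.blt q 891 then vec890 else (bif Nat.blt q 892 then vec891 else vec892))) else (bif Nat.blt q 896 then (bif Nat.blt q 894 then vec893 else (bif Nat.blt q 895 then vec894 else vec895)) else (bif Nat.blt q 897 then vec896 else (bif Nat.blt q 898 then vec897 else vec898)))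

/-- Part of the tree. -/
noncomputable def vecT_t154 (q : ℕ) : ℕ :=
  bif Nat.blt q 905 then (bif Nat.blt q 902 then (bif Nat.blt q 900 then vec899 else (bif Nat.blt q 901 then vec900 else vec901)) else (bif Nat.blt q 903 then vec902 else (bif Nat.blt q 904 then vec903 else vec904))) else (bif Nat.blt q 908 then (bif Nat.blt q 906 then vec905 else (bif Nat.blt q 907 then vec906 else vec907)) else (bif Nat.blt q 909 then vec908 else (bif Nat.blt q 910 then vec909 else vec910)))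

/-- Part of the tree. -/
noncomputable def vecT_t155 (q : ℕ) : ℕ :=
  bif Nat.blt q 899 then (vecT_t153 q) else (vecT_t154 q)

/-- Part of the tree. -/
noncomputable def vecT_t156 (q : ℕ) : ℕ :=
  bif Nat.blt q 888 then (vecT_t152 q) else (vecT_t155 q)

/-- Part of the tree. -/
noncomputable def vecT_t157 (q : ℕ) : ℕ :=
  bif Nat.blt q 865 then (vecT_t149 q) else (vecT_t156 q)

/-- Part of the tree. -/
noncomputable def vecT_t158 (q : ℕ) : ℕ :=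
  bif Nat.blt q 820 then (vecT_t142 q) else (vecT_t157 q)

/-- Part of the tree. -/
noncomputable def vecT_t159 (q : ℕ) : ℕ :=
  bif Nat.blt q 916 then (bif Nat.blt q 913 then (bif Nat.blt q 912 then vec911 else vec912) else (bif Nat.blt q 914 then vec913 else (bif Nat.blt q 915 then vec914 else vec915))) else (bif Nat.blt q 919 then (bif Nat.blt q 917 then vec916 else (bif Nat.blt q 918 then vec917 else vec918)) else (bif Nat.blt q 920 then vec919 else (bif Nat.blt q 921 then vec920 else vec921)))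

/-- Part of the tree. -/
noncomputable def vecT_t160 (q : ℕ) : ℕ :=
  bif Nat.blt q 927 then (bif Nat.blt q 924 then (bif Nat.blt q 923 then vec922 else vec923) else (bif Nat.blt q 925 then vec924 else (bif Nat.blt q 926 then vec925 else vec926))) else (bif Nat.blt q 930 then (bif Nat.blt q 928 then vec927 else (bif Nat.blt q 929 then vec928 else vec929)) else (bif Nat.blt q 931 then vec930 else (bif Nat.blt q 932 then vec931 else vec932)))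

/-- Part of the tree. -/
noncomputable def vecT_t161 (q : ℕ) : ℕ :=
  bif Nat.blt q 922 then (vecT_t159 q) else (vecT_t160 q)

/-- Part of the tree. -/
noncomputable def vecT_t162 (q : ℕ) : ℕ :=
  bif Nat.blt q 938 then (bif Nat.blt q 935 then (bif Nat.blt q 934 then vec933 else vec934) else (bif Nat.blt q 936 then vec935 else (bif Nat.blt q 937 then vec936 else vec937))) else (bif Nat.blt q 941 then (bif Nat.blt q 939 then vec938 else (bif Nat.blt q 940 then vec939 else vec940)) else (bif Nat.blt q 942 then vec941 else (bif Nat.blt q 943 then vec942 else vec943)))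

/-- Part of the tree. -/
noncomputable def vecT_t163 (q : ℕ) : ℕ :=
  bif Nat.blt q 950 then (bif Nat.blt q 947 then (bif Nat.blt q 945 then vec944 else (bif Nat.blt q 946 then vec945 else vec946)) else (bif Nat.blt q 948 then vec947 else (bif Nat.blt q 949 then vec948 else vec949))) else (bif Nat.blt q 953 then (bif Nat.blt q 951 then vec950 else (bif Nat.blt q 952 then vec951 else vec952)) else (bif Nat.blt q 954 then vec953 else (bif Nat.blt q 955 then vec954 else vec955)))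

/-- Part of the tree. -/
noncomputable def vecT_t164 (q : ℕ) : ℕ :=
  bif Nat.blt q 944 then (vecT_t162 q) else (vecT_t163 q)

/-- Part of the tree. -/
noncomputable def vecT_t165 (q : ℕ) : ℕ :=
  bif Nat.blt q 933 then (vecT_t161 q) else (vecT_t164 q)

/-- Part of the tree. -/
noncomputable def vecT_t166 (q : ℕ) : ℕ :=
  bif Nat.blt q 961 then (bif Nat.blt q 958 then (bif Nat.blt q 957 then vec956 else vec957) else (bif Nat.blt q 959 then vec958 else (bif Nat.blt q 960 then vec959 else vec960))) else (bif Nat.blt q 964 then (bif Nat.blt q 962 then vec961 else (bif Nat.blt q 963 then vec962 else vec963)) else (bif Nat.blt q 965 then vec964 else (bif Nat.blt q 966 then vec965 else vec966)))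

/-- Part of the tree. -/
noncomputable def vecT_t167 (q : ℕ) : ℕ :=
  bif Nat.blt q 973 then (bif Nat.blt q 970 then (bif Nat.blt q 968 then vec967 else (bif Nat.blt q 969 then vec968 else vec969)) else (bif Nat.blt q 971 then vec970 else (bif Nat.blt q 972 then vec971 else vec972))) else (bif Nat.blt q 976 then (bif Nat.blt q 974 then vec973 else (bif Nat.blt q 975 then vec974 else vec975)) else (bif Nat.blt q 977 then vec976 else (bif Nat.blt q 978 then vec977 else vec978)))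

/-- Part of the tree. -/
noncomputable def vecT_t168 (q : ℕ) : ℕ :=
  bif Nat.blt q 967 then (vecT_t166 q) else (vecT_t167 q)

/-- Part of the tree. -/
noncomputable def vecT_t169 (q : ℕ) : ℕ :=
  bif Nat.blt q 984 then (bif Nat.blt q 981 then (bif Nat.blt q 980 then vec979 else vec980) else (bif Nat.blt q 982 then vec981 else (bif Nat.blt q 983 then vec982 else vec983))) else (bif Nat.blt q 987 then (bif Nat.blt q 985 then vec984 else (bif Nat.blt q 986 then vec985 else vec986)) else (bif Nat.blt q 988 then vec987 else (bif Nat.blt q 989 then vec988 else vec989)))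

/-- Part of the tree. -/
noncomputable def vecT_t170 (q : ℕ) : ℕ :=
  bif Nat.blt q 996 then (bif Nat.blt q 993 then (bif Nat.blt q 991 then vec990 else (bif Nat.blt q 992 then vec991 else vec992)) else (bif Nat.blt q 994 then vec993 else (bif Nat.blt q 995 then vec994 else vec995))) else (bif Nat.blt q 999 then (bif Nat.blt q 997 then vec996 else (bif Nat.blt q 998 then vec997 else vec998)) else (bif Nat.blt q 1000 then vec999 else (bif Nat.blt q 1001 then vec1000 else vec1001)))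

/-- Part of the tree. -/
noncomputable def vecT_t171 (q : ℕ) : ℕ :=
  bif Nat.blt q 990 then (vecT_t169 q) else (vecT_t170 q)

/-- Part of the tree. -/
noncomputable def vecT_t172 (q : ℕ) : ℕ :=
  bif Nat.blt q 979 then (vecT_t168 q) else (vecT_t171 q)

/-- Part of the tree. -/
noncomputable def vecT_t173 (q : ℕ) : ℕ :=
  bif Nat.blt q 956 then (vecT_t165 q) else (vecT_t172 q)

/-- Part of the tree. -/
noncomputable def vecT_t174 (q : ℕ) : ℕ :=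
  bif Nat.blt q 1007 then (bif Nat.blt q 1004 then (bif Nat.blt q 1003 then vec1002 else vec1003) else (bif Nat.blt q 1005 then vec1004 else (bif Nat.blt q 1006 then vec1005 else vec1006))) else (bif Nat.blt q 1010 then (bif Nat.blt q 1008 then vec1007 else (bif Nat.blt q 1009 then vec1008 else vec1009)) else (bif Nat.blt q 1011 then vec1010 else (bif Nat.blt q 1012 then vec1011 else vec1012)))

/-- Part of the tree. -/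
noncomputable def vecT_t175 (q : ℕ) : ℕ :=
  bif Nat.blt q 1018 then (bif Nat.blt q 1015 then (bif Nat.blt q 1014 then vec1013 else vec1014) else (bif Nat.blt q 1016 then vec1015 else (bif Nat.blt q 1017 then vec1016 else vec1017))) else (bif Nat.blt q 1021 then (bif Nat.blt q 1019 then vec1018 else (bif Nat.blt q 1020 then vec1019 else vec1020)) else (bif Nat.blt q 1022 then vec1021 else (bif Nat.blt q 1023 then vec1022 else vec1023)))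

/-- Part of the tree. -/
noncomputable def vecT_t176 (q : ℕ) : ℕ :=
  bif Nat.blt q 1013 then (vecT_t174 q) else (vecT_t175 q)

/-- Part of the tree. -/
noncomputable def vecT_t177 (q : ℕ) : ℕ :=
  bif Nat.blt q 1029 then (bif Nat.blt q 1026 then (bif Nat.blt q 1025 then vec1024 else vec1025) else (bif Nat.blt q 1027 then vec1026 else (bif Nat.blt q 1028 then vec1027 else vec1028))) else (bif Nat.blt q 1032 then (bif Nat.blt q 1030 then vec1029 else (bif Nat.blt q 1031 then vec1030 else vec1031)) else (bif Nat.blt q 1033 then vec1032 else (bif Nat.blt q 1034 then vec1033 else vec1034)))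

/-- Part of the tree. -/
noncomputable def vecT_t178 (q : ℕ) : ℕ :=
  bif Nat.blt q 1041 then (bif Nat.blt q 1038 then (bif Nat.blt q 1036 then vec1035 else (bif Nat.blt q 1037 then vec1036 else vec1037)) else (bif Nat.blt q 1039 then vec1038 else (bif Nat.blt q 1040 then vec1039 else vec1040))) else (bif Nat.blt q 1044 then (bif Nat.blt q 1042 then vec1041 else (bif Nat.blt q 1043 then vec1042 else vec1043)) else (bif Nat.blt q 1045 then vec1044 else (bif Nat.blt q 1046 then vec1045 else vec1046)))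

/-- Part of the tree. -/
noncomputable def vecT_t179 (q : ℕ) : ℕ :=
  bif Nat.blt q 1035 then (vecT_t177 q) else (vecT_t178 q)

/-- Part of the tree. -/
noncomputable def vecT_t180 (q : ℕ) : ℕ :=
  bif Nat.blt q 1024 then (vecT_t176 q) else (vecT_t179 q)

/-- Part of the tree. -/
noncomputable def vecT_t181 (q : ℕ) : ℕ :=
  bif Nat.blt q 1052 then (bif Nat.blt q 1049 then (bif Nat.blt q 1048 then vec1047 else vec1048) else (bif Nat.blt q 1050 then vec1049 else (bif Nat.blt q 1051 then vec1050 else vec1051))) else (bif Nat.blt q 1055 then (bif Nat.blt q 1053 then vec1052 else (bif Nat.blt q 1054 then vec1053 else vec1054)) else (bif Nat.blt q 1056 then vec1055 else (bif Nat.blt q 1057 then vec1056 else vec1057)))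

/-- Part of the tree. -/
noncomputable def vecT_t182 (q : ℕ) : ℕ :=
  bif Nat.blt q 1064 then (bif Nat.blt q 1061 then (bif Nat.blt q 1059 then vec1058 else (bif Nat.blt q 1060 then vec1059 else vec1060)) else (bif Nat.blt q 1062 then vec1061 else (bif Nat.blt q 1063 then vec1062 else vec1063))) else (bif Nat.blt q 1067 then (bif Nat.blt q 1065 then vec1064 else (bif Nat.blt q 1066 then vec1065 else vec1066)) else (bif Nat.blt q 1068 then vec1067 else (bif Nat.blt q 1069 then vec1068 else vec1069)))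

/-- Part of the tree. -/
noncomputable def vecT_t183 (q : ℕ) : ℕ :=
  bif Nat.blt q 1058 then (vecT_t181 q) else (vecT_t182 q)

/-- Part of the tree. -/
noncomputable def vecT_t184 (q : ℕ) : ℕ :=
  bif Nat.blt q 1075 then (bif Nat.blt q 1072 then (bif Nat.blt q 1071 then vec1070 else vec1071) else (bif Nat.blt q 1073 then vec1072 else (bif Nat.blt q 1074 then vec1073 else vec1074))) else (bif Nat.blt q 1078 then (bif Nat.blt q 1076 then vec1075 else (bif Nat.blt q 1077 then vec1076 else vec1077)) else (bif Nat.blt q 1079 then vec1078 else (bif Nat.blt q 1080 then vec1079 else vec1080)))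

/-- Part of the tree. -/
noncomputable def vecT_t185 (q : ℕ) : ℕ :=
  bif Nat.blt q 1087 then (bif Nat.blt q 1084 then (bif Nat.blt q 1082 then vec1081 else (bif Nat.blt q 1083 then vec1082 else vec1083)) else (bif Nat.blt q 1085 then vec1084 else (bif Nat.blt q 1086 then vec1085 else vec1086))) else (bif Nat.blt q 1090 then (bif Nat.blt q 1088 then vec1087 else (bif Nat.blt q 1089 then vec1088 else vec1089)) else (bif Nat.blt q 1091 then vec1090 else (bif Nat.blt q 1092 then vec1091 else vec1092)))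

/-- Part of the tree. -/
noncomputable def vecT_t186 (q : ℕ) : ℕ :=
  bif Nat.blt q 1081 then (vecT_t184 q) else (vecT_t185 q)

/-- Part of the tree. -/
noncomputable def vecT_t187 (q : ℕ) : ℕ :=
  bif Nat.blt q 1070 then (vecT_t183 q) else (vecT_t186 q)

/-- Part of the tree. -/
noncomputable def vecT_t188 (q : ℕ) : ℕ :=
  bif Nat.blt q 1047 then (vecT_t180 q) else (vecT_t187 q)

/-- Part of the tree. -/
noncomputable def vecT_t189 (q : ℕ) : ℕ :=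
  bif Nat.blt q 1002 then (vecT_t173 q) else (vecT_t188 q)

/-- Part of the tree. -/
noncomputable def vecT_t190 (q : ℕ) : ℕ :=
  bif Nat.blt q 911 then (vecT_t158 q) else (vecT_t189 q)

/-- Part of the tree. -/
noncomputable def vecT_t191 (q : ℕ) : ℕ :=
  bif Nat.blt q 1098 then (bif Nat.blt q 1095 then (bif Nat.blt q 1094 then vec1093 else vec1094) else (bif Nat.blt q 1096 then vec1095 else (bif Nat.blt q 1097 then vec1096 else vec1097))) else (bif Nat.blt q 1101 then (bif Nat.blt q 1099 then vec1098 else (bif Nat.blt q 1100 then vec1099 else vec1100)) else (bif Nat.blt q 1102 then vec1101 else (bif Nat.blt q 1103 then vec1102 else vec1103)))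

/-- Part of the tree. -/
noncomputable def vecT_t192 (q : ℕ) : ℕ :=
  bif Nat.blt q 1109 then (bif Nat.blt q 1106 then (bif Nat.blt q 1105 then vec1104 else vec1105) else (bif Nat.blt q 1107 then vec1106 else (bif Nat.blt q 1108 then vec1107 else vec1108))) else (bif Nat.blt q 1112 then (bif Nat.blt q 1110 then vec1109 else (bif Nat.blt q 1111 then vec1110 else vec1111)) else (bif Nat.blt q 1113 then vec1112 else (bif Nat.blt q 1114 then vec1113 else vec1114)))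

/-- Part of the tree. -/
noncomputable def vecT_t193 (q : ℕ) : ℕ :=
  bif Nat.blt q 1104 then (vecT_t191 q) else (vecT_t192 q)

/-- Part of the tree. -/
noncomputable def vecT_t194 (q : ℕ) : ℕ :=
  bif Nat.blt q 1120 then (bif Nat.blt q 1117 then (bif Nat.blt q 1116 then vec1115 else vec1116) else (bif Nat.blt q 1118 then vec1117 else (bif Nat.blt q 1119 then vec1118 else vec1119))) else (bif Nat.blt q 1123 then (bif Nat.blt q 1121 then vec1120 else (bif Nat.blt q 1122 then vec1121 else vec1122)) else (bif Nat.blt q 1124 then vec1123 else (bif Nat.blt q 1125 then vec1124 else vec1125)))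

/-- Part of the tree. -/
noncomputable def vecT_t195 (q : ℕ) : ℕ :=
  bif Nat.blt q 1132 then (bif Nat.blt q 1129 then (bif Nat.blt q 1127 then vec1126 else (bif Nat.blt q 1128 then vec1127 else vec1128)) else (bif Nat.blt q 1130 then vec1129 else (bif Nat.blt q 1131 then vec1130 else vec1131))) else (bif Nat.blt q 1135 then (bif Nat.blt q 1133 then vec1132 else (bif Nat.blt q 1134 then vec1133 else vec1134)) else (bif Nat.blt q 1136 then vec1135 else (bif Nat.blt q 1137 then vec1136 else vec1137)))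

/-- Part of the tree. -/
noncomputable def vecT_t196 (q : ℕ) : ℕ :=
  bif Nat.blt q 1126 then (vecT_t194 q) else (vecT_t195 q)

/-- Part of the tree. -/
noncomputable def vecT_t197 (q : ℕ) : ℕ :=
  bif Nat.blt q 1115 then (vecT_t193 q) else (vecT_t196 q)

/-- Part of the tree. -/
noncomputable def vecT_t198 (q : ℕ) : ℕ :=
  bif Nat.blt q 1143 then (bif Nat.blt q 1140 then (bif Nat.blt q 1139 then vec1138 else vec1139) else (bif Nat.blt q 1141 then vec1140 else (bif Nat.blt q 1142 then vec1141 else vec1142))) else (bif Nat.blt q 1146 then (bif Nat.blt q 1144 then vec1143 else (bif Nat.blt q 1145 then vec1144 else vec1145)) else (bif Nat.blt q 1147 then vec1146 else (bif Nat.blt q 1148 then vec1147 else vec1148)))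

/-- Part of the tree. -/
noncomputable def vecT_t199 (q : ℕ) : ℕ :=
  bif Nat.blt q 1155 then (bif Nat.blt q 1152 then (bif Nat.blt q 1150 then vec1149 else (bif Nat.blt q 1151 then vec1150 else vec1151)) else (bif Nat.blt q 1153 then vec1152 else (bif Nat.blt q 1154 then vec1153 else vec1154))) else (bif Nat.blt q 1158 then (bif Nat.blt q 1156 then vec1155 else (bif Nat.blt q 1157 then vec1156 else vec1157)) else (bif Nat.blt q 1159 then vec1158 else (bif Nat.blt q 1160 then vec1159 else vec1160)))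

/-- Part of the tree. -/
noncomputable def vecT_t200 (q : ℕ) : ℕ :=
  bif Nat.blt q 1149 then (vecT_t198 q) else (vecT_t199 q)

/-- Part of the tree. -/
noncomputable def vecT_t201 (q : ℕ) : ℕ :=
  bif Nat.blt q 1166 then (bif Nat.blt q 1163 then (bif Nat.blt q 1162 then vec1161 else vec1162) else (bif Nat.blt q 1164 then vec1163 else (bif Nat.blt q 1165 then vec1164 else vec1165))) else (bif Nat.blt q 1169 then (bif Nat.blt q 1167 then vec1166 else (bif Nat.blt q 1168 then vec1167 else vec1168)) else (bif Nat.blt q 1170 then vec1169 else (bif Nat.blt q 1171 then vec1170 else vec1171)))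

/-- Part of the tree. -/
noncomputable def vecT_t202 (q : ℕ) : ℕ :=
  bif Nat.blt q 1178 then (bif Nat.blt q 1175 then (bif Nat.blt q 1173 then vec1172 else (bif Nat.blt q 1174 then vec1173 else vec1174)) else (bif Nat.blt q 1176 then vec1175 else (bif Nat.blt q 1177 then vec1176 else vec1177))) else (bif Nat.blt q 1181 then (bif Nat.blt q 1179 then vec1178 else (bif Nat.blt q 1180 then vec1179 else vec1180)) else (bif Nat.blt q 1182 then vec1181 else (bif Nat.blt q 1183 then vec1182 else vec1183)))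

/-- Part of the tree. -/
noncomputable def vecT_t203 (q : ℕ) : ℕ :=
  bif Nat.blt q 1172 then (vecT_t201 q) else (vecT_t202 q)

/-- Part of the tree. -/
noncomputable def vecT_t204 (q : ℕ) : ℕ :=
  bif Nat.blt q 1161 then (vecT_t200 q) else (vecT_t203 q)

/-- Part of the tree. -/
noncomputable def vecT_t205 (q : ℕ) : ℕ :=
  bif Nat.blt q 1138 then (vecT_t197 q) else (vecT_t204 q)

/-- Part of the tree. -/
noncomputable def vecT_t206 (q : ℕ) : ℕ :=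
  bif Nat.blt q 1189 then (bif Nat.blt q 1186 then (bif Nat.blt q 1185 then vec1184 else vec1185) else (bif Nat.blt q 1187 then vec1186 else (bif Nat.blt q 1188 then vec1187 else vec1188))) else (bif Nat.blt q 1192 then (bif Nat.blt q 1190 then vec1189 else (bif Nat.blt q 1191 then vec1190 else vec1191)) else (bif Nat.blt q 1193 then vec1192 else (bif Nat.blt q 1194 then vec1193 else vec1194)))

/-- Part of the tree. -/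
noncomputable def vecT_t207 (q : ℕ) : ℕ :=
  bif Nat.blt q 1200 then (bif Nat.blt q 1197 then (bif Nat.blt q 1196 then vec1195 else vec1196) else (bif Nat.blt q 1198 then vec1197 else (bif Nat.blt q 1199 then vec1198 else vec1199))) else (bif Nat.blt q 1203 then (bif Nat.blt q 1201 then vec1200 else (bif Nat.blt q 1202 then vec1201 else vec1202)) else (bif Nat.blt q 1204 then vec1203 else (bif Nat.blt q 1205 then vec1204 else vec1205)))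

/-- Part of the tree. -/
noncomputable def vecT_t208 (q : ℕ) : ℕ :=
  bif Nat.blt q 1195 then (vecT_t206 q) else (vecT_t207 q)

/-- Part of the tree. -/
noncomputable def vecT_t209 (q : ℕ) : ℕ :=
  bif Nat.blt q 1211 then (bif Nat.blt q 1208 then (bif Nat.blt q 1207 then vec1206 else vec1207) else (bif Nat.blt q 1209 then vec1208 else (bif Nat.blt q 1210 then vec1209 else vec1210))) else (bif Nat.blt q 1214 then (bif Nat.blt q 1212 then vec1211 else (bif Nat.blt q 1213 then vec1212 else vec1213)) else (bif Nat.blt q 1215 then vec1214 else (bif Nat.blt q 1216 then vec1215 else vec1216)))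

/-- Part of the tree. -/
noncomputable def vecT_t210 (q : ℕ) : ℕ :=
  bif Nat.blt q 1223 then (bif Nat.blt q 1220 then (bif Nat.blt q 1218 then vec1217 else (bif Nat.blt q 1219 then vec1218 else vec1219)) else (bif Nat.blt q 1221 then vec1220 else (bif Nat.blt q 1222 then vec1221 else vec1222))) else (bif Nat.blt q 1226 then (bif Nat.blt q 1224 then vec1223 else (bif Nat.blt q 1225 then vec1224 else vec1225)) else (bif Nat.blt q 1227 then vec1226 else (bif Nat.blt q 1228 then vec1227 else vec1228)))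

/-- Part of the tree. -/
noncomputable def vecT_t211 (q : ℕ) : ℕ :=
  bif Nat.blt q 1217 then (vecT_t209 q) else (vecT_t210 q)

/-- Part of the tree. -/
noncomputable def vecT_t212 (q : ℕ) : ℕ :=
  bif Nat.blt q 1206 then (vecT_t208 q) else (vecT_t211 q)

/-- Part of the tree. -/
noncomputable def vecT_t213 (q : ℕ) : ℕ :=
  bif Nat.blt q 1234 then (bif Nat.blt q 1231 then (bif Nat.blt q 1230 then vec1229 else vec1230) else (bif Nat.blt q 1232 then vec1231 else (bif Nat.blt q 1233 then vec1232 else vec1233))) else (bif Nat.blt q 1237 then (bif Nat.blt q 1235 then vec1234 else (bif Nat.blt q 1236 then vec1235 else vec1236)) else (bif Nat.blt q 1238 then vec1237 else (bif Nat.blt q 1239 then vec1238 else vec1239)))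

/-- Part of the tree. -/
noncomputable def vecT_t214 (q : ℕ) : ℕ :=
  bif Nat.blt q 1246 then (bif Nat.blt q 1243 then (bif Nat.blt q 1241 then vec1240 else (bif Nat.blt q 1242 then vec1241 else vec1242)) else (bif Nat.blt q 1244 then vec1243 else (bif Nat.blt q 1245 then vec1244 else vec1245))) else (bif Nat.blt q 1249 then (bif Nat.blt q 1247 then vec1246 else (bif Nat.blt q 1248 then vec1247 else vec1248)) else (bif Nat.blt q 1250 then vec1249 else (bif Nat.blt q 1251 then vec1250 else vec1251)))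

/-- Part of the tree. -/
noncomputable def vecT_t215 (q : ℕ) : ℕ :=
  bif Nat.blt q 1240 then (vecT_t213 q) else (vecT_t214 q)

/-- Part of the tree. -/
noncomputable def vecT_t216 (q : ℕ) : ℕ :=
  bif Nat.blt q 1257 then (bif Nat.blt q 1254 then (bif Nat.blt q 1253 then vec1252 else vec1253) else (bif Nat.blt q 1255 then vec1254 else (bif Nat.blt q 1256 then vec1255 else vec1256))) else (bif Nat.blt q 1260 then (bif Nat.blt q 1258 then vec1257 else (bif Nat.blt q 1259 then vec1258 else vec1259)) else (bif Nat.blt q 1261 then vec1260 else (bif Nat.blt q 1262 then vec1261 else vec1262)))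

/-- Part of the tree. -/
noncomputable def vecT_t217 (q : ℕ) : ℕ :=
  bif Nat.blt q 1269 then (bif Nat.blt q 1266 then (bif Nat.blt q 1264 then vec1263 else (bif Nat.blt q 1265 then vec1264 else vec1265)) else (bif Nat.blt q 1267 then vec1266 else (bif Nat.blt q 1268 then vec1267 else vec1268))) else (bif Nat.blt q 1272 then (bif Nat.blt q 1270 then vec1269 else (bif Nat.blt q 1271 then vec1270 else vec1271)) else (bif Nat.blt q 1273 then vec1272 else (bif Nat.blt q 1274 then vec1273 else vec1274)))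

/-- Part of the tree. -/
noncomputable def vecT_t218 (q : ℕ) : ℕ :=
  bif Nat.blt q 1263 then (vecT_t216 q) else (vecT_t217 q)

/-- Part of the tree. -/
noncomputable def vecT_t219 (q : ℕ) : ℕ :=
  bif Nat.blt q 1252 then (vecT_t215 q) else (vecT_t218 q)

/-- Part of the tree. -/
noncomputable def vecT_t220 (q : ℕ) : ℕ :=
  bif Nat.blt q 1229 then (vecT_t212 q) else (vecT_t219 q)

/-- Part of the tree. -/
noncomputable def vecT_t221 (q : ℕ) : ℕ :=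
  bif Nat.blt q 1184 then (vecT_t205 q) else (vecT_t220 q)

/-- Part of the tree. -/
noncomputable def vecT_t222 (q : ℕ) : ℕ :=
  bif Nat.blt q 1280 then (bif Nat.blt q 1277 then (bif Nat.blt q 1276 then vec1275 else vec1276) else (bif Nat.blt q 1278 then vec1277 else (bif Nat.blt q 1279 then vec1278 else vec1279))) else (bif Nat.blt q 1283 then (bif Nat.blt q 1281 then vec1280 else (bif Nat.blt q 1282 then vec1281 else vec1282)) else (bif Nat.blt q 1284 then vec1283 else (bif Nat.blt q 1285 then vec1284 else vec1285)))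

/-- Part of the tree. -/
noncomputable def vecT_t223 (q : ℕ) : ℕ :=
  bif Nat.blt q 1291 then (bif Nat.blt q 1288 then (bif Nat.blt q 1287 then vec1286 else vec1287) else (bif Nat.blt q 1289 then vec1288 else (bif Nat.blt q 1290 then vec1289 else vec1290))) else (bif Nat.blt q 1294 then (bif Nat.blt q 1292 then vec1291 else (bif Nat.blt q 1293 then vec1292 else vec1293)) else (bif Nat.blt q 1295 then vec1294 else (bif Nat.blt q 1296 then vec1295 else vec1296)))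

/-- Part of the tree. -/
noncomputable def vecT_t224 (q : ℕ) : ℕ :=
  bif Nat.blt q 1286 then (vecT_t222 q) else (vecT_t223 q)

/-- Part of the tree. -/
noncomputable def vecT_t225 (q : ℕ) : ℕ :=
  bif Nat.blt q 1302 then (bif Nat.blt q 1299 then (bif Nat.blt q 1298 then vec1297 else vec1298) else (bif Nat.blt q 1300 then vec1299 else (bif Nat.blt q 1301 then vec1300 else vec1301))) else (bif Nat.blt q 1305 then (bif Nat.blt q 1303 then vec1302 else (bif Nat.blt q 1304 then vec1303 else vec1304)) else (bif Nat.blt q 1306 then vec1305 else (bif Nat.blt q 1307 then vec1306 else vec1307)))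

/-- Part of the tree. -/
noncomputable def vecT_t226 (q : ℕ) : ℕ :=
  bif Nat.blt q 1314 then (bif Nat.blt q 1311 then (bif Nat.blt q 1309 then vec1308 else (bif Nat.blt q 1310 then vec1309 else vec1310)) else (bif Nat.blt q 1312 then vec1311 else (bif Nat.blt q 1313 then vec1312 else vec1313))) else (bif Nat.blt q 1317 then (bif Nat.blt q 1315 then vec1314 else (bif Nat.blt q 1316 then vec1315 else vec1316)) else (bif Nat.blt q 1318 then vec1317 else (bif Nat.blt q 1319 then vec1318 else vec1319)))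

/-- Part of the tree. -/
noncomputable def vecT_t227 (q : ℕ) : ℕ :=
  bif Nat.blt q 1308 then (vecT_t225 q) else (vecT_t226 q)

/-- Part of the tree. -/
noncomputable def vecT_t228 (q : ℕ) : ℕ :=
  bif Nat.blt q 1297 then (vecT_t224 q) else (vecT_t227 q)

/-- Part of the tree. -/
noncomputable def vecT_t229 (q : ℕ) : ℕ :=
  bif Nat.blt q 1325 then (bif Nat.blt q 1322 then (bif Nat.blt q 1321 then vec1320 else vec1321) else (bif Nat.blt q 1323 then vec1322 else (bif Nat.blt q 1324 then vec1323 else vec1324))) else (bif Nat.blt q 1328 then (bif Nat.blt q 1326 then vec1325 else (bif Nat.blt q 1327 then vec1326 else vec1327)) else (bif Nat.blt q 1329 then vec1328 else (bif Nat.blt q 1330 then vec1329 else vec1330)))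

/-- Part of the tree. -/
noncomputable def vecT_t230 (q : ℕ) : ℕ :=
  bif Nat.blt q 1337 then (bif Nat.blt q 1334 then (bif Nat.blt q 1332 then vec1331 else (bif Nat.blt q 1333 then vec1332 else vec1333)) else (bif Nat.blt q 1335 then vec1334 else (bif Nat.blt q 1336 then vec1335 else vec1336))) else (bif Nat.blt q 1340 then (bif Nat.blt q 1338 then vec1337 else (bif Nat.blt q 1339 then vec1338 else vec1339)) else (bif Nat.blt q 1341 then vec1340 else (bif Nat.blt q 1342 then vec1341 else vec1342)))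

/-- Part of the tree. -/
noncomputable def vecT_t231 (q : ℕ) : ℕ :=
  bif Nat.blt q 1331 then (vecT_t229 q) else (vecT_t230 q)

/-- Part of the tree. -/
noncomputable def vecT_t232 (q : ℕ) : ℕ :=
  bif Nat.blt q 1348 then (bif Nat.blt q 1345 then (bif Nat.blt q 1344 then vec1343 else vec1344) else (bif Nat.blt q 1346 then vec1345 else (bif Nat.blt q 1347 then vec1346 else vec1347))) else (bif Nat.blt q 1351 then (bif Nat.blt q 1349 then vec1348 else (bif Nat.blt q 1350 then vec1349 else vec1350)) else (bif Nat.blt q 1352 then vec1351 else (bif Nat.blt q 1353 then vec1352 else vec1353)))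

/-- Part of the tree. -/
noncomputable def vecT_t233 (q : ℕ) : ℕ :=
  bif Nat.blt q 1360 then (bif Nat.blt q 1357 then (bif Nat.blt q 1355 then vec1354 else (bif Nat.blt q 1356 then vec1355 else vec1356)) else (bif Nat.blt q 1358 then vec1357 else (bif Nat.blt q 1359 then vec1358 else vec1359))) else (bif Nat.blt q 1363 then (bif Nat.blt q 1361 then vec1360 else (bif Nat.blt q 1362 then vec1361 else vec1362)) else (bif Nat.blt q 1364 then vec1363 else (bif Nat.blt q 1365 then vec1364 else vec1365)))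

/-- Part of the tree. -/
noncomputable def vecT_t234 (q : ℕ) : ℕ :=
  bif Nat.blt q 1354 then (vecT_t232 q) else (vecT_t233 q)

/-- Part of the tree. -/
noncomputable def vecT_t235 (q : ℕ) : ℕ :=
  bif Nat.blt q 1343 then (vecT_t231 q) else (vecT_t234 q)

/-- Part of the tree. -/
noncomputable def vecT_t236 (q : ℕ) : ℕ :=
  bif Nat.blt q 1320 then (vecT_t228 q) else (vecT_t235 q)

/-- Part of the tree. -/
noncomputable def vecT_t237 (q : ℕ) : ℕ :=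
  bif Nat.blt q 1371 then (bif Nat.blt q 1368 then (bif Nat.blt q 1367 then vec1366 else vec1367) else (bif Nat.blt q 1369 then vec1368 else (bif Nat.blt q 1370 then vec1369 else vec1370))) else (bif Nat.blt q 1374 then (bif Nat.blt q 1372 then vec1371 else (bif Nat.blt q 1373 then vec1372 else vec1373)) else (bif Nat.blt q 1375 then vec1374 else (bif Nat.blt q 1376 then vec1375 else vec1376)))

/-- Part of the tree. -/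
noncomputable def vecT_t238 (q : ℕ) : ℕ :=
  bif Nat.blt q 1383 then (bif Nat.blt q 1380 then (bif Nat.blt q 1378 then vec1377 else (bif Nat.blt q 1379 then vec1378 else vec1379)) else (bif Nat.blt q 1381 then vec1380 else (bif Nat.blt q 1382 then vec1381 else vec1382))) else (bif Nat.blt q 1386 then (bif Nat.blt q 1384 then vec1383 else (bif Nat.blt q 1385 then vec1384 else vec1385)) else (bif Nat.blt q 1387 then vec1386 else (bif Nat.blt q 1388 then vec1387 else vec1388)))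

/-- Part of the tree. -/
noncomputable def vecT_t239 (q : ℕ) : ℕ :=
  bif Nat.blt q 1377 then (vecT_t237 q) else (vecT_t238 q)

/-- Part of the tree. -/
noncomputable def vecT_t240 (q : ℕ) : ℕ :=
  bif Nat.blt q 1394 then (bif Nat.blt q 1391 then (bif Nat.blt q 1390 then vec1389 else vec1390) else (bif Nat.blt q 1392 then vec1391 else (bif Nat.blt q 1393 then vec1392 else vec1393))) else (bif Nat.blt q 1397 then (bif Nat.blt q 1395 then vec1394 else (bif Nat.blt q 1396 then vec1395 else vec1396)) else (bif Nat.blt q 1398 then vec1397 else (bif Nat.blt q 1399 then vec1398 else vec1399)))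

/-- Part of the tree. -/
noncomputable def vecT_t241 (q : ℕ) : ℕ :=
  bif Nat.blt q 1406 then (bif Nat.blt q 1403 then (bif Nat.blt q 1401 then vec1400 else (bif Nat.blt q 1402 then vec1401 else vec1402)) else (bif Nat.blt q 1404 then vec1403 else (bif Nat.blt q 1405 then vec1404 else vec1405))) else (bif Nat.blt q 1409 then (bif Nat.blt q 1407 then vec1406 else (bif Nat.blt q 1408 then vec1407 else vec1408)) else (bif Nat.blt q 1410 then vec1409 else (bif Nat.blt q 1411 then vec1410 else vec1411)))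

/-- Part of the tree. -/
noncomputable def vecT_t242 (q : ℕ) : ℕ :=
  bif Nat.blt q 1400 then (vecT_t240 q) else (vecT_t241 q)

/-- Part of the tree. -/
noncomputable def vecT_t243 (q : ℕ) : ℕ :=
  bif Nat.blt q 1389 then (vecT_t239 q) else (vecT_t242 q)

/-- Part of the tree. -/
noncomputable def vecT_t244 (q : ℕ) : ℕ :=
  bif Nat.blt q 1417 then (bif Nat.blt q 1414 then (bif Nat.blt q 1413 then vec1412 else vec1413) else (bif Nat.blt q 1415 then vec1414 else (bif Nat.blt q 1416 then vec1415 else vec1416))) else (bif Nat.blt q 1420 then (bif Nat.blt q 1418 then vec1417 else (bif Nat.blt q 1419 then vec1418 else vec1419)) else (bif Nat.blt q 1421 then vec1420 else (bif Nat.blt q 1422 then vec1421 else vec1422)))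

/-- Part of the tree. -/
noncomputable def vecT_t245 (q : ℕ) : ℕ :=
  bif Nat.blt q 1429 then (bif Nat.blt q 1426 then (bif Nat.blt q 1424 then vec1423 else (bif Nat.blt q 1425 then vec1424 else vec1425)) else (bif Nat.blt q 1427 then vec1426 else (bif Nat.blt q 1428 then vec1427 else vec1428))) else (bif Nat.blt q 1432 then (bif Nat.blt q 1430 then vec1429 else (bif Nat.blt q 1431 then vec1430 else vec1431)) else (bif Nat.blt q 1433 then vec1432 else (bif Nat.blt q 1434 then vec1433 else vec1434)))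

/-- Part of the tree. -/
noncomputable def vecT_t246 (q : ℕ) : ℕ :=
  bif Nat.blt q 1423 then (vecT_t244 q) else (vecT_t245 q)

/-- Part of the tree. -/
noncomputable def vecT_t247 (q : ℕ) : ℕ :=
  bif Nat.blt q 1440 then (bif Nat.blt q 1437 then (bif Nat.blt q 1436 then vec1435 else vec1436) else (bif Nat.blt q 1438 then vec1437 else (bif Nat.blt q 1439 then vec1438 else vec1439))) else (bif Nat.blt q 1443 then (bif Nat.blt q 1441 then vec1440 else (bif Nat.blt q 1442 then vec1441 else vec1442)) else (bif Nat.blt q 1444 then vec1443 else (bif Nat.blt q 1445 then vec1444 else vec1445)))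

/-- Part of the tree. -/
noncomputable def vecT_t248 (q : ℕ) : ℕ :=
  bif Nat.blt q 1452 then (bif Nat.blt q 1449 then (bif Nat.blt q 1447 then vec1446 else (bif Nat.blt q 1448 then vec1447 else vec1448)) else (bif Nat.blt q 1450 then vec1449 else (bif Nat.blt q 1451 then vec1450 else vec1451))) else (bif Nat.blt q 1455 then (bif Nat.blt q 1453 then vec1452 else (bif Nat.blt q 1454 then vec1453 else vec1454)) else (bif Nat.blt q 1456 then vec1455 else (bif Nat.blt q 1457 then vec1456 else vec1457)))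

/-- Part of the tree. -/
noncomputable def vecT_t249 (q : ℕ) : ℕ :=
  bif Nat.blt q 1446 then (vecT_t247 q) else (vecT_t248 q)

/-- Part of the tree. -/
noncomputable def vecT_t250 (q : ℕ) : ℕ :=
  bif Nat.blt q 1435 then (vecT_t246 q) else (vecT_t249 q)

/-- Part of the tree. -/
noncomputable def vecT_t251 (q : ℕ) : ℕ :=
  bif Nat.blt q 1412 then (vecT_t243 q) else (vecT_t250 q)

/-- Part of the tree. -/
noncomputable def vecT_t252 (q : ℕ) : ℕ :=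
  bif Nat.blt q 1366 then (vecT_t236 q) else (vecT_t251 q)

/-- Part of the tree. -/
noncomputable def vecT_t253 (q : ℕ) : ℕ :=
  bif Nat.blt q 1275 then (vecT_t221 q) else (vecT_t252 q)

/-- Part of the tree. -/
noncomputable def vecT_t254 (q : ℕ) : ℕ :=
  bif Nat.blt q 1093 then (vecT_t190 q) else (vecT_t253 q)

/-- Part of the tree. -/
noncomputable def vecT_t255 (q : ℕ) : ℕ :=
  bif Nat.blt q 729 then (vecT_t127 q) else (vecT_t254 q)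

/-- Lookup. -/
noncomputable def vecT (q : ℕ) : ℕ :=
  bif Nat.blt q 1458 then (vecT_t255 q) else (ramp 12 11)

/-- Part of the tree. -/
noncomputable def awT_t1 (q : ℕ) : List ℕ :=
  bif Nat.blt q 5 then (bif Nat.blt q 2 then (bif Nat.blt q 1 then [1] else [0]) else (bif Nat.blt q 3 then [3] else (bif Nat.blt q 4 then [2] else [4]))) else (bif Nat.blt q 8 then (bif Nat.blt q 6 then [5] else (bif Nat.blt q 7 then [] else [])) else (bif Nat.blt q 9 then [] else (bif Nat.blt q 10 then [] else [1,2,1,3,3,1,3,1,3,3,1,2,0,2,0,2,2,1,3,3,1,3,3,0,3,3,1,2,2,0])))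

/-- Part of the tree. -/
noncomputable def awT_t2 (q : ℕ) : List ℕ :=
  bif Nat.blt q 16 then (bif Nat.blt q 13 then (bif Nat.blt q 12 then [1,3,3,0,2,2,1,2,2,0,2,2,0,3,3,1,3,1,3,0,2,2,0,2,0,2,2,0,3,0] else [1,2,1,3,3,1,3,1,3,3,1,2,0,3,3,1,3,1,2,0,2,2,0]) else (bif Nat.blt q 14 then [1,3,3,1,3,0,2,0,2,2,1,3,0,2,2,0,2,0,2,2,0,3,0] else (bif Nat.blt q 15 then [1,3,3,0] else [1,2,2,0]))) else (bif Nat.blt q 19 then (bif Nat.blt q 17 then [1,3,1,2,1,2,1,3,1,3,0,2,1,2,0,3,1,2,1,3,3,1,3,1,3,3,1,2,2,1,2,0,2,0,3,3,3,1,3,0,3] else (bif Nat.blt q 18 then [2,1,2,0,2,2,2,1,3,1,3,0,3,3,0,2,2,0,2,0,2,2,0,3,0,2,1,3,0,3,1,2,0,2,0,3,0,3,0,2,0] else [])) else (bif Nat.blt q 20 then [] else (bif Nat.blt q 21 then [0] else [1])))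

/-- Part of the tree. -/
noncomputable def awT_t3 (q : ℕ) : List ℕ :=
  bif Nat.blt q 11 then (awT_t1 q) else (awT_t2 q)

/-- Part of the tree. -/
noncomputable def awT_t4 (q : ℕ) : List ℕ :=
  bif Nat.blt q 27 then (bif Nat.blt q 24 then (bif Nat.blt q 23 then [1,1] else [0,0]) else (bif Nat.blt q 25 then [] else (bif Nat.blt q 26 then [] else [1]))) else (bif Nat.blt q 30 then (bif Nat.blt q 28 then [0] else (bif Nat.blt q 29 then [1,1] else [0,0])) else (bif Nat.blt q 31 then [4] else (bif Nat.blt q 32 then [5] else [1,1,4])))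

/-- Part of the tree. -/
noncomputable def awT_t5 (q : ℕ) : List ℕ :=
  bif Nat.blt q 39 then (bif Nat.blt q 36 then (bif Nat.blt q 34 then [5,0,0] else (bif Nat.blt q 35 then [0] else [1])) else (bif Nat.blt q 37 then [1] else (bif Nat.blt q 38 then [0] else [1,4]))) else (bif Nat.blt q 42 then (bif Nat.blt q 40 then [5,0] else (bif Nat.blt q 41 then [] else [])) else (bif Nat.blt q 43 then [2,1,2,1,3,3,0,2,0,2,1,2,2,0,2] else (bif Nat.blt q 44 then [3,1,3,3,0,3,1,3,1,2,2,0,3,0,3] else [2,2,1,2,2,1,3,0,3,3,0,3,1,2,1,2,1,2,2,1,3,1,2,0])))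

/-- Part of the tree. -/
noncomputable def awT_t6 (q : ℕ) : List ℕ :=
  bif Nat.blt q 33 then (awT_t4 q) else (awT_t5 q)

/-- Part of the tree. -/
noncomputable def awT_t7 (q : ℕ) : List ℕ :=
  bif Nat.blt q 22 then (awT_t3 q) else (awT_t6 q)

/-- Part of the tree. -/
noncomputable def awT_t8 (q : ℕ) : List ℕ :=
  bif Nat.blt q 50 then (bif Nat.blt q 47 then (bif Nat.blt q 46 then [1,3,0,2,0,3,3,0,3,0,3,0,2,1,2,2,1,2,0,3,3,0,3,3] else [4]) else (bif Nat.blt q 48 then [5] else (bif Nat.blt q 49 then [0,4] else [5,1]))) else (bif Nat.blt q 53 then (bif Nat.blt q 51 then [4] else (bif Nat.blt q 52 then [5] else [1,1,4])) else (bif Nat.blt q 54 then [5,0,0] else (bif Nat.blt q 55 then [0,4] else [5,1])))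

/-- Part of the tree. -/
noncomputable def awT_t9 (q : ℕ) : List ℕ :=
  bif Nat.blt q 62 then (bif Nat.blt q 59 then (bif Nat.blt q 57 then [] else (bif Nat.blt q 58 then [] else [1,3,1,3,0,3,0,3,3,3,0,2,1,2,1,3,3,3,1,2,0,3,0])) else (bif Nat.blt q 60 then [1,2,1,3,0,2,2,2,0,3,0,3,1,2,2,2,1,2,1,2,0,2,0] else (bif Nat.blt q 61 then [1,3,1,2,1,2,1,3,1,3,0,2,1,2,0,0,2,1,2,0,2,2,0,2,0,3,3,0,2,2,1,3,0,2] else [3,1,2,0,3,3,1,2,2,1,3,1,3,3,1,3,0,3,1,1,3,0,3,1,2,0,2,0,3,0,3,0,2,0]))) else (bif Nat.blt q 65 then (bif Nat.blt q 63 then [4] else (bif Nat.blt q 64 then [5] else [4])) else (bif Nat.blt q 66 then [5] else (bif Nat.blt q 67 then [1] else [0])))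

/-- Part of the tree. -/
noncomputable def awT_t10 (q : ℕ) : List ℕ :=
  bif Nat.blt q 56 then (awT_t8 q) else (awT_t9 q)

/-- Part of the tree. -/
noncomputable def awT_t11 (q : ℕ) : List ℕ :=
  bif Nat.blt q 73 then (bif Nat.blt q 70 then (bif Nat.blt q 69 then [4] else [5]) else (bif Nat.blt q 71 then [1,1,4] else (bif Nat.blt q 72 then [5,0,0] else [0]))) else (bif Nat.blt q 76 then (bif Nat.blt q 74 then [1] else (bif Nat.blt q 75 then [1,4] else [5,0])) else (bif Nat.blt q 77 then [1,1] else (bif Nat.blt q 78 then [0,0] else [1,4])))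

/-- Part of the tree. -/
noncomputable def awT_t12 (q : ℕ) : List ℕ :=
  bif Nat.blt q 85 then (bif Nat.blt q 82 then (bif Nat.blt q 80 then [5,0] else (bif Nat.blt q 81 then [] else [])) else (bif Nat.blt q 83 then [1,1] else (bif Nat.blt q 84 then [0,0] else [0]))) else (bif Nat.blt q 88 then (bif Nat.blt q 86 then [1] else (bif Nat.blt q 87 then [1] else [0])) else (bif Nat.blt q 89 then [4,2,1,4] else (bif Nat.blt q 90 then [5,0,3,5] else [])))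

/-- Part of the tree. -/
noncomputable def awT_t13 (q : ℕ) : List ℕ :=
  bif Nat.blt q 79 then (awT_t11 q) else (awT_t12 q)

/-- Part of the tree. -/
noncomputable def awT_t14 (q : ℕ) : List ℕ :=
  bif Nat.blt q 68 then (awT_t10 q) else (awT_t13 q)

/-- Part of the tree. -/
noncomputable def awT_t15 (q : ℕ) : List ℕ :=
  bif Nat.blt q 45 then (awT_t7 q) else (awT_t14 q)

/-- Part of the tree. -/
noncomputable def awT_t16 (q : ℕ) : List ℕ :=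
  bif Nat.blt q 96 then (bif Nat.blt q 93 then (bif Nat.blt q 92 then [] else [1,3,1,2,1,2,1,3,1,3,0,2,1,2,0,3,1,3,0,3,1,2,1,3,3,0,3,3,3,1,2,2,0,2,0,3]) else (bif Nat.blt q 94 then [2,1,3,1,3,3,0,2,2,2,1,2,2,0,3,0,2,1,2,0,2,1,3,0,3,1,2,0,2,0,3,0,3,0,2,0] else (bif Nat.blt q 95 then [1,3,1,2,1,2,1,3,1,3,0,2,2,2,1,3,3,3,0,3,3,1,2,0,3,3,3,1,3,3,1,2,2,0,2,0,3] else [2,1,3,1,3,3,0,2,2,0,2,2,2,1,3,0,2,2,1,2,2,2,0,3,3,3,1,2,0,2,0,3,0,3,0,2,0]))) else (bif Nat.blt q 99 then (bif Nat.blt q 97 then [1,3,1,2,1,2,1,3,1,3,0,2,1,2,0,3,1,2,1,3,3,1,3,1,3,3,1,2,2,1,3,3,0,2,0,3,3,1,2,2,0,3,3,1,3,3,3,0,4] else (bif Nat.blt q 98 then [5,1,2,2,2,0,2,2,1,3,3,0,2,2,1,3,1,2,2,0,3,3,0,2,2,0,2,0,2,2,0,3,0,2,1,3,0,3,1,2,0,2,0,3,0,3,0,2,0] else [1,2,1,2,2,0,2,4,3,1,3,4])) else (bif Nat.blt q 100 then [5,2,0,2,5,3,1,3,3,0,3,0] else (bif Nat.blt q 101 then [1,2,1,3,3,1,3,1,3,3,1,2,2,1,3,3,0,2,0,3,1,3,1,2,0,2,0,3,3,3,1,2,0,2,4]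 else [5,3,1,3,0,2,2,2,1,3,1,3,0,2,0,2,1,3,1,2,2,0,3,3,0,2,2,0,2,0,2,2,0,3,0])))

/-- Part of the tree. -/
noncomputable def awT_t17 (q : ℕ) : List ℕ :=
  bif Nat.blt q 107 then (bif Nat.blt q 104 then (bif Nat.blt q 103 then [1,2,1,2,2,0,2,4,3,1,3,4] else [5,2,0,2,5,3,1,3,3,0,3,0]) else (bif Nat.blt q 105 then [1,3,1,2,1,2,1,3,1,3,0,2,1,2,0,3,3,1,2,1,3,3,1,3,3,1,3,1,2,1,2,0,2,2,0,3,3,1,3,3,0,3,3,3,1,3,0,2,0,2,1,3,0,3,1,4] else (bif Nat.blt q 106 then [5,0,2,1,2,0,3,1,3,1,2,0,2,2,2,1,2,2,0,2,2,1,3,3,1,3,0,3,0,2,0,2,2,0,2,2,0,3,0,2,2,1,3,0,3,1,2,0,2,0,3,0,3,0,2,0] else [2,1,1,4]))) else (bif Nat.blt q 110 then (bif Nat.blt q 108 then [5,0,0,3] else (bif Nat.blt q 109 then [2,4] else [5,3])) else (bif Nat.blt q 111 then [1,3,1,2,1,2,1,3,1,3,0,2,1,2,0,3,1,2,1,3,3,0,3,3,3,1,2,2,0,3,0,3,0,3,1,2,0,2,2,1,2,1,2,0,3,1,3,0,3,0,4,3,4,2] else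 (bif Nat.blt q 112 then [3,5,2,5,1,2,1,2,0,2,1,3,0,3,0,3,3,1,3,0,2,1,2,1,2,1,3,3,0,2,2,2,1,2,2,0,3,0,2,1,3,0,3,1,2,0,2,0,3,0,3,0,2,0] else [1,3,1,2,1,2,1,3,1,3,0,2,1,2,0,3,0,3,0,3,0,3,3,1,3,1,2,2,1,3,3,3,1,3,1,2,1,2,2,1,3,1,2,0,3,3,3,1,2,0,3,4])))

/-- Part of the tree. -/
noncomputable def awT_t18 (q : ℕ) : List ℕ :=
  bif Nat.blt q 102 then (awT_t16 q) else (awT_t17 q)

/-- Part of the tree. -/
noncomputable def awT_t19 (q : ℕ) : List ℕ :=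
  bif Nat.blt q 118 then (bif Nat.blt q 115 then (bif Nat.blt q 114 then [5,2,1,3,0,2,2,2,1,3,0,2,0,3,3,0,3,0,2,0,2,2,2,0,3,3,0,2,0,2,2,1,2,1,2,1,2,1,3,0,3,1,2,0,2,0,3,0,3,0,2,0] else [4,2,4]) else (bif Nat.blt q 116 then [5,3,5] else (bif Nat.blt q 117 then [2,4] else [5,3]))) else (bif Nat.blt q 121 then (bif Nat.blt q 119 then [2,2,1,2,2,1,2,2,0,2,0,2,2,2,1,3,0,3,3,4,2,4,3,4,3,4,2,4,0,2,4,3,3,3,3,1,3,0,2,0,2,1,3,0,3,1,3,4,2,4] else (bif Nat.blt q 120 then [5,3,5,2,0,2,1,2,0,3,1,3,1,2,0,2,2,2,2,5,3,1,5,3,5,2,5,2,5,3,5,2,2,1,2,0,3,3,3,1,3,1,3,3,0,3,3,0,3,3] else [2,1,2,0,0,4])) else (bif Nat.blt q 122 then [5,1,1,3,0,3] else (bif Nat.blt q 123 then [1,3,1,2,1,2,1,3,1,3,0,2,1,2,0,2,1,2,2,1,3,0,3,3,0,3,1,2,2,0,3,1,3,3,0,2,2,1,3,3,0,3,3,3,3,1,3,0,2,0,2,1,3,0,3,1,3,1,4,3,1,3,4] else [5,2,0,2,5,0,2,0,2,1,2,0,3,1,3,1,2,0,2,2,2,2,1,2,2,0,3,3,1,2,2,0,2,1,3,3,0,2,1,2,2,1,2,0,3,3,0,3,1,3,0,3,1,2,0,2,0,3,0,3,0,2,0])))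

/-- Part of the tree. -/
noncomputable def awT_t20 (q : ℕ) : List ℕ :=
  bif Nat.blt q 130 then (bif Nat.blt q 127 then (bif Nat.blt q 125 then [1,3,1,2,1,2,1,3,1,3,0,2,1,2,0,3,1,2,1,3,3,0,3,3,3,1,2,2,0,3,0,2,1,3,3,1,2,2,2,0,3,0,3,1,4,3,4,2,4] else (bif Nat.blt q 126 then [5,3,5,2,5,0,2,1,2,1,3,3,3,0,2,2,0,3,1,2,1,3,3,0,2,2,2,1,2,2,0,3,0,2,1,3,0,3,1,2,0,2,0,3,0,3,0,2,0] else [2,2,1,2,2,1,2,2,0,2,0,2,2,2,1,3,0,3,3,3,3,1,2,1,2,0,3,1,2,2,0,2,0,3,3,1,3,0,2,0,2,1,3,0,3,1,4,3,4,2,2,1,4])) else (bif Nat.blt q 128 then [5,0,3,3,5,2,5,0,2,1,2,0,3,1,3,1,2,0,2,2,1,3,1,3,3,0,2,1,3,0,3,0,2,2,2,2,1,2,0,3,3,3,1,3,1,3,3,0,3,3,0,3,3] else (bif Nat.blt q 129 then [1,3,1,2,1,2,1,3,1,3,0,2,1,2,0,3,0,3,0,3,0,3,3,1,3,1,2,2,1,3,3,3,1,3,1,2,1,2,2,1,3,1,2,0,3,3,3,1,2,0,3,1,4,2,1,4] else [5,0,3,5,0,2,1,3,0,2,2,2,1,3,0,2,0,3,3,0,3,0,2,0,2,2,2,0,3,3,0,2,0,2,2,1,2,1,2,1,2,1,3,0,3,1,2,0,2,0,3,0,3,0,2,0])))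 else (bif Nat.blt q 133 then (bif Nat.blt q 131 then [1,2,1,3,3,0,3,3,3,1,2,2,0,3,0,2,1,3,0,2,2,2,1,2,0,2,1,4,2,2,1,2,1,2] else (bif Nat.blt q 132 then [3,0,3,0,3,3,5,0,3,1,3,0,3,3,3,1,2,0,3,1,2,1,3,3,0,2,2,2,1,2,2,0,3,0] else [3,3,1,3,3,1,3,0,3,3,0,3,3,3,3,3,1,3,0,2,2,1,4,3,1,4])) else (bif Nat.blt q 134 then [5,0,2,5,0,3,3,1,2,0,2,2,2,2,2,1,2,2,1,2,0,2,2,0,2,2] else (bif Nat.blt q 135 then [1,2,1,3,3,1,3,1,3,3,1,2,2,1,3,3,0,2,0,3,1,3,1,3,3,3,1,3,1,3,3,4,2,2,1,2,1,2,4] else [5,3,0,3,0,3,3,5,2,2,0,2,0,2,2,2,0,2,0,2,1,3,1,2,2,0,3,3,0,2,2,0,2,0,2,2,0,3,0])))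

/-- Part of the tree. -/
noncomputable def awT_t21 (q : ℕ) : List ℕ :=
  bif Nat.blt q 124 then (awT_t19 q) else (awT_t20 q)

/-- Part of the tree. -/
noncomputable def awT_t22 (q : ℕ) : List ℕ :=
  bif Nat.blt q 113 then (awT_t18 q) else (awT_t21 q)

/-- Part of the tree. -/
noncomputable def awT_t23 (q : ℕ) : List ℕ :=
  bif Nat.blt q 141 then (bif Nat.blt q 138 then (bif Nat.blt q 137 then [2,1,3,0,3,1,3,0,3,1,4,3,1,4] else [5,0,2,5,0,2,1,2,0,2,1,2,0,3]) else (bif Nat.blt q 139 then [1,4,2,1,4] else (bif Nat.blt q 140 then [5,0,3,5,0] else [2,2,1,2,2,1,3,0,3,3,0,3,1,2,2,0,2,4,2,4,3,4,3,4,2,4,0,2,4,3,3,1,2,1,4,3,4,2,4]))) else (bif Nat.blt q 144 then (bif Nat.blt q 142 then [5,3,5,2,5,0,3,0,2,2,5,3,1,5,3,5,2,5,2,5,3,5,3,1,3,3,0,2,1,2,2,1,2,0,3,3,0,3,3] else (bif Nat.blt q 143 then [1,3,1,3,0,3,0,4,3,0,4] else [5,1,2,5,1,2,1,2,0,2,0]))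 else (bif Nat.blt q 145 then [1,2,1,3,3,1,3,1,3,3,1,2,2,1,3,3,0,2,0,3,1,3,1,3,3,0,2,4,3,0,4] else (bif Nat.blt q 146 then [5,1,2,5,3,1,2,2,0,2,0,2,1,3,1,2,2,0,3,3,0,2,2,0,2,0,2,2,0,3,0] else [1,3,1,2,1,2,1,3,1,3,0,2,1,2,0,0,2,1,2,2,1,2,1,3,0,3,0,2,1,2,0,3,4,2,4,3,4,3,4,2,4,0,2,4,3,3,3,3,3,1,3,0,2,4,2,0])))

/-- Part of the tree. -/
noncomputable def awT_t24 (q : ℕ) : List ℕ :=
  bif Nat.blt q 153 then (bif Nat.blt q 150 then (bif Nat.blt q 148 then [1,3,5,3,1,2,0,2,2,2,2,2,5,3,1,5,3,5,2,5,2,5,3,5,2,1,3,0,3,1,2,1,2,0,3,0,3,3,0,3,1,1,3,0,3,1,2,0,2,0,3,0,3,0,2,0] else (bif Nat.blt q 149 then [1,3,1,2,1,2,1,3,1,3,0,2,1,2,0,2,1,2,2,1,3,0,3,3,0,3,1,2,2,0,3,1,3,3,0,2,2,1,3,3,0,3,3,3,3,1,3,0,2,0,2,1,3,0,3,1,3,1,4,3,1,3,4] else [5,2,0,2,5,0,2,0,2,1,2,0,3,1,3,1,2,0,2,2,2,2,1,2,2,0,3,3,1,2,2,0,2,1,3,3,0,2,1,2,2,1,2,0,3,3,0,3,1,3,0,3,1,2,0,2,0,3,0,3,0,2,0]))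 else (bif Nat.blt q 151 then [1,3,1,2,1,2,1,3,1,3,0,2,1,2,0,3,0,2,2,0,2,0,2,2,0,2,2,0,2,0,2,0,2,1,2,1,3,3,1,3,1,2,0,2,1,3,3,3,4,3,1,3] else (bif Nat.blt q 152 then [2,0,2,5,2,2,2,0,3,1,3,0,2,0,2,2,0,3,0,3,1,3,1,3,1,3,3,1,3,3,1,3,1,3,3,1,2,1,3,0,3,1,2,0,2,0,3,0,3,0,2,0] else [2,1,2,0,4]))) else (bif Nat.blt q 156 then (bif Nat.blt q 154 then [5,1,3,0,3] else (bif Nat.blt q 155 then [2,1,2,1,3,3,0,2,0,3,3,0,2,1,2,1,3,3,3,1,2,0,3,0,3,1,3,0,4,3,0,3,4] else [5,2,1,2,5,1,2,0,2,1,2,1,3,0,2,2,2,0,3,0,3,1,2,2,1,3,1,2,2,0,3,0,3])) else (bif Nat.blt q 157 then [2,1,2,1,4] else (bif Nat.blt q 158 then [5,0,3,0,3] else [1,3,1,2,1,2,1,3,1,3,0,2,1,2,0,2,1,2,0,3,3,3,0,3,0,3,3,0,3,3,0,3,3,3,1,3,1,2,0,2,0,3,3,3,4,3,1,3])))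

/-- Part of the tree. -/
noncomputable def awT_t25 (q : ℕ) : List ℕ :=
  bif Nat.blt q 147 then (awT_t23 q) else (awT_t24 q)

/-- Part of the tree. -/
noncomputable def awT_t26 (q : ℕ) : List ℕ :=
  bif Nat.blt q 164 then (bif Nat.blt q 161 then (bif Nat.blt q 160 then [2,0,2,5,2,2,2,1,3,1,3,0,2,0,2,2,2,1,2,2,1,2,2,1,2,1,2,2,2,1,3,0,3,1,3,0,3,1,2,0,2,0,3,0,3,0,2,0] else [1,3,1,2,1,2,1,3,1,3,0,2,1,2,0,2,1,2,0,3,3,3,0,3,0,3,3,0,3,3,0,3,3,3,1,3,1,2,0,2,0,3,3,3,4,3,0,3]) else (bif Nat.blt q 162 then [2,1,2,5,2,2,2,1,3,1,3,0,2,0,2,2,2,1,2,2,1,2,2,1,2,1,2,2,2,1,3,0,3,1,3,0,3,1,2,0,2,0,3,0,3,0,2,0] else (bif Nat.blt q 163 then [2,1,2,0,4] else [5,1,3,0,3]))) else (bif Nat.blt q 167 then (bif Nat.blt q 165 then [2,0,2,1,2,2,1,2,1,3,0,3,0,2,1,2,0,3,3,3,1,3,3,0,2,2,1,3,3,0,4,3,3,4,2,2] else (bif Nat.blt q 166 then [3,3,5,2,2,5,1,2,2,0,3,3,1,2,2,0,2,2,2,1,3,0,3,1,2,1,2,0,3,0,3,3,0,3,1,3]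 else [4,2,4,2,4])) else (bif Nat.blt q 168 then [5,3,5,3,5] else (bif Nat.blt q 169 then [] else [])))

/-- Part of the tree. -/
noncomputable def awT_t27 (q : ℕ) : List ℕ :=
  bif Nat.blt q 176 then (bif Nat.blt q 173 then (bif Nat.blt q 171 then [1,3,1,2,1,2,1,3,1,3,0,2,1,2,0,2,1,2,2,1,3,0,3,3,0,3,1,2,2,0,2,2,1,2,2,1,2,2,1,3,1,3,1,3,0,2,0,2,1,3,0,3,1,3] else (bif Nat.blt q 172 then [2,0,2,1,2,0,3,1,3,1,2,0,2,0,2,0,3,3,0,3,3,0,3,3,1,3,3,0,2,1,2,2,1,2,0,3,3,0,3,1,3,0,3,1,2,0,2,0,3,0,3,0,2,0] else [1,3,1,2,1,2,1,3,1,3,0,2,1,2,2,0,3,3,1,2,2,0,2,1,3,3,0,2,2,1,2,2,1,2,2,1,3,1,2,2,2,1,2,1,3,1,3,1])) else (bif Nat.blt q 174 then [0,2,0,2,0,3,0,3,3,3,0,2,0,3,3,0,3,3,0,3,3,1,2,2,0,3,1,3,3,0,2,2,1,3,3,0,3,1,2,0,2,0,3,0,3,0,2,0] else (bif Nat.blt q 175 then [2,2,1,2,2,1,3,0,3,3,0,3,1,2,2,2,1,3,3,1,2,1,3,3,3,1,3,1,2,1,2,1,3] else [2,0,3,0,3,0,2,0,2,2,2,0,3,0,2,2,0,3,3,3,0,2,1,2,2,1,2,0,3,3,0,3,3])))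 else (bif Nat.blt q 179 then (bif Nat.blt q 177 then [4] else (bif Nat.blt q 178 then [5] else [2,2,1,2,2,1,3,0,3,3,0,3,1,2,1,2,0,2,0,2,2,1,2,1,3,1,3,1,2,2,0,4,2,4,2,4])) else (bif Nat.blt q 180 then [5,3,5,3,5,1,3,3,0,2,0,2,0,3,0,3,3,1,3,1,3,0,3,0,2,1,2,2,1,2,0,3,3,0,3,3] else (bif Nat.blt q 181 then [1,3,1,2,1,2,1,3,1,3,0,2,1,2,0,2,1,2,0,3,3,3,0,3,0,3,3,0,3,3,0,3,3,1,2,1,3,3,3,0,3,0,3,3,3,1,2,0,3,3,4] else [5,2,2,1,3,0,2,2,2,1,2,1,2,2,2,0,3,0,2,2,1,2,2,1,2,2,1,2,1,2,2,2,1,3,0,3,1,3,0,3,1,2,0,2,0,3,0,3,0,2,0])))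

/-- Part of the tree. -/
noncomputable def awT_t28 (q : ℕ) : List ℕ :=
  bif Nat.blt q 170 then (awT_t26 q) else (awT_t27 q)

/-- Part of the tree. -/
noncomputable def awT_t29 (q : ℕ) : List ℕ :=
  bif Nat.blt q 159 then (awT_t25 q) else (awT_t28 q)

/-- Part of the tree. -/
noncomputable def awT_t30 (q : ℕ) : List ℕ :=
  bif Nat.blt q 136 then (awT_t22 q) else (awT_t29 q)

/-- Part of the tree. -/
noncomputable def awT_t31 (q : ℕ) : List ℕ :=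
  bif Nat.blt q 91 then (awT_t15 q) else (awT_t30 q)

/-- Part of the tree. -/
noncomputable def awT_t32 (q : ℕ) : List ℕ :=
  bif Nat.blt q 187 then (bif Nat.blt q 184 then (bif Nat.blt q 183 then [1,3,1,2,1,2,1,3,1,3,0,2,1,2,2,0,3,3,1,2,2,0,2,1,3,3,0,3,3,1,3,3,0,2,1,4,2,2,1,4] else [5,0,3,3,5,0,3,1,2,2,0,2,2,1,2,2,0,3,1,3,3,0,2,2,1,3,3,0,3,1,2,0,2,0,3,0,3,0,2,0]) else (bif Nat.blt q 185 then [] else (bif Nat.blt q 186 then [] else [1,3,1,2,1,2,1,3,1,3,0,2,1,2,0,2,1,2,0,3,3,3,0,3,0,3,3,0,3,3,0,3,3,1,2,1,3,3,3,0,3,0,3,3,3,1,2,0,3,3,0]))) else (bif Nat.blt q 190 then (bif Nat.blt q 188 then [1,2,2,1,3,0,2,2,2,1,2,1,2,2,2,0,3,0,2,2,1,2,2,1,2,2,1,2,1,2,2,2,1,3,0,3,1,3,0,3,1,2,0,2,0,3,0,3,0,2,0] else (bif Nat.blt q 189 then [1,3,1,2,1,2,1,3,1,3,0,2,1,2,0,3,1,3,0,3,1,2,1,3,3,0,3,3,3,1,2,2,0,2,0,3,3,3,0,2,1,2,1,3,3,3,1,2,0,3,0,3,3,1,3,0,2,1,1]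 else [0,0,3,1,2,0,2,2,1,2,1,3,0,2,2,2,0,3,0,3,1,2,2,2,1,3,1,3,3,0,2,2,2,1,2,2,0,3,0,2,1,2,0,2,1,3,0,3,1,2,0,2,0,3,0,3,0,2,0])) else (bif Nat.blt q 191 then [4,2,4,2,4] else (bif Nat.blt q 192 then [5,3,5,3,5] else [2,2,1,2,2,1,2,2,0,2,0,2,2,2,1,3,0,3,3,1,2,0,2,2,1,2,2,1,2,2,0,2,0,3,3,1,2])))

/-- Part of the tree. -/
noncomputable def awT_t33 (q : ℕ) : List ℕ :=
  bif Nat.blt q 198 then (bif Nat.blt q 195 then (bif Nat.blt q 194 then [3,0,2,2,1,3,1,3,3,0,3,3,0,3,3,1,3,0,2,2,1,2,0,3,3,3,1,3,1,3,3,0,3,3,0,3,3] else [1,3,1,2,1,2,1,3,1,3,0,2,1,2,0,3,1,3,0,3,1,2,1,3,3,0,3,3,3,1,2,2,0,2,0,3,3,3,0,2,1,2,1,3,3,3,1,2,0,3,0,3,3,1,3,0,2,1,1]) else (bif Nat.blt q 196 then [0,0,3,1,2,0,2,2,1,2,1,3,0,2,2,2,0,3,0,3,1,2,2,2,1,3,1,3,3,0,2,2,2,1,2,2,0,3,0,2,1,2,0,2,1,3,0,3,1,2,0,2,0,3,0,3,0,2,0] else (bif Nat.blt q 197 then [1,3,0,3,1,2,1,3,3,0,3,3,3,1,2,2,0,2,0,3,3,1,2,1,3,3,1,2,1,3,3,3,4,2,0,4,2]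 else [3,5,1,3,5,2,2,2,0,3,0,2,2,0,3,0,2,2,1,3,1,3,3,0,2,2,2,1,2,2,0,3,0,2,1,2,0]))) else (bif Nat.blt q 201 then (bif Nat.blt q 199 then [1,3,1,2,1,2,1,3,1,3,0,2,1,2,0,3,1,3,0,3,1,2,1,3,3,0,3,3,3,1,2,2,0,2,0,3,3,3,0,2,1,2,1,3,3,3,1,2,0,3,0,3,3,1,3,0,2,1,1,4] else (bif Nat.blt q 200 then [5,0,0,3,1,2,0,2,2,1,2,1,3,0,2,2,2,0,3,0,3,1,2,2,2,1,3,1,3,3,0,2,2,2,1,2,2,0,3,0,2,1,2,0,2,1,3,0,3,1,2,0,2,0,3,0,3,0,2,0] else [2,2,1,2,0,3,3,3,0,3,0,3,3,0,3,3,0,3,3,3,1,3,3,0,2,1,2,0,2,4])) else (bif Nat.blt q 202 then [5,3,1,3,0,3,1,2,2,0,2,2,2,1,2,2,1,2,2,1,2,1,2,2,2,1,3,0,3,3] else (bif Nat.blt q 203 then [2,0,2,1,2,2,1,2,1,3,0,3,0,2,1,2,2,2,1,2,2,1,3,1,2,2,2,1,2,1,4] else [5,0,3,0,3,3,3,0,2,0,3,3,0,3,3,3,0,3,1,2,1,2,0,3,0,3,3,0,3,1,3])))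

/-- Part of the tree. -/
noncomputable def awT_t34 (q : ℕ) : List ℕ :=
  bif Nat.blt q 193 then (awT_t32 q) else (awT_t33 q)

/-- Part of the tree. -/
noncomputable def awT_t35 (q : ℕ) : List ℕ :=
  bif Nat.blt q 209 then (bif Nat.blt q 206 then (bif Nat.blt q 205 then [1,3,1,2,1,2,1,3,1,3,0,2,1,2,0,3,1,3,0,3,3,1,3,0,2,0,2,1,3,0,3,1,3,3,1,3,3,1,2,2,0,2,2,0,2,2,1,3,3,3,0,2,4,2,4,2,4] else [5,3,5,3,5,3,1,2,2,2,0,3,3,1,3,3,1,3,3,0,2,2,0,2,2,0,2,1,2,0,3,1,3,1,2,0,2,2,1,2,0,2,1,3,0,3,1,2,0,2,0,3,0,3,0,2,0]) else (bif Nat.blt q 207 then [1,3,1,2,1,2,1,3,1,3,0,2,1,2,0,2,1,2,2,1,3,0,3,3,0,3,1,2,2,0,3,1,3,3,0,2,2,1,3,3,0,3,3,3,3,1,3,0,2,0,2,1,3,0,3,1,3,1,4,3,1,3,4,2,4] else (bif Nat.blt q 208 then [5,3,5,2,0,2,5,0,2,0,2,1,2,0,3,1,3,1,2,0,2,2,2,2,1,2,2,0,3,3,1,2,2,0,2,1,3,3,0,2,1,2,2,1,2,0,3,3,0,3,1,3,0,3,1,2,0,2,0,3,0,3,0,2,0] else [2,1,2,1,3,3,3,0,3,0,2,0,2,2,1,3,3,1,3,3,0,3,3,1,4,3,1,4])))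 else (bif Nat.blt q 212 then (bif Nat.blt q 210 then [5,0,2,5,0,2,2,1,2,2,0,2,2,0,3,3,1,3,1,2,1,2,2,2,0,3,0,3] else (bif Nat.blt q 211 then [0,3,0,3,0,3,3,1,3,1,2,2,1,3,3,3,3,3,1,3,3,0,2,2,1,4,3,0,4] else [5,1,2,5,0,3,3,1,2,2,0,2,2,2,2,2,0,3,3,0,2,0,2,2,1,2,1,2,1])) else (bif Nat.blt q 213 then [1,3,1,2,1,2,1,3,1,3,0,2,1,2,0,3,1,2,1,3,3,1,3,1,3,3,1,2,2,1,3,3,0,2,0,3,3,1,2,2,0,3,3,1,3,3,3,0,4,2,4] else (bif Nat.blt q 214 then [5,3,5,1,2,2,2,0,2,2,1,3,3,0,2,2,1,3,1,2,2,0,3,3,0,2,2,0,2,0,2,2,0,3,0,2,1,3,0,3,1,2,0,2,0,3,0,3,0,2,0] else [2,0,2,1,2,2,1,2,1,3,0,3,0,2,1,2,0,3,3,3,0,2,1,2,1,3,3,3,1,2,0,3,0,3,3,3,0,2,0,2,2,0,2,4,3,3,0,3,3,4])))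

/-- Part of the tree. -/
noncomputable def awT_t36 (q : ℕ) : List ℕ :=
  bif Nat.blt q 221 then (bif Nat.blt q 218 then (bif Nat.blt q 216 then [5,2,2,1,2,2,5,3,1,3,3,1,3,1,2,2,2,1,2,1,3,0,2,2,2,0,3,0,3,1,2,2,2,1,3,0,3,1,2,1,2,0,3,0,3,3,0,3,1,3] else (bif Nat.blt q 217 then [2,1,2,0,3,3,1,2,2,0,2,1,3,3,0,2,2,1,3,3,1,3,3,0,2,0,4,3,3,4] else [5,2,2,5,1,3,1,2,2,0,2,2,0,3,3,1,2,2,0,3,1,3,3,0,2,2,1,3,0,3])) else (bif Nat.blt q 219 then [1,2,1,3,3,1,3,1,3,3,3,3,1,3,4,3,3,0,2,4] else (bif Nat.blt q 220 then [5,3,1,2,2,5,2,0,2,2,2,2,0,2,0,2,2,0,3,0] else [2,0,2,1,2,0,2,2,0,2,0,3,3,3,1,2,2,0,3,0,2,2,1,2,1,3,1,3,1,2,2,1,4,2,1,4,2,2,0,2]))) else (bif Nat.blt q 224 then (bif Nat.blt q 222 then [3,1,3,3,5,0,3,5,0,3,3,0,2,0,2,0,3,0,3,3,1,2,1,3,3,0,2,2,2,1,3,1,3,3,1,3,0,3,1,3] else (bif Nat.blt q 223 then [1,3,1,2,1,2,1,3,1,3,0,2,1,2,0,3,1,4,3,3,3,4,3,3,1,2,4,2,1,2,4,2,2,1,3,1,3,3,0,2,0,2,2,1,2,1,3,1,3,1,2,1,1,4,2,4,3,4]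 else [5,2,5,3,5,0,0,3,0,2,0,2,0,3,0,3,3,1,3,1,2,2,0,2,0,3,3,5,3,0,3,5,3,0,2,2,5,2,2,2,5,0,2,1,3,0,3,1,2,0,2,0,3,0,3,0,2,0])) else (bif Nat.blt q 225 then [1,3,1,2,1,2,1,3,1,3,0,2,1,2,0,3,1,3,0,3,1,2,1,3,3,0,3,3,3,1,2,2,0,2,0,3,3,1,3,1,2,2,0,3,3,3,0,0,4,2,4,3] else (bif Nat.blt q 226 then [2,5,3,5,1,1,2,2,2,1,3,3,0,2,0,2,2,1,3,1,3,3,0,2,2,2,1,2,2,0,3,0,2,1,2,0,2,1,3,0,3,1,2,0,2,0,3,0,3,0,2,0] else [1,3,1,2,1,2,1,3,1,3,0,2,1,2,0,3,1,2,1,3,3,1,3,1,3,3,1,2,2,2,1,2,2,1,3,1,2,2,2,1,2,1,3,1,3,1,2,2,4,2,4,2,2,4,3,3,3])))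

/-- Part of the tree. -/
noncomputable def awT_t37 (q : ℕ) : List ℕ :=
  bif Nat.blt q 215 then (awT_t35 q) else (awT_t36 q)

/-- Part of the tree. -/
noncomputable def awT_t38 (q : ℕ) : List ℕ :=
  bif Nat.blt q 204 then (awT_t34 q) else (awT_t37 q)

/-- Part of the tree. -/
noncomputable def awT_t39 (q : ℕ) : List ℕ :=
  bif Nat.blt q 232 then (bif Nat.blt q 229 then (bif Nat.blt q 228 then [2,2,2,5,3,3,5,3,5,3,3,0,2,0,2,0,3,0,3,3,3,0,2,0,3,3,0,3,3,3,0,2,2,0,2,0,2,2,0,3,0,2,1,3,0,3,1,2,0,2,0,3,0,3,0,2,0] else [1,3,1,2,1,2,1,3,1,3,0,2,1,2,0,3,1,2,1,3,3,0,3,3,3,1,2,2,0,3,0,2,0,3,3,0,3,3,3,1,2,2,1,3,3,3,1,3,3,0,4,2,4,2,2,4,3,3,3]) else (bif Nat.blt q 230 then [2,2,2,5,3,3,5,3,5,1,2,2,0,2,2,2,0,3,3,0,2,2,2,1,2,2,1,3,1,2,1,3,3,0,2,2,2,1,2,2,0,3,0,2,1,3,0,3,1,2,0,2,0,3,0,3,0,2,0] else (bif Nat.blt q 231 then [2,1,4] else [5,0,3])))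 else (bif Nat.blt q 235 then (bif Nat.blt q 233 then [] else (bif Nat.blt q 234 then [] else [2,2,1,2,2,1,2,2,0,2,0,2,2,2,1,3,0,3,3,3,0,3,1,2,0,2,2,1,2,1,2,0,2,1,2,0])) else (bif Nat.blt q 236 then [1,3,0,3,1,3,0,3,0,3,3,1,3,0,2,1,2,2,2,1,2,0,3,3,3,1,3,1,3,3,0,3,3,0,3,3] else (bif Nat.blt q 237 then [1,3,1,2,1,2,1,3,1,3,0,2,1,2,0,3,1,3,1,3,0,3,3,3,3,0,3,3,1,3,1,2,2,0,3,0] else [1,2,1,3,3,0,2,0,2,2,1,2,2,2,2,1,2,0,2,0,2,1,3,0,3,1,2,0,2,0,3,0,3,0,2,0])))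

/-- Part of the tree. -/
noncomputable def awT_t40 (q : ℕ) : List ℕ :=
  bif Nat.blt q 244 then (bif Nat.blt q 241 then (bif Nat.blt q 239 then [1,3,1,3,0,3,0,3,3,1,2,0,4] else (bif Nat.blt q 240 then [5,1,3,0,2,2,1,2,1,2,0,2,0] else [1,2,0,0,4])) else (bif Nat.blt q 242 then [5,1,1,3,0] else (bif Nat.blt q 243 then [1] else [0]))) else (bif Nat.blt q 247 then (bif Nat.blt q 245 then [1,3,1,2,1,2,1,3,1,3,0,2,1,2,0,3,0,3,0,3,0,3,3,1,3,1,2,2,1,3,3,3,1,3,1,2,1,2,2,1,3,1,2,0,3,3,3,1,2,0,3,4] else (bif Nat.blt q 246 then [5,2,1,3,0,2,2,2,1,3,0,2,0,3,3,0,3,0,2,0,2,2,2,0,3,3,0,2,0,2,2,1,2,1,2,1,2,1,3,0,3,1,2,0,2,0,3,0,3,0,2,0] else [1,3,1,2,1,2,1,3,1,3,0,2,1,2,0,3,1,2,1,3,3,0,3,3,3,1,2,2,0,3,0,3,0,3,1,2,0,2,2,1,2,1,2,0,3,1,3,0,3,0,4,3,4,2])) else (bif Nat.blt q 248 then [3,5,2,5,1,2,1,2,0,2,1,3,0,3,0,3,3,1,3,0,2,1,2,1,2,1,3,3,0,2,2,2,1,2,2,0,3,0,2,1,3,0,3,1,2,0,2,0,3,0,3,0,2,0]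 else (bif Nat.blt q 249 then [0] else [1])))

/-- Part of the tree. -/
noncomputable def awT_t41 (q : ℕ) : List ℕ :=
  bif Nat.blt q 238 then (awT_t39 q) else (awT_t40 q)

/-- Part of the tree. -/
noncomputable def awT_t42 (q : ℕ) : List ℕ :=
  bif Nat.blt q 255 then (bif Nat.blt q 252 then (bif Nat.blt q 251 then [1,1] else [0,0]) else (bif Nat.blt q 253 then [2,1,4] else (bif Nat.blt q 254 then [5,0,3] else [1,3,1,2,2,0,3,0,3,3,0,3,1,2,0,2,2,1,2,1,2,0,2,1,2,0,4]))) else (bif Nat.blt q 258 then (bif Nat.blt q 256 then [5,1,3,0,3,1,3,0,3,0,3,3,1,3,0,2,1,2,2,1,2,1,3,3,0,2,0] else (bif Nat.blt q 257 then [1,3,1,2,1,2,1,3,1,3,0,2,1,2,0,3,0,3,0,3,0,3,3,1,3,1,2,2,1,3,3,3,1,3,1,2,1,2,2,1,3,1,2,0,3,3,3,1,2,0,3,4,2,4] else [5,3,5,2,1,3,0,2,2,2,1,3,0,2,0,3,3,0,3,0,2,0,2,2,2,0,3,3,0,2,0,2,2,1,2,1,2,1,2,1,3,0,3,1,2,0,2,0,3,0,3,0,2,0])) else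 (bif Nat.blt q 259 then [1,3,1,2,1,2,1,3,1,3,0,2,1,2,0,3,1,2,1,3,3,0,3,3,3,1,2,2,0,3,0,3,0,3,1,2,0,2,2,1,2,1,2,0,3,1,3,0,3,0,4,3,4,2,2,4] else (bif Nat.blt q 260 then [5,3,3,5,2,5,1,2,1,2,0,2,1,3,0,3,0,3,3,1,3,0,2,1,2,1,2,1,3,3,0,2,2,2,1,2,2,0,3,0,2,1,3,0,3,1,2,0,2,0,3,0,3,0,2,0] else [1,3,1,2,2,0,3,0,3,3,0,3,1,2,0,2,2,1,2,1,2,0,2,1,2,1,4])))

/-- Part of the tree. -/
noncomputable def awT_t43 (q : ℕ) : List ℕ :=
  bif Nat.blt q 267 then (bif Nat.blt q 264 then (bif Nat.blt q 262 then [5,0,3,0,3,1,3,0,3,0,3,3,1,3,0,2,1,2,2,1,2,1,3,3,0,2,0] else (bif Nat.blt q 263 then [2,1,2,1,3,3,0,2,0,3,3,1,3,3,1,3,0,2,2,0,2,2,1,2,0,4,3,4,2,4] else [5,3,5,2,5,1,3,0,3,3,1,3,3,1,2,0,2,2,0,2,2,1,3,1,2,2,0,3,0,3])) else (bif Nat.blt q 265 then [1,3,1,2,1,2,1,3,1,3,0,2,1,2,0,3,1,2,0,2,1,3,0,3,0,2,1,2,2,1,2,0,3,1,3,1,2,1,2,2,1,3,1,2,0,3,3,1,3,0,3,4,3,4,2]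 else (bif Nat.blt q 266 then [3,5,2,5,2,1,2,0,2,2,1,3,0,2,0,3,3,0,3,0,2,0,2,1,3,0,3,3,0,3,1,2,1,2,0,3,1,3,0,2,1,3,0,3,1,2,0,2,0,3,0,3,0,2,0] else [1,1]))) else (bif Nat.blt q 270 then (bif Nat.blt q 268 then [0,0] else (bif Nat.blt q 269 then [] else [])) else (bif Nat.blt q 271 then [1,3,1,2,1,2,1,3,1,3,0,2,1,2,0,3,1,2,0,2,1,3,0,3,0,2,1,2,2,1,2,0,3,1,3,1,2,1,2,2,1,3,1,2,0,3,3,1,3,0,3,1,1,4,3,4,2] else (bif Nat.blt q 272 then [3,5,2,5,0,0,2,1,2,0,2,2,1,3,0,2,0,3,3,0,3,0,2,0,2,1,3,0,3,3,0,3,1,2,1,2,0,3,1,3,0,2,1,3,0,3,1,2,0,2,0,3,0,3,0,2,0] else [1,4,2,1,4])))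

/-- Part of the tree. -/
noncomputable def awT_t44 (q : ℕ) : List ℕ :=
  bif Nat.blt q 261 then (awT_t42 q) else (awT_t43 q)

/-- Part of the tree. -/
noncomputable def awT_t45 (q : ℕ) : List ℕ :=
  bif Nat.blt q 250 then (awT_t41 q) else (awT_t44 q)

/-- Part of the tree. -/
noncomputable def awT_t46 (q : ℕ) : List ℕ :=
  bif Nat.blt q 227 then (awT_t38 q) else (awT_t45 q)

/-- Part of the tree. -/
noncomputable def awT_t47 (q : ℕ) : List ℕ :=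
  bif Nat.blt q 278 then (bif Nat.blt q 275 then (bif Nat.blt q 274 then [5,0,3,5,0] else [1,1,4]) else (bif Nat.blt q 276 then [5,0,0] else (bif Nat.blt q 277 then [1,3,0,3,3,1,3,0,2,0,2,1,3,0,3,1,2,1,3,3,3,0,3,3,3,1,3,1,2,1,2,1,3,4] else [5,2,0,3,0,3,0,2,0,2,2,2,1,2,2,2,0,3,0,2,1,2,0,3,1,3,1,2,0,2,2,1,2,0]))) else (bif Nat.blt q 281 then (bif Nat.blt q 279 then [2,1,1,4] else (bif Nat.blt q 280 then [5,0,0,3] else [1,3,1,2,1,2,1,3,1,3,0,2,1,2,0,0,2,1,2,2,1,2,1,3,0,3,0,2,1,3,3,0,3,3,1,3,1,2,2,0,2,0,2,4])) else (bif Nat.blt q 282 then [5,3,1,3,1,3,3,0,2,0,2,2,1,2,2,0,3,1,2,1,2,0,3,0,3,3,0,3,1,1,3,0,3,1,2,0,2,0,3,0,3,0,2,0] else (bif Nat.blt q 283 then [1,2,2,0,2,1,1,4] else [5,0,0,3,1,3,3,0])))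

/-- Part of the tree. -/
noncomputable def awT_t48 (q : ℕ) : List ℕ :=
  bif Nat.blt q 289 then (bif Nat.blt q 286 then (bif Nat.blt q 285 then [1,3,1,2,1,2,1,3,1,3,0,2,1,2,0,3,1,2,1,2,2,0,2,2,2,1,3,0,3,0,2,1,3,3,0,3,3,3,1,3,3,0,2,2,1,3,3,0,3,3,3,3,1,3,0,2,0,2,1,3,0,3,1,1,4,2,0,4] else [5,1,3,5,0,0,2,1,2,0,3,1,3,1,2,0,2,2,2,2,1,2,2,0,3,3,1,2,2,0,2,2,2,1,2,2,0,3,1,2,1,2,0,3,3,3,1,3,3,0,3,0,2,1,3,0,3,1,2,0,2,0,3,0,3,0,2,0]) else (bif Nat.blt q 287 then [2,4,2,4] else (bif Nat.blt q 288 then [5,3,5,3] else [2,2,1,2,2,1,2,2,0,2,0,2,2,2,1,3,0,3,1,3,0,2,2,2,1,2,1,3,1,3,1,2,2,4,3,4,2,4,2,0]))) else (bif Nat.blt q 292 then (bif Nat.blt q 290 then [1,3,5,3,5,2,5,3,3,0,2,0,2,0,3,0,3,3,3,1,2,0,2,1,2,0,3,3,3,1,3,1,3,3,0,3,3,0,3,3] else (bif Nat.blt q 291 then [1,3,0,3,3,3,1,2,2,0,2,1,3,3,3,3,1,2,0,3,3,0,2,2,4,2,1,4,2,0] else [1,3,5,0,3,5,3,3,1,2,2,1,3,0,2,2,2,2,0,3,1,3,3,0,2,2,2,1,2,0]))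 else (bif Nat.blt q 293 then [1,3,0,3,1,2,1,3,3,0,3,3,3,1,2,2,0,3,3,0,2,1,2,0,0,4] else (bif Nat.blt q 294 then [5,1,1,3,0,3,1,2,2,1,3,3,0,2,2,2,1,2,2,0,3,0,2,1,2,0] else [2,1,4,2,2,1,2])))

/-- Part of the tree. -/
noncomputable def awT_t49 (q : ℕ) : List ℕ :=
  bif Nat.blt q 284 then (awT_t47 q) else (awT_t48 q)

/-- Part of the tree. -/
noncomputable def awT_t50 (q : ℕ) : List ℕ :=
  bif Nat.blt q 300 then (bif Nat.blt q 297 then (bif Nat.blt q 296 then [3,0,3,3,5,0,3] else [0,3,0,3,0,3,3,1,3,1,2,2,1,3,3,3,3,1,3,3,1,3,0,3,3,0,3,3,3,1,4,3,4,2,2,1,4]) else (bif Nat.blt q 298 then [5,0,3,3,5,2,5,0,2,2,2,1,2,2,1,2,0,2,2,0,2,2,2,2,0,3,3,0,2,0,2,2,1,2,1,2,1] else (bif Nat.blt q 299 then [1,3,1,2,1,2,1,3,1,3,0,2,1,2,0,0,2,1,2,2,1,2,1,3,0,3,0,2,1,2,0,3,1,3,0,4,3,1,3,4] else [5,2,0,2,5,1,2,0,2,1,3,0,3,1,2,1,2,0,3,0,3,3,0,3,1,1,3,0,3,1,2,0,2,0,3,0,3,0,2,0])))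 else (bif Nat.blt q 303 then (bif Nat.blt q 301 then [2,1,3,0,2,2,1,3,3,3,0,3,3,1,2,0,3,3,3,1,3,3,1,2,2,0,2,2,0,2,2,4,3,3,1,3,1,3,4] else (bif Nat.blt q 302 then [5,2,0,2,0,2,2,5,3,3,1,3,3,1,3,3,0,2,2,0,2,2,2,1,3,0,2,2,1,2,2,2,0,3,3,1,2,0,3] else [1,3,1,2,1,2,1,3,1,3,0,2,1,2,0,3,1,3,0,3,1,2,1,3,3,0,3,3,3,1,2,2,0,2,0,3,3,3,1,3,3,0,2,2,1,3,3,0,3,3,1,2,4,3,3,1,3,1,3,4])) else (bif Nat.blt q 304 then [5,2,0,2,0,2,2,5,3,0,2,2,1,2,2,0,3,3,1,2,2,0,2,2,2,1,3,1,3,3,0,2,2,2,1,2,2,0,3,0,2,1,2,0,2,1,3,0,3,1,2,0,2,0,3,0,3,0,2,0] else (bif Nat.blt q 305 then [1,3,1,2,1,2,1,3,1,3,0,2,1,2,0,3,1,3,0,3,3,3,1,2,2,0,2,1,3,0,3,3,3,3,1,2,0,4,3,4,3,0,3,4,2,2] else [3,3,5,2,1,2,5,2,5,1,3,0,2,2,2,2,1,2,0,3,1,3,3,0,2,2,2,1,2,0,2,1,3,0,3,1,2,0,2,0,3,0,3,0,2,0])))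

/-- Part of the tree. -/
noncomputable def awT_t51 (q : ℕ) : List ℕ :=
  bif Nat.blt q 312 then (bif Nat.blt q 309 then (bif Nat.blt q 307 then [1,3,0,3,1,2,1,3,3,0,3,3,3,1,2,2,0,3,3,0,2,1,2,0,0,4,2,4] else (bif Nat.blt q 308 then [5,3,5,1,1,3,0,3,1,2,2,1,3,3,0,2,2,2,1,2,2,0,3,0,2,1,2,0] else [1,2,0,2,1,3,0,3,0,2,1,2,1,3,0,3,3,3,1,2,1,2,0,3,1,2,2,0,3,0,4,3,1,4,3,1])) else (bif Nat.blt q 310 then [0,2,5,0,2,5,1,2,1,3,3,0,2,1,3,0,3,0,2,2,2,1,2,0,3,0,3,1,2,1,2,0,3,1,3,0] else (bif Nat.blt q 311 then [1,3,1,2,1,2,1,3,1,3,0,2,1,2,0,0,2,1,2,2,1,2,1,3,0,3,0,2,1,2,0,3,1,3,0,4,3,1,4] else [5,0,2,5,1,2,0,2,1,3,0,3,1,2,1,2,0,3,0,3,3,0,3,1,1,3,0,3,1,2,0,2,0,3,0,3,0,2,0]))) else (bif Nat.blt q 315 then (bif Nat.blt q 313 then [2,0,2,1,2,2,1,2,1,3,0,3,0,2,1,2,0,2,1,2,1,3,1,3,1,4,3,3,1,2] else (bif Nat.blt q 314 then [3,0,2,2,5,0,2,0,2,0,3,0,3,1,3,0,3,1,2,1,2,0,3,0,3,3,0,3,1,3]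 else [1,3,1,2,1,2,1,3,1,3,0,2,1,2,0,3,1,4,3,3,3,4,3,3,1,2,4,2,1,2,4,2,2,1,2,0,3,3,3,1,2,1,2,0,3,1,2,2,0,2,0,3,3,3,4,3,1,3,4])) else (bif Nat.blt q 316 then [5,2,0,2,5,2,2,2,1,3,1,3,3,0,2,1,3,0,3,0,2,2,2,1,3,0,3,3,5,3,0,3,5,3,0,2,2,5,2,2,2,5,0,2,1,3,0,3,1,2,0,2,0,3,0,3,0,2,0] else (bif Nat.blt q 317 then [1,1,4] else [5,0,0])))

/-- Part of the tree. -/
noncomputable def awT_t52 (q : ℕ) : List ℕ :=
  bif Nat.blt q 306 then (awT_t50 q) else (awT_t51 q)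

/-- Part of the tree. -/
noncomputable def awT_t53 (q : ℕ) : List ℕ :=
  bif Nat.blt q 295 then (awT_t49 q) else (awT_t52 q)

/-- Part of the tree. -/
noncomputable def awT_t54 (q : ℕ) : List ℕ :=
  bif Nat.blt q 323 then (bif Nat.blt q 320 then (bif Nat.blt q 319 then [1,3,1,2,1,2,1,3,1,3,0,2,1,2,2,0,3,3,1,2,2,0,2,1,3,3,0,2,2,1,2,2,0,3,1,3,1,2,1,2,1,3,0,4] else [5,1,2,0,3,0,3,0,2,0,2,1,3,3,0,3,3,1,2,2,0,3,1,3,3,0,2,2,1,3,3,0,3,1,2,0,2,0,3,0,3,0,2,0]) else (bif Nat.blt q 321 then [2,1,1,4] else (bif Nat.blt q 322 then [5,0,0,3] else [2,1,2,2,0,3,1,2,1,2,0,3,3,3,1,3,3,0,3,0,3,0,3,1,2,0,2,2,1,2,1,2,0,2,1,3,4,2]))) else (bif Nat.blt q 326 then (bif Nat.blt q 324 then [3,5,2,0,3,1,3,0,3,0,3,3,1,3,0,2,1,2,1,2,1,2,2,0,2,2,2,1,3,0,3,0,2,1,3,3,0,3] else (bif Nat.blt q 325 then [1,1,4,2,4] else [5,3,5,0,0])) else (bif Nat.blt q 327 then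 [1,3,0,3,3,3,1,2,2,0,2,1,3,3,0,3,1,2,1,2,0,3,1,2,2,0,2,0,3,3,1,2,4,2,0,4,2] else (bif Nat.blt q 328 then [3,5,1,3,5,3,0,2,2,1,3,1,3,3,0,2,1,3,0,3,0,2,1,2,2,0,3,1,3,3,0,2,2,2,1,2,0] else [1,4,2,0,4])))

/-- Part of the tree. -/
noncomputable def awT_t55 (q : ℕ) : List ℕ :=
  bif Nat.blt q 335 then (bif Nat.blt q 332 then (bif Nat.blt q 330 then [5,1,3,5,0] else (bif Nat.blt q 331 then [1,2,1,3,3,1,3,1,3,3,1,2,2,1,2,0,2,0,2,1,3,3,1,3,3,0,2,0,4,2,4] else [5,3,5,1,3,1,2,2,0,2,2,0,3,1,3,1,3,0,3,3,0,2,2,0,2,0,2,2,0,3,0])) else (bif Nat.blt q 333 then [1,2,1,3,3,1,3,1,3,3,1,3,1,3,3,0,2,4,3,3,0,2,4] else (bif Nat.blt q 334 then [5,3,1,2,2,5,3,1,2,2,0,2,0,2,2,0,2,0,2,2,0,3,0] else [1,3,1,2,1,2,1,3,1,3,0,2,1,2,0,2,1,2,0,3,3,3,0,3,0,3,3,0,3,3,0,3,1,2,2,1,2,2,1,3,1,2,2,2,2,1,2,0,2,2,0,2,1,2,1,4,3,1,4,3,3,0,3]))) else (bif Nat.blt q 338 then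 (bif Nat.blt q 336 then [2,1,2,2,5,0,2,5,0,3,0,3,1,3,3,1,3,0,3,3,3,3,0,2,0,3,3,0,3,3,0,2,1,2,2,1,2,2,1,2,1,2,2,2,1,3,0,3,1,3,0,3,1,2,0,2,0,3,0,3,0,2,0] else (bif Nat.blt q 337 then [3,1,2,1,3,3,1,3,3,1,3,1,2,1,2,0,2,2,0,3,3,1,3,3,0,3,1,3,3,0,3,3,1,1,4,2,4] else [5,3,5,0,0,2,2,1,2,2,0,2,1,2,2,0,2,2,1,3,3,1,3,0,3,0,2,0,2,2,0,2,2,0,3,0,2])) else (bif Nat.blt q 339 then [2,2,1,2,2,1,2,2,0,2,0,2,2,2,1,3,0,3,3,3,1,3,1,3,3,3,1,3,1,3,1,2,4,2,1,4] else (bif Nat.blt q 340 then [5,0,3,5,3,0,2,0,2,0,2,2,2,0,2,0,2,2,2,1,2,0,3,3,3,1,3,1,3,3,0,3,3,0,3,3] else [1,3,1,2,1,2,1,3,1,3,0,2,1,2,0,2,1,2,2,1,3,0,3,3,0,3,1,2,2,0,3,1,3,3,1,3,0,2,2,0,2,2,2,4,2,2,0,2,4])))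

/-- Part of the tree. -/
noncomputable def awT_t56 (q : ℕ) : List ℕ :=
  bif Nat.blt q 329 then (awT_t54 q) else (awT_t55 q)

/-- Part of the tree. -/
noncomputable def awT_t57 (q : ℕ) : List ℕ :=
  bif Nat.blt q 346 then (bif Nat.blt q 343 then (bif Nat.blt q 342 then [5,3,1,3,3,5,3,3,3,1,3,3,1,2,0,2,2,0,2,1,3,3,0,2,1,2,2,1,2,0,3,3,0,3,1,3,0,3,1,2,0,2,0,3,0,3,0,2,0] else [2,2,1,2,2,1,2,2,0,2,0,2,2,2,1,3,0,3,3,3,1,3,1,3,3,3,1,3,1,3,1,2,4,2,2,1,2,4]) else (bif Nat.blt q 344 then [5,3,0,3,3,5,3,0,2,0,2,0,2,2,2,0,2,0,2,2,2,1,2,0,3,3,3,1,3,1,3,3,0,3,3,0,3,3] else (bif Nat.blt q 345 then [1,3,1,2,1,2,1,3,1,3,0,2,1,2,0,3,1,3,0,3,1,2,1,3,3,0,3,3,3,1,2,2,0,2,0,3,3,1,3,1,2,2,0,3,3,0,4,3,0,4] else [5,1,2,5,1,2,2,1,3,3,0,2,0,2,2,1,3,1,3,3,0,2,2,2,1,2,2,0,3,0,2,1,2,0,2,1,3,0,3,1,2,0,2,0,3,0,3,0,2,0]))) else (bif Nat.blt q 349 then (bif Nat.blt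 q 347 then [2,0,2,1,2,0,2,2,0,2,0,3,3,3,1,2,0,2,0,3,3,1,3,1,2,1,2,1,3,4,3,1,4,3,0] else (bif Nat.blt q 348 then [1,2,5,0,2,5,2,0,3,0,3,0,2,0,2,2,1,3,1,3,0,2,2,2,1,3,1,3,3,1,3,0,3,1,3] else [3,1,2,1,3,3,1,3,3,1,3,1,2,1,2,0,2,2,0,3,3,1,3,3,0,3,1,3,3,0,3,3,4,2,0])) else (bif Nat.blt q 350 then [1,3,5,2,2,1,2,2,0,2,1,2,2,0,2,2,1,3,3,1,3,0,3,0,2,0,2,2,0,2,2,0,3,0,2] else (bif Nat.blt q 351 then [1,3,1,2,1,2,1,3,1,3,0,2,1,2,0,3,1,2,1,2,2,0,2,2,2,1,3,0,3,0,2,1,3,3,0,3,3,3,1,3,3,0,2,2,1,3,3,0,3,3,3,3,1,3,0,2,0,2,1,3,0,3,1,1,4,2,0,4] else [5,1,3,5,0,0,2,1,2,0,3,1,3,1,2,0,2,2,2,2,1,2,2,0,3,3,1,2,2,0,2,2,2,1,2,2,0,3,1,2,1,2,0,3,3,3,1,3,3,0,3,0,2,1,3,0,3,1,2,0,2,0,3,0,3,0,2,0])))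

/-- Part of the tree. -/
noncomputable def awT_t58 (q : ℕ) : List ℕ :=
  bif Nat.blt q 358 then (bif Nat.blt q 355 then (bif Nat.blt q 353 then [2,2,1,2,2,1,2,2,0,2,0,2,2,2,1,3,0,3,3,3,1,3,1,3,3,3,1,3,1,3,1,2,0,4,3,3,1,2,4,2] else (bif Nat.blt q 354 then [3,5,3,0,2,2,5,1,3,0,2,0,2,0,2,2,2,0,2,0,2,2,2,1,2,0,3,3,3,1,3,1,3,3,0,3,3,0,3,3] else [1,3,1,2,1,2,1,3,1,3,0,2,1,2,0,3,1,2,0,2,1,3,0,3,0,2,1,2,1,3,0,3,3,3,3,1,3,3,0,2,2,4,2,2,1])) else (bif Nat.blt q 356 then [0,3,3,5,3,3,1,2,2,0,2,2,2,2,1,2,0,3,0,3,1,2,1,2,0,3,1,3,0,2,1,3,0,3,1,2,0,2,0,3,0,3,0,2,0] else (bif Nat.blt q 357 then [1,3,1,3,0,3,0,3,3,3,1,2,1,2,0,3,1,2,2,0,2,0,3,3,1,2,0,4,3,1,4,3,1] else [0,2,5,0,2,5,1,3,0,2,2,1,3,1,3,3,0,2,1,3,0,3,0,2,2,2,1,2,1,2,0,2,0]))) else (bif Nat.blt q 361 then (bif Nat.blt q 359 then [1,3,1,2,1,2,1,3,1,3,0,2,1,2,0,3,1,2,1,2,2,0,2,2,2,1,3,0,3,0,2,1,3,3,0,3,3,3,1,3,3,0,2,2,1,3,3,0,3,3,3,3,1,3,0,2,0,2,1,3,0,3,1,1,4,2,0,4,2,4]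 else (bif Nat.blt q 360 then [5,3,5,1,3,5,0,0,2,1,2,0,3,1,3,1,2,0,2,2,2,2,1,2,2,0,3,3,1,2,2,0,2,2,2,1,2,2,0,3,1,2,1,2,0,3,3,3,1,3,3,0,3,0,2,1,3,0,3,1,2,0,2,0,3,0,3,0,2,0] else [2,0,2,1,2,0,2,2,0,2,0,3,3,3,3,0,3,1,2,2,4,3,4,3,4,3,0])) else (bif Nat.blt q 362 then [1,2,5,2,5,2,5,3,3,0,2,1,2,2,2,2,1,3,1,3,3,1,3,0,3,1,3] else (bif Nat.blt q 363 then [1,3,1,2,1,2,1,3,1,3,0,2,1,2,0,0,2,1,2,0,2,2,0,2,0,3,3,0,2,1,2,0,2,2,1,2,2,1,2,2,0,2,0,2,2,1,2,1,3,1,3,1,2,2,1,4,2,1,4,2,2,0,2] else [3,1,3,3,5,0,3,5,0,3,3,0,2,0,2,0,3,0,3,3,1,3,1,3,3,0,3,3,0,3,3,1,3,0,3,1,2,2,1,3,1,3,3,1,3,0,3,1,1,3,0,3,1,2,0,2,0,3,0,3,0,2,0])))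

/-- Part of the tree. -/
noncomputable def awT_t59 (q : ℕ) : List ℕ :=
  bif Nat.blt q 352 then (awT_t57 q) else (awT_t58 q)

/-- Part of the tree. -/
noncomputable def awT_t60 (q : ℕ) : List ℕ :=
  bif Nat.blt q 341 then (awT_t56 q) else (awT_t59 q)

/-- Part of the tree. -/
noncomputable def awT_t61 (q : ℕ) : List ℕ :=
  bif Nat.blt q 318 then (awT_t53 q) else (awT_t60 q)

/-- Part of the tree. -/
noncomputable def awT_t62 (q : ℕ) : List ℕ :=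
  bif Nat.blt q 273 then (awT_t46 q) else (awT_t61 q)

/-- Part of the tree. -/
noncomputable def awT_t63 (q : ℕ) : List ℕ :=
  bif Nat.blt q 182 then (awT_t31 q) else (awT_t62 q)

/-- Part of the tree. -/
noncomputable def awT_t64 (q : ℕ) : List ℕ :=
  bif Nat.blt q 369 then (bif Nat.blt q 366 then (bif Nat.blt q 365 then [1,2,0,2,1,3,0,3,0,2,1,2,2,1,2,0,3,1,2,1,3,3,1,2,1,3,3,3,3,1,3,0,3,3,4,3,4,3,3,4,3,0,2] else [3,1,2,5,2,2,5,2,5,2,2,1,2,0,2,2,2,2,0,3,0,2,2,0,3,0,2,1,3,0,3,3,0,3,1,2,1,2,0,3,1,3,0]) else (bif Nat.blt q 367 then [1,3,1,2,1,2,1,3,1,3,0,2,1,2,0,3,1,2,1,2,2,0,2,2,2,1,3,0,3,0,2,1,3,3,0,3,3,3,1,3,3,0,2,2,1,3,3,0,3,3,3,3,1,3,0,2,0,2,1,3,0,3,1,1,4,2,0,4,2,2,4] else (bif Nat.blt q 368 then [5,3,3,5,1,3,5,0,0,2,1,2,0,3,1,3,1,2,0,2,2,2,2,1,2,2,0,3,3,1,2,2,0,2,2,2,1,2,2,0,3,1,2,1,2,0,3,3,3,1,3,3,0,3,0,2,1,3,0,3,1,2,0,2,0,3,0,3,0,2,0]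 else [1,3,1,2,1,2,1,3,1,3,0,2,1,2,0,3,1,3,0,3,1,2,1,3,3,0,3,3,3,1,2,2,0,2,0,3,3,3,1,3,3,1,3,0,2,2,0,2,2,1,3,3,0,4,2,2,2,4,0,3,4,3,3]))) else (bif Nat.blt q 372 then (bif Nat.blt q 370 then [2,2,5,2,1,5,3,3,3,5,1,2,2,0,3,3,1,3,3,1,2,0,2,2,0,2,2,2,1,3,1,3,3,0,2,2,2,1,2,2,0,3,0,2,1,2,0,2,1,3,0,3,1,2,0,2,0,3,0,3,0,2,0] else (bif Nat.blt q 371 then [1,3,1,2,1,2,1,3,1,3,0,2,1,2,0,3,1,2,1,2,2,0,2,2,2,1,3,0,3,0,2,1,3,3,0,3,3,3,1,3,3,0,2,2,1,3,3,0,3,3,3,3,1,3,0,2,0,2,1,3,0,3,1,1,4,2,4,2,2,1,4] else [5,0,3,3,5,3,5,0,0,2,1,2,0,3,1,3,1,2,0,2,2,2,2,1,2,2,0,3,3,1,2,2,0,2,2,2,1,2,2,0,3,1,2,1,2,0,3,3,3,1,3,3,0,3,0,2,1,3,0,3,1,2,0,2,0,3,0,3,0,2,0])) else (bif Nat.blt q 373 then [1,2,0,2,1,3,0,3,0,2,1,2,1,3,0,3,3,0,3,1,2,0,2,2,1,2,1,2,0,2,1,3,4,3,3,4,2,2] else (bif Nat.blt q 374 then [3,3,5,2,2,5,2,0,3,1,3,0,3,0,3,3,1,3,0,2,1,2,2,1,2,0,3,0,3,1,2,1,2,0,3,1,3,0]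 else [1,3,1,2,1,2,1,3,1,3,0,2,1,2,0,3,1,2,1,3,3,1,3,1,3,3,1,2,0,3,3,1,3,1,2,2,0,3,0,2,2,1,2,1,3,1,3,1,2,1,4,2,4,2,2,4,3,3])))

/-- Part of the tree. -/
noncomputable def awT_t65 (q : ℕ) : List ℕ :=
  bif Nat.blt q 380 then (bif Nat.blt q 377 then (bif Nat.blt q 376 then [2,2,5,3,3,5,3,5,0,3,0,2,0,2,0,3,0,3,3,1,2,1,3,3,0,2,0,2,2,1,3,0,2,2,0,2,0,2,2,0,3,0,2,1,3,0,3,1,2,0,2,0,3,0,3,0,2,0] else [1,3,1,2,1,2,1,3,1,3,0,2,1,2,0,0,2,1,2,2,1,2,1,3,0,3,0,2,1,2,0,3,3,1,3,1,3,3,0,2,0,3,3,1,3,0,2,1,1,4,3,3,3]) else (bif Nat.blt q 378 then [2,2,2,5,0,0,3,1,2,0,2,2,1,3,1,2,2,0,2,0,2,2,1,3,0,3,1,2,1,2,0,3,0,3,3,0,3,1,1,3,0,3,1,2,0,2,0,3,0,3,0,2,0] else (bif Nat.blt q 379 then [1,3,1,2,1,2,1,3,1,3,0,2,1,2,0,3,1,3,0,3,1,2,1,3,3,0,3,3,3,1,2,2,0,2,0,3,1,2,0,2,2,1,2,2,1,2,2,0,2,0,2,2,1,2,1,3,1,3,1,2,4,2,1,4,2,0] else [1,3,5,0,3,5,3,0,2,0,2,0,3,0,3,3,1,3,1,3,3,0,3,3,0,3,3,1,3,0,2,1,3,1,3,3,0,2,2,2,1,2,2,0,3,0,2,1,2,0,2,1,3,0,3,1,2,0,2,0,3,0,3,0,2,0])))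 else (bif Nat.blt q 383 then (bif Nat.blt q 381 then [2,1,3,0,2,2,1,3,3,3,0,3,3,1,2,0,3,3,1,3,1,2,0,2,0,2,2,1,2,0,2,1,4,3,3,1,4,2,4] else (bif Nat.blt q 382 then [5,3,5,0,2,2,5,0,3,1,3,0,3,3,1,3,1,3,0,2,0,2,2,1,3,0,2,2,1,2,2,2,0,3,3,1,2,0,3] else [1,3,1,2,1,2,1,3,1,3,0,2,1,2,0,3,1,3,0,3,1,2,1,3,3,0,3,3,3,1,2,2,0,2,0,3,3,1,3,1,2,0,2,0,2,2,1,2,0,2,1,4,3,3,0,4,2,4])) else (bif Nat.blt q 384 then [5,3,5,1,2,2,5,0,3,1,3,0,3,3,1,3,1,3,0,2,0,2,2,1,3,1,3,3,0,2,2,2,1,2,2,0,3,0,2,1,2,0,2,1,3,0,3,1,2,0,2,0,3,0,3,0,2,0] else (bif Nat.blt q 385 then [1,3,0,3,3,3,1,2,2,0,2,1,3,3,0,2,4,2,2,4,2,2,4,2,2,4,3,0,2,0,2,2,0,2,0,4,2,1,4,2,1] else [0,3,5,0,3,5,1,3,1,3,3,1,3,1,2,5,3,3,5,3,3,5,3,3,5,3,1,2,2,0,3,1,3,3,0,2,2,2,1,2,0])))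

/-- Part of the tree. -/
noncomputable def awT_t66 (q : ℕ) : List ℕ :=
  bif Nat.blt q 375 then (awT_t64 q) else (awT_t65 q)

/-- Part of the tree. -/
noncomputable def awT_t67 (q : ℕ) : List ℕ :=
  bif Nat.blt q 391 then (bif Nat.blt q 388 then (bif Nat.blt q 387 then [1,3,1,2,1,2,1,3,1,3,0,2,1,2,0,3,1,3,1,3,0,3,0,3,3,3,1,3,3,1,2,2,0,2,2,0,2,2,2,1,4] else [5,0,3,3,3,1,3,3,1,3,3,0,2,2,0,2,2,2,1,2,1,2,0,2,0,2,1,3,0,3,1,2,0,2,0,3,0,3,0,2,0]) else (bif Nat.blt q 389 then [1,3,1,2,1,2,1,3,1,3,0,2,1,2,0,3,1,2,1,3,3,0,3,3,3,1,2,2,0,3,0,2,2,0,2,2,1,3,3,1,3,3,0,3,3,3,3,3,4,2,2,1,2,1,4] else (bif Nat.blt q 390 then [5,0,3,0,3,3,5,2,2,2,2,2,1,2,2,0,2,2,0,3,3,1,3,3,1,2,1,3,3,0,2,2,2,1,2,2,0,3,0,2,1,3,0,3,1,2,0,2,0,3,0,3,0,2,0] else [3,1,2,1,3,3,1,3,3,1,3,1,2,1,2,0,2,2,0,3,4,2,4,3,4,3,4,2,4,0,2,4,3,3,1,4,2,4,2,1,4]))) else (bif Nat.blt q 394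 then (bif Nat.blt q 392 then [5,0,3,5,3,5,0,2,2,5,3,1,5,3,5,2,5,2,5,3,5,2,1,3,3,1,3,0,3,0,2,0,2,2,0,2,2,0,3,0,2] else (bif Nat.blt q 393 then [3,3,3,1,2,0,2,2,1,4,3,4,2,4,2,2,4] else [5,3,3,5,3,5,2,5,0,3,3,1,3,0,2,2,2])) else (bif Nat.blt q 395 then [3,1,2,1,3,3,1,3,3,1,3,1,2,1,2,0,2,0,2,1,3,3,0,3,1,4,3,3,4,2,4,3] else (bif Nat.blt q 396 then [2,5,3,5,2,2,5,0,2,1,2,2,0,3,1,3,1,3,0,3,0,2,0,2,2,0,2,2,0,3,0,2] else [1,4,2,4])))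

/-- Part of the tree. -/
noncomputable def awT_t68 (q : ℕ) : List ℕ :=
  bif Nat.blt q 403 then (bif Nat.blt q 400 then (bif Nat.blt q 398 then [5,3,5,0] else (bif Nat.blt q 399 then [] else [])) else (bif Nat.blt q 401 then [2,1,2,2,0,3,1,2,1,2,0,3,3,3,1,3,3,0,3,0,3,0,3,1,2,0,2,2,1,2,1,2,0,2] else (bif Nat.blt q 402 then [3,1,3,0,3,0,3,3,1,3,0,2,1,2,1,2,1,2,2,0,2,2,2,1,3,0,3,0,2,1,3,3,0,3] else [1,3,1,2,1,2,1,3,1,3,0,2,1,2,2,1,3,3,3,0,3,0,2,0,2,2,1,3,3,1,3,3,0,3,3]))) else (bif Nat.blt q 406 then (bif Nat.blt q 404 then [2,2,1,2,2,0,2,2,0,3,3,1,3,1,2,1,2,2,2,0,3,3,0,3,1,2,0,2,0,3,0,3,0,2,0] else (bif Nat.blt q 405 then [4] else [5])) else (bif Nat.blt q 407 then [2,1,2,1,3,3,3,0,3,0,3,3,0,3,3,0,3,0,2,1,2,2,0,2,0,3,3,3,1,3,0,2,0,4,2,2,4] else (bif Nat.blt q 408 then [5,3,3,5,1,3,1,2,0,2,2,2,1,3,1,3,3,0,3,1,2,1,2,2,1,2,2,1,2,1,2,2,2,0,3,0,3]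 else [1,3,1,2,1,2,1,3,1,3,0,2,1,2,0,0,2,1,2,2,1,2,1,3,0,3,0,2,1,2,0,3,3,1,2,0,2,1,1,4])))

/-- Part of the tree. -/
noncomputable def awT_t69 (q : ℕ) : List ℕ :=
  bif Nat.blt q 397 then (awT_t67 q) else (awT_t68 q)

/-- Part of the tree. -/
noncomputable def awT_t70 (q : ℕ) : List ℕ :=
  bif Nat.blt q 386 then (awT_t66 q) else (awT_t69 q)

/-- Part of the tree. -/
noncomputable def awT_t71 (q : ℕ) : List ℕ :=
  bif Nat.blt q 414 then (bif Nat.blt q 411 then (bif Nat.blt q 410 then [5,0,0,3,1,3,0,2,2,1,3,0,3,1,2,1,2,0,3,0,3,3,0,3,1,1,3,0,3,1,2,0,2,0,3,0,3,0,2,0] else [1,3,0,3,3,1,3,0,2,0,2,1,3,0,3,1,2,1,3,3,3,0,3,3,3,3,0,2,0,2,2,0,2,4,2,0,4,2]) else (bif Nat.blt q 412 then [3,5,1,3,5,3,1,3,3,1,3,1,2,2,2,2,1,2,2,2,0,3,0,2,1,2,0,3,1,3,1,2,0,2,2,1,2,0] else (bif Nat.blt q 413 then [1,3,1,2,1,2,1,3,1,3,0,2,1,2,0,3,1,2,1,3,3,1,3,1,3,3,1,2,2,1,2,0,2,0,2,1,3,0,3,1,3,1,2,1,2,1,3,4]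 else [5,2,0,3,0,3,0,2,0,2,1,2,0,3,1,3,1,3,0,3,3,0,2,2,0,2,0,2,2,0,3,0,2,1,3,0,3,1,2,0,2,0,3,0,3,0,2,0]))) else (bif Nat.blt q 417 then (bif Nat.blt q 415 then [1,3,1,2,1,2,1,3,1,3,0,2,1,2,0,0,2,1,2,2,1,2,1,3,0,3,0,2,1,2,0,3,3,1,2,0,2,4] else (bif Nat.blt q 416 then [5,3,1,3,0,2,2,1,3,0,3,1,2,1,2,0,3,0,3,3,0,3,1,1,3,0,3,1,2,0,2,0,3,0,3,0,2,0] else [2,1,3,3,3,0,3,3,3,1,3,0,3,4])) else (bif Nat.blt q 418 then [5,2,1,2,0,2,2,2,1,2,2,2,0,3] else (bif Nat.blt q 419 then [1,2,1,3,3,1,3,1,3,3,1,2,2,1,3,3,0,2,0,4,2,2,4,2,2,4,2,2,4,1,3,1,2,1,2,1,3,4,3,1,4,3,1] else [0,2,5,0,2,5,2,0,3,0,3,0,2,0,5,3,3,5,3,3,5,3,3,5,1,3,1,2,2,0,3,3,0,2,2,0,2,0,2,2,0,3,0])))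

/-- Part of the tree. -/
noncomputable def awT_t72 (q : ℕ) : List ℕ :=
  bif Nat.blt q 426 then (bif Nat.blt q 423 then (bif Nat.blt q 421 then [1,3,1,2,1,2,1,3,1,3,0,2,1,2,0,0,2,1,2,0,2,2,0,2,0,3,3,0,2,2,1,3,3,1,3,3,0,2,0,2,2,1,2,1,3,1,3,1,2,2,4,3,0,3,4,2,4] else (bif Nat.blt q 422 then [5,3,5,2,1,2,5,3,3,0,2,0,2,0,3,0,3,3,1,3,1,2,2,0,2,2,0,3,3,1,2,2,1,3,1,3,3,1,3,0,3,1,1,3,0,3,1,2,0,2,0,3,0,3,0,2,0] else [1,3,1,2,1,2,1,3,1,3,0,2,1,2,0,3,0,2,2,0,2,0,2,2,0,2,2,0,2,0,2,0,2,2,2,1,3,3,0,2,0,3,3,0,2,0,2,2,0,2,4,2,0,4,2])) else (bif Nat.blt q 424 then [3,5,1,3,5,3,1,3,3,1,3,1,2,2,1,3,1,2,2,0,3,3,3,1,3,1,3,1,3,3,1,3,3,1,3,1,3,3,1,2,1,3,0,3,1,2,0,2,0,3,0,3,0,2,0] else (bif Nat.blt q 425 then [1,3,0,3,1,2,1,3,3,0,3,3,3,1,2,2,0,2,0,3,3,3,1,3,3,1,3,0,2,2,0,3,1,2,0,3,3,1,4,3,3,0,4,2] else [3,5,1,2,2,5,0,2,2,1,3,0,2,1,3,3,1,2,0,2,2,0,2,2,2,1,3,1,3,3,0,2,2,2,1,2,2,0,3,0,2,1,2,0])))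 else (bif Nat.blt q 429 then (bif Nat.blt q 427 then [1,3,1,2,1,2,1,3,1,3,0,2,1,2,0,3,1,2,1,2,0,3,3,3,3,1,2,0,3,3,0,3,0,2,0,2,2,0,2,4,2,0,4,2,2,4] else (bif Nat.blt q 428 then [5,3,3,5,1,3,5,3,1,3,3,1,3,1,2,1,2,2,1,3,0,2,2,2,2,1,3,0,3,0,2,1,3,0,3,1,2,0,2,0,3,0,3,0,2,0] else [1,3,1,2,1,2,1,3,1,3,0,2,1,2,0,3,0,3,0,3,0,3,3,1,3,1,2,2,1,3,3,3,0,3,1,3,3,3,0,3,3,1,2,2,4,1,3,4,3,1,3,1,3,0])) else (bif Nat.blt q 430 then [1,2,0,2,0,2,5,2,0,5,3,3,0,2,2,1,2,2,2,0,2,1,2,2,2,0,3,3,0,2,0,2,2,1,2,1,2,1,2,1,3,0,3,1,2,0,2,0,3,0,3,0,2,0] else (bif Nat.blt q 431 then [2,0,2,1,2,0,2,2,0,2,0,3,3,0,2,1,2,1,2,2,0,3,1,3,1,3,1,4] else [5,0,2,0,2,0,2,1,3,3,0,3,0,3,1,2,2,1,3,1,3,3,1,3,0,3,1,3])))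

/-- Part of the tree. -/
noncomputable def awT_t73 (q : ℕ) : List ℕ :=
  bif Nat.blt q 420 then (awT_t71 q) else (awT_t72 q)

/-- Part of the tree. -/
noncomputable def awT_t74 (q : ℕ) : List ℕ :=
  bif Nat.blt q 437 then (bif Nat.blt q 434 then (bif Nat.blt q 433 then [1,3,1,2,1,2,1,3,1,3,0,2,1,2,0,3,1,2,1,2,2,0,2,2,2,1,3,0,3,0,2,1,3,3,0,3,3,1,3,1,2,2,0,3,0,3,3,3,1,2,0,2,1,4,2,1,4,2,2,4] else [5,3,3,5,0,3,5,0,3,1,3,0,2,2,2,1,2,1,3,3,0,2,0,2,2,1,2,2,0,3,1,2,1,2,0,3,3,3,1,3,3,0,3,0,2,1,3,0,3,1,2,0,2,0,3,0,3,0,2,0]) else (bif Nat.blt q 435 then [2,2,0,3,3,0,4,2,1,2,2,1,2,4,1,2,0,4,2,4,3,4,3,4,2,4,0,2,4,3,3,3,3,1,3,0,2,0,2,1,3,0,3,1,4,3,4,2,4,2] else (bif Nat.blt q 436 then [3,5,3,5,2,5,0,2,1,2,0,3,1,3,1,2,0,2,2,2,2,5,3,1,5,3,5,2,5,2,5,3,5,1,3,0,5,3,0,3,3,0,3,5,1,2,2,1,3,3] else [1,3,0,3,3,1,3,0,2,0,2,1,3,0,3,1,2,1,3,3,3,0,3,3,3,3,0,2,0,2,2,0,2,4,2,0,4,2,4])))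 else (bif Nat.blt q 440 then (bif Nat.blt q 438 then [5,3,5,1,3,5,3,1,3,3,1,3,1,2,2,2,2,1,2,2,2,0,3,0,2,1,2,0,3,1,3,1,2,0,2,2,1,2,0] else (bif Nat.blt q 439 then [] else [])) else (bif Nat.blt q 441 then [1,3,1,2,1,2,1,3,1,3,0,2,1,2,2,1,3,3,0,2,0,3,3,1,3,3,1,3,0,2,2,0,2,2,2,2,0,4] else (bif Nat.blt q 442 then [5,1,3,3,3,3,1,3,3,1,2,0,2,2,0,2,2,1,3,1,2,2,0,3,3,0,3,1,2,0,2,0,3,0,3,0,2,0] else [1,1,4])))

/-- Part of the tree. -/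
noncomputable def awT_t75 (q : ℕ) : List ℕ :=
  bif Nat.blt q 449 then (bif Nat.blt q 446 then (bif Nat.blt q 444 then [5,0,0] else (bif Nat.blt q 445 then [2,0,2,1,2,0,2,2,0,2,0,3,3,0,2,2,1,3,0,3,3,4] else [5,2,2,1,2,0,3,3,1,2,2,1,3,1,3,3,1,3,0,3,1,3])) else (bif Nat.blt q 447 then [1,3,1,2,1,2,1,3,1,3,0,2,1,2,0,0,2,1,2,0,2,2,0,2,0,3,0,3,3,3,3,0,3,0,3,3,0,3,4,3,0,4,3] else (bif Nat.blt q 448 then [2,5,1,2,5,2,1,2,2,1,2,1,2,2,2,2,1,2,1,3,1,3,3,1,3,0,3,1,1,3,0,3,1,2,0,2,0,3,0,3,0,2,0] else [1,2,0,2,1,3,0,3,0,2,1,2,2,1,2,2,0,2,2,1,2,2,1,2,2,0,2,0,2,4]))) else (bif Nat.blt q 452 then (bif Nat.blt q 450 then [5,3,1,3,1,3,3,0,3,3,0,3,3,1,3,3,0,3,3,0,3,1,2,1,2,0,3,1,3,0] else (bif Nat.blt q 451 then [2,1,2,2,0,3,1,2,1,2,0,3,3,3,1,3,3,0,3,0,3,1,2,1,3,3,1,2,1,3,3,3,1,3,1,2,1,2,1,3,3,0,4,3,4,2] else [3,5,2,5,1,2,2,0,3,0,3,0,2,0,2,2,2,0,3,0,2,2,0,3,0,2,1,2,1,2,2,0,2,2,2,1,3,0,3,0,2,1,3,3,0,3]))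 else (bif Nat.blt q 453 then [3,1,4] else (bif Nat.blt q 454 then [5,0,2] else [])))

/-- Part of the tree. -/
noncomputable def awT_t76 (q : ℕ) : List ℕ :=
  bif Nat.blt q 443 then (awT_t74 q) else (awT_t75 q)

/-- Part of the tree. -/
noncomputable def awT_t77 (q : ℕ) : List ℕ :=
  bif Nat.blt q 432 then (awT_t73 q) else (awT_t76 q)

/-- Part of the tree. -/
noncomputable def awT_t78 (q : ℕ) : List ℕ :=
  bif Nat.blt q 409 then (awT_t70 q) else (awT_t77 q)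

/-- Part of the tree. -/
noncomputable def awT_t79 (q : ℕ) : List ℕ :=
  bif Nat.blt q 460 then (bif Nat.blt q 457 then (bif Nat.blt q 456 then [] else [1,3,1,2,1,2,1,3,1,3,0,2,1,2,2,1,3,3,0,2,0]) else (bif Nat.blt q 458 then [1,3,1,2,2,0,3,3,0,3,1,2,0,2,0,3,0,3,0,2,0] else (bif Nat.blt q 459 then [1,3,1,2,1,2,1,3,1,3,0,2,1,2,2,0,3,3,1,2,2,0,2,1,3,3,0,2,4,2,4,3,4,3,4,2,4,0,2,4,3,3] else [2,2,5,3,1,5,3,5,2,5,2,5,3,5,3,1,2,2,0,3,1,3,3,0,2,2,1,3,3,0,3,1,2,0,2,0,3,0,3,0,2,0]))) else (bif Nat.blt q 463 then (bif Nat.blt q 461 then [2,1,3,0,2,2,1,3,3,3,0,3,3,1,2,0,3,4,2,4,3,4,3,4,2,4,0,2,4,3,3,4] else (bif Nat.blt q 462 then [5,2,2,5,3,1,5,3,5,2,5,2,5,3,5,2,1,3,0,2,2,1,2,2,2,0,3,3,1,2,0,3] else [1,2,1,2,0,2,0,0,4])) else (bif Nat.blt q 464 then [5,1,1,3,1,3,0,3,0] else (bif Nat.blt q 465 then [1,3,1,2,1,2,1,3,1,3,0,2,1,2,2,0,3,3,1,2,2,0,2,1,3,3,0,2,1,2,0,4,3,4]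 else [5,2,5,1,3,0,3,1,2,2,0,3,1,3,3,0,2,2,1,3,3,0,3,1,2,0,2,0,3,0,3,0,2,0])))

/-- Part of the tree. -/
noncomputable def awT_t80 (q : ℕ) : List ℕ :=
  bif Nat.blt q 471 then (bif Nat.blt q 468 then (bif Nat.blt q 467 then [2,1,2,0,3,3,1,2,2,0,2,1,3,3,0,2,4,2,4,3,4,3,4,2,4,0,2,4,3,3,4] else [5,2,2,5,3,1,5,3,5,2,5,2,5,3,5,3,1,2,2,0,3,1,3,3,0,2,2,1,3,0,3]) else (bif Nat.blt q 469 then [2,1,2,0,3,3,1,2,2,0,2,1,3,3,0,2,4,2,4,3,4,3,4,2,4,0,2,4,3,3,1,4] else (bif Nat.blt q 470 then [5,0,2,2,5,3,1,5,3,5,2,5,2,5,3,5,3,1,2,2,0,3,1,3,3,0,2,2,1,3,0,3] else [2,1,2,2,0,3,1,2,1,2,0,3,3,3,1,3,3,0,3,0,3,1,3,1,3,3,0,2,0,3,3,1,3,1,2,1,2,1,1,4,2,0,4,2,4,2,4]))) else (bif Nat.blt q 474 then (bif Nat.blt q 472 then [5,3,5,3,5,1,3,5,0,0,3,0,3,0,2,0,2,2,1,3,1,2,2,0,2,0,2,1,2,1,2,2,0,2,2,2,1,3,0,3,0,2,1,3,3,0,3] else (bif Nat.blt q 473 then [3,1,3,1,3,3,3,1,3,1,3,3,3,1,3,0,3,4]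 else [5,2,1,2,0,2,2,2,0,2,0,2,2,2,0,2,0,2])) else (bif Nat.blt q 475 then [1,3,1,2,1,2,1,3,1,3,0,2,1,2,0,3,1,2,1,2,0,3,3,3,1,3,3,0,2,0,4,3,3,1,3,0,3,4] else (bif Nat.blt q 476 then [5,2,1,2,0,2,2,5,1,3,1,2,2,0,2,2,2,1,3,0,3,0,2,1,3,0,3,1,2,0,2,0,3,0,3,0,2,0] else [1,3,1,3,0,3,0,3,3,1,3,3,1,2,0,3,3,0,2,2])))

/-- Part of the tree. -/
noncomputable def awT_t81 (q : ℕ) : List ℕ :=
  bif Nat.blt q 466 then (awT_t79 q) else (awT_t80 q)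

/-- Part of the tree. -/
noncomputable def awT_t82 (q : ℕ) : List ℕ :=
  bif Nat.blt q 482 then (bif Nat.blt q 479 then (bif Nat.blt q 478 then [3,3,1,2,2,1,3,0,2,2,0,2,2,1,2,1,2,0,2,0] else [1,2,1,3,3,1,3,1,3,3,1,2,0,2,0,2,2,1,3,3,1,3,3,0,3,3]) else (bif Nat.blt q 480 then [2,2,1,2,2,0,2,2,0,3,3,1,3,1,3,0,2,2,0,2,0,2,2,0,3,0] else (bif Nat.blt q 481 then [1,3,1,2,1,2,1,3,1,3,0,2,1,2,0,0,2,1,2,0,2,2,0,2,0,3,3,0,0,3,1,2,0,2,2,1,2,1,2,0,2] else [3,1,3,0,3,0,3,3,1,3,0,2,1,1,2,2,1,3,1,3,3,1,3,0,3,1,1,3,0,3,1,2,0,2,0,3,0,3,0,2,0]))) else (bif Nat.blt q 485 then (bif Nat.blt q 483 then [2,2,0,3,3,0,4,2,1,2,2,1,2,4,1,2,0] else (bif Nat.blt q 484 then [1,3,0,5,3,0,3,3,0,3,5,1,2,2,1,3,3] else [2,1,2,1,3,3,3,0,3,0,3])) else (bif Nat.blt q 486 then [2,1,2,1,2,2,2,0,3,0,3] else (bif Nat.blt q 487 then [2,1,2,0,3,3,1,2,2,0,2,1,3,3,0,2,2,1,3,3,1,2,2,2,0,3,0,3]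 else [2,1,2,1,3,3,3,0,2,2,0,3,3,1,2,2,0,3,1,3,3,0,2,2,1,3,0,3])))

/-- Part of the tree. -/
noncomputable def awT_t83 (q : ℕ) : List ℕ :=
  bif Nat.blt q 494 then (bif Nat.blt q 491 then (bif Nat.blt q 489 then [1,3,1,2,1,2,1,3,1,3,0,2,1,2,0,3,1,2,1,3,3,1,3,1,3,3,1,2,0,3] else (bif Nat.blt q 490 then [2,1,3,0,2,2,0,2,0,2,2,0,3,0,2,1,3,0,3,1,2,0,2,0,3,0,3,0,2,0] else [1,3,1,2,1,2,1,3,1,3,0,2,1,2,0,3])) else (bif Nat.blt q 492 then [2,1,3,0,3,1,2,0,2,0,3,0,3,0,2,0] else (bif Nat.blt q 493 then [2,1,2,1,3,3,0,2,0,2,1,2,2,0,2] else [3,1,3,3,0,3,1,3,1,2,2,0,3,0,3]))) else (bif Nat.blt q 497 then (bif Nat.blt q 495 then [2,2,1,2,2,1,3,0,3,3,0,3,1,2,1,2,1,2,2,1,3,1,2,0] else (bif Nat.blt q 496 then [1,3,0,2,0,3,3,0,3,0,3,0,2,1,2,2,1,2,0,3,3,0,3,3] else [1,3,1,2,1,2,1,3,1,3,0,2,1,2,0,3,1,2,1,2,2,0,2,2,2,1,3,0,3,0,2,1,3,3,0,3])) else (bif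 Nat.blt q 498 then [2,1,2,2,0,3,1,2,1,2,0,3,3,3,1,3,3,0,3,0,2,1,3,0,3,1,2,0,2,0,3,0,3,0,2,0] else (bif Nat.blt q 499 then [2,2,1,2,2,1,2,2,0,2,0,2,2,2,1,3,0,3,3] else [2,2,1,2,0,3,3,3,1,3,1,3,3,0,3,3,0,3,3])))

/-- Part of the tree. -/
noncomputable def awT_t84 (q : ℕ) : List ℕ :=
  bif Nat.blt q 488 then (awT_t82 q) else (awT_t83 q)

/-- Part of the tree. -/
noncomputable def awT_t85 (q : ℕ) : List ℕ :=
  bif Nat.blt q 477 then (awT_t81 q) else (awT_t84 q)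

/-- Part of the tree. -/
noncomputable def awT_t86 (q : ℕ) : List ℕ :=
  bif Nat.blt q 505 then (bif Nat.blt q 502 then (bif Nat.blt q 501 then [1,3,1,2,1,2,1,3,1,3,0,2,1,2,0,3] else [2,1,3,0,3,1,2,0,2,0,3,0,3,0,2,0]) else (bif Nat.blt q 503 then [1,3,1,3,0,3,0,3,3,3,0,2,1,2,1,3,3,3,1,2,0,3,0] else (bif Nat.blt q 504 then [1,2,1,3,0,2,2,2,0,3,0,3,1,2,2,2,1,2,1,2,0,2,0] else [1,2,0,2,1,3,0,3,0,2,1,2,1,3,0,3,4,2,2,4,2,2,4,2,2,4,2,2]))) else (bif Nat.blt q 508 then (bif Nat.blt q 506 then [3,3,5,3,3,5,3,3,5,3,3,5,2,1,2,0,3,0,3,1,2,1,2,0,3,1,3,0] else (bif Nat.blt q 507 then [1,3,1,2,1,2,1,3,1,3,0,2,1,2,0,0,2,1,2,0,2,2,0,2,0,3,3,0,2,2,1,3,0,2] else [3,1,2,0,3,3,1,2,2,1,3,1,3,3,1,3,0,3,1,1,3,0,3,1,2,0,2,0,3,0,3,0,2,0])) else (bif Nat.blt q 509 then [1,3,1,2,1,2,1,3,1,3,0,2,1,2,0,3,1,2,1,3,3,1,3,1,3,3,1,2,2,1,2,0,2,2,1,3,3,3,0,3,0] else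 (bif Nat.blt q 510 then [1,2,1,2,2,2,0,3,3,1,3,0,3,3,0,2,2,0,2,0,2,2,0,3,0,2,1,3,0,3,1,2,0,2,0,3,0,3,0,2,0] else [1,2,0,2,1,3,0,3,0,2,1,2,1,3,0,3])))

/-- Part of the tree. -/
noncomputable def awT_t87 (q : ℕ) : List ℕ :=
  bif Nat.blt q 517 then (bif Nat.blt q 514 then (bif Nat.blt q 512 then [2,1,2,0,3,0,3,1,2,1,2,0,3,1,3,0] else (bif Nat.blt q 513 then [1,3,1,2,1,2,1,3,1,3,0,2,1,2,0,3,1,3,0,3,1,2,1,3,3,0,3,3,3,1,2,2,0,2,0,3] else [2,1,3,1,3,3,0,2,2,2,1,2,2,0,3,0,2,1,2,0,2,1,3,0,3,1,2,0,2,0,3,0,3,0,2,0])) else (bif Nat.blt q 515 then [1,2,0,2,1,3,0,3,0,2,1,2,2,1,2,0,3,0,3,1,3,3,3,0,3,3,1,3,1,3,0,3] else (bif Nat.blt q 516 then [2,1,2,0,2,0,2,2,1,2,2,2,0,2,1,2,1,3,0,3,3,0,3,1,2,1,2,0,3,1,3,0] else [1,2,1,3,3,0,2,0,2]))) else (bif Nat.blt q 520 then (bif Nat.blt q 518 then [3,1,3,1,2,2,0,3,0] else (bif Nat.blt q 519 then [2,1,2,2,0,3,1,2,1,2,0,3,3,3,1,3,3,0,3,0,3,0,3,1,2,0,2,2,1,2,1,2,0,2]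 else [3,1,3,0,3,0,3,3,1,3,0,2,1,2,1,2,1,2,2,0,2,2,2,1,3,0,3,0,2,1,3,3,0,3])) else (bif Nat.blt q 521 then [1,3,1,2,1,2,1,3,1,3,0,2,1,2,0,3] else (bif Nat.blt q 522 then [2,1,3,0,3,1,2,0,2,0,3,0,3,0,2,0] else [1,3,1,2,1,2,1,3,1,3,0,2,1,2,0,2,1,2,2,1,3,0,3,3,0,3,1,2,2,0,2,2,1,2,2,1,2,2,1,3,1,3,1,3,0,2,0,2,1,3,0,3,1,3])))

/-- Part of the tree. -/
noncomputable def awT_t88 (q : ℕ) : List ℕ :=
  bif Nat.blt q 511 then (awT_t86 q) else (awT_t87 q)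

/-- Part of the tree. -/
noncomputable def awT_t89 (q : ℕ) : List ℕ :=
  bif Nat.blt q 528 then (bif Nat.blt q 525 then (bif Nat.blt q 524 then [2,0,2,1,2,0,3,1,3,1,2,0,2,0,2,0,3,3,0,3,3,0,3,3,1,3,3,0,2,1,2,2,1,2,0,3,3,0,3,1,3,0,3,1,2,0,2,0,3,0,3,0,2,0] else [2,1,2,1,3,3,0,2,0,4,2,4,3,4,3,4,2,4,0,2,4,3,3]) else (bif Nat.blt q 526 then [2,2,5,3,1,5,3,5,2,5,2,5,3,5,1,3,1,2,2,0,3,0,3] else (bif Nat.blt q 527 then [1,3,1,2,1,2,1,3,1,3,0,2,1,2,2,0,3,3,1,2,2,0,2,1,3,3,0,2,2,1,2,2,1,2,2,1,3,1,2,2,2,1,2,1,3,1,3,1] else [0,2,0,2,0,3,0,3,3,3,0,2,0,3,3,0,3,3,0,3,3,1,2,2,0,3,1,3,3,0,2,2,1,3,3,0,3,1,2,0,2,0,3,0,3,0,2,0]))) else (bif Nat.blt q 531 then (bif Nat.blt q 529 then [1,3,0,3,3,3,1,2,2,0,2,1,3,3,3,1,3,3,0,2,0] else (bif Nat.blt q 530 then [1,3,1,2,2,0,2,2,2,0,3,1,3,3,0,2,2,2,1,2,0] else [2,2,1,2,2,1,2,2,0,2,0,2,2,2,1,3,0,3,3,3,0,3,1,2,0,2,2,1,2,1,2,0,2,1,2,0]))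 else (bif Nat.blt q 532 then [1,3,0,3,1,3,0,3,0,3,3,1,3,0,2,1,2,2,2,1,2,0,3,3,3,1,3,1,3,3,0,3,3,0,3,3] else (bif Nat.blt q 533 then [1,3,1,3,0,3,3,3,3,0,3,3,1,3,1,2,2,0,3,0] else [1,2,1,3,3,0,2,0,2,2,1,2,2,2,2,1,2,0,2,0])))

/-- Part of the tree. -/
noncomputable def awT_t90 (q : ℕ) : List ℕ :=
  bif Nat.blt q 540 then (bif Nat.blt q 537 then (bif Nat.blt q 535 then [1,3,1,2,1,2,1,3,1,3,0,2,1,2,0,3] else (bif Nat.blt q 536 then [2,1,3,0,3,1,2,0,2,0,3,0,3,0,2,0] else [1,3,1,3,0,3,0,3])) else (bif Nat.blt q 538 then [2,1,2,1,2,0,2,0] else (bif Nat.blt q 539 then [1,3,1,2,1,2,1,3,1,3,0,2,1,2,0,3,0,3,0,3,0,3,3,1,3,1,2,2,1,3,1,3,0,2,1,3,3,0,3,3,0,4,3,3,4,3,4,2,4] else [5,3,5,2,5,2,2,5,1,2,2,1,2,2,0,3,1,2,0,2,0,3,3,0,2,0,2,2,1,2,1,2,1,2,1,3,0,3,1,2,0,2,0,3,0,3,0,2,0]))) else (bif Nat.blt q 543 then (bif Nat.blt q 541 then [2,1,2,1,3,3,0,2,0,4,2,4,3,4,3,4,2,4,0,2,4,3,3]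 else (bif Nat.blt q 542 then [2,2,5,3,1,5,3,5,2,5,2,5,3,5,1,3,1,2,2,0,3,0,3] else [1,4,3,3,3,4,3,3,1,2,4,2,1,2,4,2,2,1,2,0,3,3,1,3,1,3,3,3,1,3,1,3,3,4,2,4,3])) else (bif Nat.blt q 544 then [2,5,3,5,2,2,0,2,0,2,2,2,0,2,0,2,2,1,3,0,3,3,5,3,0,3,5,3,0,2,2,5,2,2,2,5,0] else (bif Nat.blt q 545 then [1,3,1,2,1,2,1,3,1,3,0,2,1,2,0,2,1,2,0,3,3,3,0,3,0,3,3,0,3,3,0,3,3,3,1,3,1,2,2,0,3,0,2,2,2,1,2,0,2,2,0,2,1,2,1,4,2,4,3,3,1] else [0,2,2,5,3,5,0,3,0,3,1,3,3,1,3,0,3,3,3,1,2,1,3,3,0,2,0,2,2,2,1,2,2,1,2,2,1,2,1,2,2,2,1,3,0,3,1,3,0,3,1,2,0,2,0,3,0,3,0,2,0])))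

/-- Part of the tree. -/
noncomputable def awT_t91 (q : ℕ) : List ℕ :=
  bif Nat.blt q 534 then (awT_t89 q) else (awT_t90 q)

/-- Part of the tree. -/
noncomputable def awT_t92 (q : ℕ) : List ℕ :=
  bif Nat.blt q 523 then (awT_t88 q) else (awT_t91 q)

/-- Part of the tree. -/
noncomputable def awT_t93 (q : ℕ) : List ℕ :=
  bif Nat.blt q 500 then (awT_t85 q) else (awT_t92 q)

/-- Part of the tree. -/
noncomputable def awT_t94 (q : ℕ) : List ℕ :=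
  bif Nat.blt q 455 then (awT_t78 q) else (awT_t93 q)

/-- Part of the tree. -/
noncomputable def awT_t95 (q : ℕ) : List ℕ :=
  bif Nat.blt q 551 then (bif Nat.blt q 548 then (bif Nat.blt q 547 then [3] else [2]) else (bif Nat.blt q 549 then [0,3,1] else (bif Nat.blt q 550 then [0,2,1] else [1,3,1,3,0,2,0,2]))) else (bif Nat.blt q 554 then (bif Nat.blt q 552 then [3,1,3,1,2,0,2,0] else (bif Nat.blt q 553 then [2,1,2,2,0,3,1,2,1,2,0,3,3,3,1,3,3,0,3,0,3,0,3,1,2,0,2,2,1,2,1,2,0,2] else [3,1,3,0,3,0,3,3,1,3,0,2,1,2,1,2,1,2,2,0,2,2,2,1,3,0,3,0,2,1,3,3,0,3])) else (bif Nat.blt q 555 then [1,3,0,3,3,3,1,2,2,0,2,1,3,3,3,1,2,2,0,3,0] else (bif Nat.blt q 556 then [1,2,1,3,3,0,2,2,2,0,3,1,3,3,0,2,2,2,1,2,0] else [1,3,1,2,1,2,1,3,1,3,0,2,1,2,2,2,0,3,1,2,1,2,0,3,3,3,1,3,3,3,3,0,2,0,2])))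

/-- Part of the tree. -/
noncomputable def awT_t96 (q : ℕ) : List ℕ :=
  bif Nat.blt q 562 then (bif Nat.blt q 559 then (bif Nat.blt q 558 then [3,1,3,1,2,2,2,2,0,2,2,2,1,3,0,3,0,2,1,3,3,3,0,3,1,2,0,2,0,3,0,3,0,2,0] else [1,3,0,3,3,1,3,0,2,0,2,1,3,0,3,1,3,3,1,2,1,2,0,3,3,0]) else (bif Nat.blt q 560 then [1,2,2,1,3,0,3,0,2,2,0,2,1,2,0,3,1,3,1,2,0,2,2,1,2,0] else (bif Nat.blt q 561 then [1,3,1,2,2,0,3,0,0,3,3,0,3,3,3,1,2,2,1,3] else [2,0,3,3,0,2,2,2,1,2,2,1,1,2,1,3,3,0,2,0]))) else (bif Nat.blt q 565 then (bif Nat.blt q 563 then [1,3,1,2,1,2,1,3,1,3,0,2,1,2,0,3] else (bif Nat.blt q 564 then [2,1,3,0,3,1,2,0,2,0,3,0,3,0,2,0] else [1,2,1,3,3,1,3,1,3,3,1,2,0,2,0,2,2,1,3,3,1,3,3,0,3,3,1,2,2,0])) else (bif Nat.blt q 566 then [1,3,3,0,2,2,1,2,2,0,2,2,0,3,3,1,3,1,3,0,2,2,0,2,0,2,2,0,3,0] else (bif Nat.blt q 567 then [1,2,1,3,3,1,3,1,3,3,1,2,0,3,3,1,3,1,2,0,2,2,0]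 else [1,3,3,1,3,0,2,0,2,2,1,3,0,2,2,0,2,0,2,2,0,3,0])))

/-- Part of the tree. -/
noncomputable def awT_t97 (q : ℕ) : List ℕ :=
  bif Nat.blt q 557 then (awT_t95 q) else (awT_t96 q)

/-- Part of the tree. -/
noncomputable def awT_t98 (q : ℕ) : List ℕ :=
  bif Nat.blt q 573 then (bif Nat.blt q 570 then (bif Nat.blt q 569 then [1,3,1,2,1,2,1,3,1,3,0,2,1,2,0,3,1,2,1,3,3,1,3,1,3,3,1,2,2,1,2,0,2,0,3,3,3,1,3,0,3] else [2,1,2,0,2,2,2,1,3,1,3,0,3,3,0,2,2,0,2,0,2,2,0,3,0,2,1,3,0,3,1,2,0,2,0,3,0,3,0,2,0]) else (bif Nat.blt q 571 then [1,3,1,3,0,3,0,3,3,1,3,3,1,2,0,3,3,0,2,2] else (bif Nat.blt q 572 then [3,3,1,2,2,1,3,0,2,2,0,2,2,1,2,1,2,0,2,0] else [2,1,2,0,3,3,1,2,2,0,2,1,3,3,0,2,2,1,3,3,1,2,2,2,0,3,0,3]))) else (bif Nat.blt q 576 then (bif Nat.blt q 574 then [2,1,2,1,3,3,3,0,2,2,0,3,3,1,2,2,0,3,1,3,3,0,2,2,1,3,0,3] else (bif Nat.blt q 575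 then [1,3,1,2,1,2,1,3,1,3,0,2,2,2,1,3,3,3,0,3,3,1,2,0,3] else [2,1,3,0,2,2,1,2,2,2,0,3,3,3,1,2,0,2,0,3,0,3,0,2,0])) else (bif Nat.blt q 577 then [2,2,1,2,2,1,3,0,3,3,0,3,1,2,2,0,2] else (bif Nat.blt q 578 then [3,1,3,3,0,2,1,2,2,1,2,0,3,3,0,3,3] else [1,3,1,2,1,2,1,3,1,3,0,2,1,2,0,3])))

/-- Part of the tree. -/
noncomputable def awT_t99 (q : ℕ) : List ℕ :=
  bif Nat.blt q 585 then (bif Nat.blt q 582 then (bif Nat.blt q 580 then [2,1,3,0,3,1,2,0,2,0,3,0,3,0,2,0] else (bif Nat.blt q 581 then [1,3,3,0] else [1,2,2,0])) else (bif Nat.blt q 583 then [1,2,1,3,3,1,3,1,3,3,1,2,0,3,3,1,3,1,2,0,2,2,0] else (bif Nat.blt q 584 then [1,3,3,1,3,0,2,0,2,2,1,3,0,2,2,0,2,0,2,2,0,3,0] else [1,2,1,3,3,1,3,1,3,3,1,2,0,2,0,2,2,1,3,3,1,3,3,0,3,3,1,2,2,0]))) else (bif Nat.blt q 588 then (bif Nat.blt q 586 then [1,3,3,0,2,2,1,2,2,0,2,2,0,3,3,1,3,1,3,0,2,2,0,2,0,2,2,0,3,0]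 else (bif Nat.blt q 587 then [1,3,1,2,1,2,1,3,1,3,0,2,1,2,0,3,1,2,1,3,3,1,3,1,3,3,1,2,2,1,2,0,2,0,3,3,3,1,3,0,3] else [2,1,2,0,2,2,2,1,3,1,3,0,3,3,0,2,2,0,2,0,2,2,0,3,0,2,1,3,0,3,1,2,0,2,0,3,0,3,0,2,0])) else (bif Nat.blt q 589 then [2,2,1,2,2,1,2,2,0,2,0,2,2,2,1,3,0,3,3,3,1,2,2,2,0,2] else (bif Nat.blt q 590 then [3,1,3,3,3,0,2,2,2,1,2,0,3,3,3,1,3,1,3,3,0,3,3,0,3,3] else [1,2,1,3,3,1,3,1,3,3,1,2,2,1,3,3,0,2,0,3,1,3,1,3,3,0,2,0])))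

/-- Part of the tree. -/
noncomputable def awT_t100 (q : ℕ) : List ℕ :=
  bif Nat.blt q 579 then (awT_t98 q) else (awT_t99 q)

/-- Part of the tree. -/
noncomputable def awT_t101 (q : ℕ) : List ℕ :=
  bif Nat.blt q 568 then (awT_t97 q) else (awT_t100 q)

/-- Part of the tree. -/
noncomputable def awT_t102 (q : ℕ) : List ℕ :=
  bif Nat.blt q 596 then (bif Nat.blt q 593 then (bif Nat.blt q 592 then [1,3,1,2,2,0,2,0,2,1,3,1,2,2,0,3,3,0,2,2,0,2,0,2,2,0,3,0] else [1,3,1,3,0,3,0,3,3,1,3,3,1,2,0,3,3,0,2,2]) else (bif Nat.blt q 594 then [3,3,1,2,2,1,3,0,2,2,0,2,2,1,2,1,2,0,2,0] else (bif Nat.blt q 595 then [2,2,0,3,3,0,4,2,1,2,2,1,2,4,1,2,0] else [1,3,0,5,3,0,3,3,0,3,5,1,2,2,1,3,3]))) else (bif Nat.blt q 599 then (bif Nat.blt q 597 then [1,3,1,2,1,2,1,3,1,3,0,2,1,2,0,3,1,3,0,3,1,2,1,3,3,0,3,3,3,1,2,2,0,2,0,3] else (bif Nat.blt q 598 then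 [2,1,3,1,3,3,0,2,2,2,1,2,2,0,3,0,2,1,2,0,2,1,3,0,3,1,2,0,2,0,3,0,3,0,2,0] else [2,1,2,0,3,3,1,2,2,0,2,1,3,3,0,2,2,1,3,3,1,2,2,2,0,3,0,3])) else (bif Nat.blt q 600 then [2,1,2,1,3,3,3,0,2,2,0,3,3,1,2,2,0,3,1,3,3,0,2,2,1,3,0,3] else (bif Nat.blt q 601 then [1,2,1,3,3,1,3,1,3,3,1,2,2,1,2,0,2,0] else [1,3,1,3,0,3,3,0,2,2,0,2,0,2,2,0,3,0])))

/-- Part of the tree. -/
noncomputable def awT_t103 (q : ℕ) : List ℕ :=
  bif Nat.blt q 608 then (bif Nat.blt q 605 then (bif Nat.blt q 603 then [1,3,1,2,1,2,1,3,1,3,0,2,1,2,0,3] else (bif Nat.blt q 604 then [2,1,3,0,3,1,2,0,2,0,3,0,3,0,2,0] else [1,3,1,2,1,2,1,3,1,3,0,2,1,2,0,3,1,2,1,3,3,1,3,1,3,3,1,2,2,1,2,0,2,0,3,3,3,1,3,0,3])) else (bif Nat.blt q 606 then [2,1,2,0,2,2,2,1,3,1,3,0,3,3,0,2,2,0,2,0,2,2,0,3,0,2,1,3,0,3,1,2,0,2,0,3,0,3,0,2,0] else (bif Nat.blt q 607 then [1,2,1,3,3,1,3,1,3,3,1,2,0,3,3,1,3,1,2,0,2,2,0]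 else [1,3,3,1,3,0,2,0,2,2,1,3,0,2,2,0,2,0,2,2,0,3,0]))) else (bif Nat.blt q 611 then (bif Nat.blt q 609 then [2,1,2,0,3,3,1,2,2,0,2,1,3,3,0,2,2,1,3,3,1,2,2,2,0,3,0,3] else (bif Nat.blt q 610 then [2,1,2,1,3,3,3,0,2,2,0,3,3,1,2,2,0,3,1,3,3,0,2,2,1,3,0,3] else [1,3,1,2,1,2,1,3,1,3,0,2,1,2,2,1,3,3,3,0,3,0,3,3,1,3,3,0,3])) else (bif Nat.blt q 612 then [2,1,2,2,0,2,2,1,2,1,2,2,2,0,3,3,0,3,1,2,0,2,0,3,0,3,0,2,0] else (bif Nat.blt q 613 then [2,0,2,1,2,2,1,2,1,3,0,3,0,2,1,2,0,3,3,3,1,3,3,1,3,0,3,3,0,3,3] else [2,2,1,2,2,1,2,0,2,2,0,2,2,2,1,3,0,3,1,2,1,2,0,3,0,3,3,0,3,1,3])))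

/-- Part of the tree. -/
noncomputable def awT_t104 (q : ℕ) : List ℕ :=
  bif Nat.blt q 602 then (awT_t102 q) else (awT_t103 q)

/-- Part of the tree. -/
noncomputable def awT_t105 (q : ℕ) : List ℕ :=
  bif Nat.blt q 619 then (bif Nat.blt q 616 then (bif Nat.blt q 615 then [1,3,1,2,1,2,1,3,1,3,0,2,1,2,0,3,1,2,1,3,3,3,0,3,0] else [1,2,1,2,2,2,0,3,0,2,1,3,0,3,1,2,0,2,0,3,0,3,0,2,0]) else (bif Nat.blt q 617 then [1,3,1,2,1,2,1,3,1,3,0,2,1,2,0,3] else (bif Nat.blt q 618 then [2,1,3,0,3,1,2,0,2,0,3,0,3,0,2,0] else [1,3,1,2,1,2,1,3,1,3,0,2,1,2,2,2,0,3,1,2,1,2,0,3,3,3,1,3,3,0,3,0,2,1,3,3,1,2,2,2,0,3,0,3]))) else (bif Nat.blt q 622 then (bif Nat.blt q 620 then [2,1,2,1,3,3,3,0,2,2,0,3,1,2,1,2,2,0,2,2,2,1,3,0,3,0,2,1,3,3,3,0,3,1,2,0,2,0,3,0,3,0,2,0] else (bif Nat.blt q 621 then [2,2,0,3,3,0,4,2,1,2,2,1,2,4,1,2,0,2,1,2,2,0,2] else [3,1,3,3,0,3,1,3,0,5,3,0,3,3,0,3,5,1,2,2,1,3,3]))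 else (bif Nat.blt q 623 then [1,3,1,2,1,2,1,3,1,3,0,2,1,2,0,3,0,3,0,3,0,3,3,1,3,1,2,2,1,3,1,3,3,1,3,0,3,0] else (bif Nat.blt q 624 then [1,2,1,2,0,2,2,0,2,0,3,3,0,2,0,2,2,1,2,1,2,1,2,1,3,0,3,1,2,0,2,0,3,0,3,0,2,0] else [2,1,2,1,3,3,0,2,0,4,2,4,3,4,3,4,2,4,0,2,4,3,3])))

/-- Part of the tree. -/
noncomputable def awT_t106 (q : ℕ) : List ℕ :=
  bif Nat.blt q 631 then (bif Nat.blt q 628 then (bif Nat.blt q 626 then [2,2,5,3,1,5,3,5,2,5,2,5,3,5,1,3,1,2,2,0,3,0,3] else (bif Nat.blt q 627 then [0,3,0,3,0,3,3,1,3,1,2,2,1,3,3,3,1,3,1,3,3,0,2,0] else [1,3,1,2,2,0,2,0,2,2,2,0,3,3,0,2,0,2,2,1,2,1,2,1])) else (bif Nat.blt q 629 then [1,3,1,2,1,2,1,3,1,3,0,2,1,2,0,3,3,1,2,1,3,3,1,3,3,1,3,1,2,1,2,0,2,2,0,3] else (bif Nat.blt q 630 then [2,1,3,3,1,3,0,3,0,2,0,2,2,0,2,2,0,3,0,2,2,1,3,0,3,1,2,0,2,0,3,0,3,0,2,0] else [2,0,2,1,2,0,2,2,0,2,0,3,3,0,2,1,2,1,3,3,0,2,0,2])))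 else (bif Nat.blt q 634 then (bif Nat.blt q 632 then [3,1,3,1,2,2,0,3,0,3,1,2,2,1,3,1,3,3,1,3,0,3,1,3] else (bif Nat.blt q 633 then [1,3,1,3,0,3,0,3] else [2,1,2,1,2,0,2,0])) else (bif Nat.blt q 635 then [1,2,1,3,3,1,3,1,3,3,1,2,0,3,3,1,3,1,2,0,2,2,0] else (bif Nat.blt q 636 then [1,3,3,1,3,0,2,0,2,2,1,3,0,2,2,0,2,0,2,2,0,3,0] else [1,3,3,0])))

/-- Part of the tree. -/
noncomputable def awT_t107 (q : ℕ) : List ℕ :=
  bif Nat.blt q 625 then (awT_t105 q) else (awT_t106 q)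

/-- Part of the tree. -/
noncomputable def awT_t108 (q : ℕ) : List ℕ :=
  bif Nat.blt q 614 then (awT_t104 q) else (awT_t107 q)

/-- Part of the tree. -/
noncomputable def awT_t109 (q : ℕ) : List ℕ :=
  bif Nat.blt q 591 then (awT_t101 q) else (awT_t108 q)

/-- Part of the tree. -/
noncomputable def awT_t110 (q : ℕ) : List ℕ :=
  bif Nat.blt q 642 then (bif Nat.blt q 639 then (bif Nat.blt q 638 then [1,2,2,0] else [1,3,1,2,1,2,1,3,1,3,0,2,1,2,0,3,1,2,1,3,3,1,3,1,3,3,1,2,2,1,2,0,2,0,3,3,3,1,3,0,3]) else (bif Nat.blt q 640 then [2,1,2,0,2,2,2,1,3,1,3,0,3,3,0,2,2,0,2,0,2,2,0,3,0,2,1,3,0,3,1,2,0,2,0,3,0,3,0,2,0] else (bif Nat.blt q 641 then [2,1,2,0,3,3,1,2,2,0,2,1,3,3,0,2,2,1,3,3,1,2,2,2,0,3,0,3] else [2,1,2,1,3,3,3,0,2,2,0,3,3,1,2,2,0,3,1,3,3,0,2,2,1,3,0,3]))) else (bif Nat.blt q 645 then (bif Nat.blt q 643 then [1,3,1,2,1,2,1,3,1,3,0,2,1,2,2,1,3,3,3,0,3,0,3,3,1,3,3,0,3]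 else (bif Nat.blt q 644 then [2,1,2,2,0,2,2,1,2,1,2,2,2,0,3,3,0,3,1,2,0,2,0,3,0,3,0,2,0] else [1,3,1,2,1,2,1,3,1,3,0,2,1,2,0,3,1,2,1,3,3,0,3,3,3,1,2,2,0,3,0,3,1,3,1,2,0,2,0])) else (bif Nat.blt q 646 then [1,3,1,3,0,2,0,2,1,2,1,3,3,0,2,2,2,1,2,2,0,3,0,2,1,3,0,3,1,2,0,2,0,3,0,3,0,2,0] else (bif Nat.blt q 647 then [2,0,2,1,2,2,1,2,1,3,0,3,0,2,1,2,0,3,3,3,1,3,3,1,3,0,3,3,0,3,3] else [2,2,1,2,2,1,2,0,2,2,0,2,2,2,1,3,0,3,1,2,1,2,0,3,0,3,3,0,3,1,3])))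

/-- Part of the tree. -/
noncomputable def awT_t111 (q : ℕ) : List ℕ :=
  bif Nat.blt q 654 then (bif Nat.blt q 651 then (bif Nat.blt q 649 then [2,2,1,2,2,1,3,0,3,3,0,3,1,2,2,0,2,1,2,0,2,2,1,2,2,1,2,2,0,2,0] else (bif Nat.blt q 650 then [1,3,1,3,3,0,3,3,0,3,3,1,3,0,3,1,3,3,0,2,1,2,2,1,2,0,3,3,0,3,3] else [1,3,1,2,1,2,1,3,1,3,0,2,1,2,0,3])) else (bif Nat.blt q 652 then [2,1,3,0,3,1,2,0,2,0,3,0,3,0,2,0] else (bif Nat.blt q 653 then [2,1,3,0,2,2,1,3,3,3,0,3,3,1,2,0,3,3,1,2,2,2,0,2] else [3,1,3,3,3,0,2,2,1,3,0,2,2,1,2,2,2,0,3,3,1,2,0,3]))) else (bif Nat.blt q 657 then (bif Nat.blt q 655 then [1,2,1,3,3,1,3,1,3,3,1,2,2,1,3,3,0,2,0,3,1,2,0,3] else (bif Nat.blt q 656 then [2,1,3,0,2,1,3,1,2,2,0,3,3,0,2,2,0,2,0,2,2,0,3,0] else [2,1,3,0,2,2,1,3,3,3,0,3,3,1,2,0,3,3,1,2,2,2,0,2])) else (bif Nat.blt q 658 then [3,1,3,3,3,0,2,2,1,3,0,2,2,1,2,2,2,0,3,3,1,2,0,3]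 else (bif Nat.blt q 659 then [1,3,0,3,3,1,3,0,2,0,2,1,3,0,3,1,3,1,2,1,3,3,1,2,1,3] else [2,0,3,0,2,2,0,3,0,2,0,2,1,2,0,3,1,3,1,2,0,2,2,1,2,0])))

/-- Part of the tree. -/
noncomputable def awT_t112 (q : ℕ) : List ℕ :=
  bif Nat.blt q 648 then (awT_t110 q) else (awT_t111 q)

/-- Part of the tree. -/
noncomputable def awT_t113 (q : ℕ) : List ℕ :=
  bif Nat.blt q 665 then (bif Nat.blt q 662 then (bif Nat.blt q 661 then [1,3,0,3,3,1,3,0,2,0,2,1,3,0,3,1] else [0,2,1,2,0,3,1,3,1,2,0,2,2,1,2,0]) else (bif Nat.blt q 663 then [1,2,1,3,3,0,3,3,3,1,2,2,0,3,0] else (bif Nat.blt q 664 then [1,2,1,3,3,0,2,2,2,1,2,2,0,3,0] else [1,3,1,2,1,2,1,3,1,3,0,2,1,2,0,2,1,2,2,1,2,2,0,2,0,2,2,2,1,3,0,3,1,3,3,1,3,0,3,0]))) else (bif Nat.blt q 668 then (bif Nat.blt q 666 then [1,2,1,2,0,2,2,0,2,1,2,0,3,3,3,1,3,1,3,3,0,3,3,0,3,1,3,0,3,1,2,0,2,0,3,0,3,0,2,0]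 else (bif Nat.blt q 667 then [1,2,1,3,3,1,3,1,3,3,1,2,0,3,3,3,1,3,3,1,2,2,0,2,2,0,2,2] else [3,3,1,3,3,1,3,3,0,2,2,0,2,2,2,1,3,0,2,2,0,2,0,2,2,0,3,0])) else (bif Nat.blt q 669 then [1,3,1,2,1,2,1,3,1,3,0,2,1,2,0,3,0,3,0,3,0,3,3,1,3,1,2,2,1,3,3,1,2,1,3,3,3,0,3,0] else (bif Nat.blt q 670 then [1,2,1,2,2,2,0,3,0,2,2,0,3,3,0,2,0,2,2,1,2,1,2,1,2,1,3,0,3,1,2,0,2,0,3,0,3,0,2,0] else [1,3,1,2,1,2,1,3,1,3,0,2,1,2,0,0,2,1,2,0,2,2,0,2,0,3,3,0,0,3,3,0,3,0,2,1,2,2,0,2,0])))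

/-- Part of the tree. -/
noncomputable def awT_t114 (q : ℕ) : List ℕ :=
  bif Nat.blt q 677 then (bif Nat.blt q 674 then (bif Nat.blt q 672 then [1,3,1,3,3,0,3,1,2,1,2,2,1,1,2,2,1,3,1,3,3,1,3,0,3,1,1,3,0,3,1,2,0,2,0,3,0,3,0,2,0] else (bif Nat.blt q 673 then [1,2,0,2,1,3,0,3,0,2,1,2,1,2,1,2,2,0,2,0,3,1,3,0] else [1,2,0,2,1,3,1,3,3,0,3,0,3,0,3,1,2,1,2,0,3,1,3,0])) else (bif Nat.blt q 675 then [1,2,1,2,2,0,2,2,2,1,3,0,3,0,2,1,3,3,0,3] else (bif Nat.blt q 676 then [2,1,2,2,0,3,1,2,1,2,0,3,3,3,1,3,3,0,3,0] else [2,1,2,1,3,3,0,2,0,3,1,2,2,2,0,2]))) else (bif Nat.blt q 680 then (bif Nat.blt q 678 then [3,1,3,3,3,0,2,1,3,1,2,2,0,3,0,3] else (bif Nat.blt q 679 then [1,2,0,2,1,3,0,3,0,2,1,2,1,3,0,3] else [2,1,2,0,3,0,3,1,2,1,2,0,3,1,3,0])) else (bif Nat.blt q 681 then [1,3,1,2,2,0,3,3,3,3,1,2,0,3,3,0,2,2] else (bif Nat.blt q 682 then [3,3,1,2,2,1,3,0,2,2,2,2,1,3,3,0,2,0]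 else [0,3,0,3,0,3,3,1,3,1,2,2,1,3,1,3,3,3,1,2,0,3,3,0,2,2])))

/-- Part of the tree. -/
noncomputable def awT_t115 (q : ℕ) : List ℕ :=
  bif Nat.blt q 671 then (awT_t113 q) else (awT_t114 q)

/-- Part of the tree. -/
noncomputable def awT_t116 (q : ℕ) : List ℕ :=
  bif Nat.blt q 660 then (awT_t112 q) else (awT_t115 q)

/-- Part of the tree. -/
noncomputable def awT_t117 (q : ℕ) : List ℕ :=
  bif Nat.blt q 688 then (bif Nat.blt q 685 then (bif Nat.blt q 684 then [3,3,1,2,2,1,3,0,2,2,2,0,2,0,3,3,0,2,0,2,2,1,2,1,2,1] else [2,2,1,2,0,3,3,3,0,3,0,3,3,0,3,3,0,3,1,3,3,3,0,3]) else (bif Nat.blt q 686 then [2,1,2,2,2,0,2,1,2,2,1,2,2,1,2,1,2,2,2,1,3,0,3,3] else (bif Nat.blt q 687 then [3,0,3,1,2,0,2,2,1,2,1,2,0,2] else [3,1,3,0,3,0,3,3,1,3,0,2,1,2]))) else (bif Nat.blt q 691 then (bif Nat.blt q 689 then [1,3,1,2,1,2,1,3,1,3,0,2,1,2,0,3,3,1,2,1,3,3,1,3,3,1,3,1,2,1,2,0,2,2,0,3]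 else (bif Nat.blt q 690 then [2,1,3,3,1,3,0,3,0,2,0,2,2,0,2,2,0,3,0,2,2,1,3,0,3,1,2,0,2,0,3,0,3,0,2,0] else [1,3,1,2,2,0,3,3,3,1,3,3,0,2,0])) else (bif Nat.blt q 692 then [1,3,1,2,2,0,2,2,2,1,3,3,0,2,0] else (bif Nat.blt q 693 then [1,2,0,2,1,3,0,3,0,2,1,2,2,1,2,0] else [1,3,0,3,3,0,3,1,2,1,2,0,3,1,3,0])))

/-- Part of the tree. -/
noncomputable def awT_t118 (q : ℕ) : List ℕ :=
  bif Nat.blt q 700 then (bif Nat.blt q 697 then (bif Nat.blt q 695 then [2,1,3,0,2,2,1,3,3,3,0,3,3,1,2,0,3,3,3,1,3,3,1,2,2,0,2,2,0,2,2] else (bif Nat.blt q 696 then [3,3,1,3,3,1,3,3,0,2,2,0,2,2,2,1,3,0,2,2,1,2,2,2,0,3,3,1,2,0,3] else [2,0,2,1,2,0,2,2,0,2,0,3,1,3,3,1,2,1,3])) else (bif Nat.blt q 698 then [2,0,3,0,2,2,0,2,1,3,1,3,3,1,3,0,3,1,3] else (bif Nat.blt q 699 then [1,3,1,3,3,3,0,2,0,2,1,3,3,1,3,0,3,0] else [1,2,1,2,0,2,2,0,3,1,3,1,2,2,2,0,2,0]))) else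 (bif Nat.blt q 703 then (bif Nat.blt q 701 then [2,1,2,1,3,3,0,2,0,2,1,2,2,1,2,2,1,3,1,2] else (bif Nat.blt q 702 then [3,0,2,0,3,3,0,3,3,0,3,1,3,1,2,2,0,3,0,3] else [2,1,2,2,0,3,1,2,1,2,0,3,3,3,1,3,3,0,3,0])) else (bif Nat.blt q 704 then [1,2,1,2,2,0,2,2,2,1,3,0,3,0,2,1,3,3,0,3] else (bif Nat.blt q 705 then [1,3,1,2,1,2,1,3,1,3,0,2,1,2,0,0,2,1,2,0,2,2,0,2,0,3,3,0,2] else [3,1,2,2,1,3,1,3,3,1,3,0,3,1,1,3,0,3,1,2,0,2,0,3,0,3,0,2,0])))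

/-- Part of the tree. -/
noncomputable def awT_t119 (q : ℕ) : List ℕ :=
  bif Nat.blt q 694 then (awT_t117 q) else (awT_t118 q)

/-- Part of the tree. -/
noncomputable def awT_t120 (q : ℕ) : List ℕ :=
  bif Nat.blt q 711 then (bif Nat.blt q 708 then (bif Nat.blt q 707 then [2,1,2,1,3,3,0,2,0,2,1,2,2,0,2] else [3,1,3,3,0,3,1,3,1,2,2,0,3,0,3]) else (bif Nat.blt q 709 then [2,1,2,1,3,3,3,0,3,0,3,3,1,2,1,3,3,1,2,1,3] else (bif Nat.blt q 710 then [2,0,3,0,2,2,0,3,0,2,2,1,2,1,2,2,2,0,3,0,3] else [1,2,0,2,1,3,0,3,0,2,1,2,1,3,0,0,3,3,0,3,3,3,1,2,2,1,3]))) else (bif Nat.blt q 714 then (bif Nat.blt q 712 then [2,0,3,3,0,2,2,2,1,2,2,1,1,2,0,3,0,3,1,2,1,2,0,3,1,3,0] else (bif Nat.blt q 713 then [1,2,0,2,1,3,0,3,0,2,1,2,1,3,0,0,3,3,0,3,3,3,1,2,2,1,3] else [2,0,3,3,0,2,2,2,1,2,2,1,1,2,0,3,0,3,1,2,1,2,0,3,1,3,0])) else (bif Nat.blt q 715 then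 [1,3,1,3,3,3,0,2,2,1,3,3,3,0,3,0] else (bif Nat.blt q 716 then [1,2,1,2,2,2,0,3,3,1,2,2,2,0,2,0] else [1,2,0,2,1,3,0,3,0,2,1,2,1,3,0,3])))

/-- Part of the tree. -/
noncomputable def awT_t121 (q : ℕ) : List ℕ :=
  bif Nat.blt q 723 then (bif Nat.blt q 720 then (bif Nat.blt q 718 then [2,1,2,0,3,0,3,1,2,1,2,0,3,1,3,0] else (bif Nat.blt q 719 then [1,3,0,3,3,1,3,0,2,0,2,1,3,0,3,1] else [0,2,1,2,0,3,1,3,1,2,0,2,2,1,2,0])) else (bif Nat.blt q 721 then [2,2,0,3,3,0,4,2,1,2,2,1,2,4,1,2,0,3,1,2,0,3] else (bif Nat.blt q 722 then [2,1,3,0,2,1,3,0,5,3,0,3,3,0,3,5,1,2,2,1,3,3] else [2,1,3,0,2,2,1,3,3,3,0,3,3,1,2,0,3,3,1,2,2,2,0,2]))) else (bif Nat.blt q 726 then (bif Nat.blt q 724 then [3,1,3,3,3,0,2,2,1,3,0,2,2,1,2,2,2,0,3,3,1,2,0,3] else (bif Nat.blt q 725 then [2,1,3,0,2,2,1,3,3,3,0,3,3,1,2,0,3,3,1,2,2,2,0,2] else [3,1,3,3,3,0,2,2,1,3,0,2,2,1,2,2,2,0,3,3,1,2,0,3]))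 else (bif Nat.blt q 727 then [1,3,1,3,3,3,0,2,0,2,1,3,3,3,1,2,0,3,3,0,2,2] else (bif Nat.blt q 728 then [3,3,1,2,2,1,3,0,2,2,2,0,3,1,3,1,2,2,2,0,2,0] else [1,3,1,2,1,2,1,3,1,3,0,2,1,2,0,0,2,1,2,0,2,2,0,2,0,3,3,0,2])))

/-- Part of the tree. -/
noncomputable def awT_t122 (q : ℕ) : List ℕ :=
  bif Nat.blt q 717 then (awT_t120 q) else (awT_t121 q)

/-- Part of the tree. -/
noncomputable def awT_t123 (q : ℕ) : List ℕ :=
  bif Nat.blt q 706 then (awT_t119 q) else (awT_t122 q)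

/-- Part of the tree. -/
noncomputable def awT_t124 (q : ℕ) : List ℕ :=
  bif Nat.blt q 683 then (awT_t116 q) else (awT_t123 q)

/-- Part of the tree. -/
noncomputable def awT_t125 (q : ℕ) : List ℕ :=
  bif Nat.blt q 637 then (awT_t109 q) else (awT_t124 q)

/-- Part of the tree. -/
noncomputable def awT_t126 (q : ℕ) : List ℕ :=
  bif Nat.blt q 546 then (awT_t94 q) else (awT_t125 q)

/-- Part of the tree. -/
noncomputable def awT_t127 (q : ℕ) : List ℕ :=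
  bif Nat.blt q 364 then (awT_t63 q) else (awT_t126 q)

/-- Part of the tree. -/
noncomputable def awT_t128 (q : ℕ) : List ℕ :=
  bif Nat.blt q 734 then (bif Nat.blt q 731 then (bif Nat.blt q 730 then [3,1,2,2,1,3,1,3,3,1,3,0,3,1,1,3,0,3,1,2,0,2,0,3,0,3,0,2,0] else [1,3,1,3,0,3,0,3]) else (bif Nat.blt q 732 then [2,1,2,1,2,0,2,0] else (bif Nat.blt q 733 then [2,0,2,1,2,0,2,2,0,2,0,3,1,3,3,1,2,1,3] else [2,0,3,0,2,2,0,2,1,3,1,3,3,1,3,0,3,1,3]))) else (bif Nat.blt q 737 then (bif Nat.blt q 735 then [1,3,1,2,1,2,1,3,1,3,0,2,1,2,0,0,2,1,2,0,2,2,0,2,0,3,3,0,2,2,1,3,0,2] else (bif Nat.blt q 736 then [3,1,2,0,3,3,1,2,2,1,3,1,3,3,1,3,0,3,1,1,3,0,3,1,2,0,2,0,3,0,3,0,2,0] else [3,0,3,3,0,3,0,2,1,2,2,0,2,0])) else (bif Nat.blt q 738 then [1,3,1,3,3,0,3,1,2,1,2,2,1,2] else (bif Nat.blt q 739 then [0,2,2,0,2,0,2,2,0,2,2,0,2,0,2,0,2,2,0,3,1,3,1,3,3,0,2,0]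 else [1,3,1,2,2,0,2,0,2,1,3,3,1,3,1,3,1,3,3,1,3,3,1,3,1,3,3,1])))

/-- Part of the tree. -/
noncomputable def awT_t129 (q : ℕ) : List ℕ :=
  bif Nat.blt q 745 then (bif Nat.blt q 742 then (bif Nat.blt q 741 then [1,2,0,2,1,3,0,3,0,2,1,2,1,3,0,3] else [2,1,2,0,3,0,3,1,2,1,2,0,3,1,3,0]) else (bif Nat.blt q 743 then [1,3,1,2,1,2,1,3,1,3,0,2,1,2,0,3,3,1,2,1,3,3,1,3,3,1,3,1,2,1,2,0,2,2,0,3] else (bif Nat.blt q 744 then [2,1,3,3,1,3,0,3,0,2,0,2,2,0,2,2,0,3,0,2,2,1,3,0,3,1,2,0,2,0,3,0,3,0,2,0] else [1,3,1,3,0,3,0,3,3,3,0,2,1,2,1,3,3,3,1,2,0,3,0]))) else (bif Nat.blt q 748 then (bif Nat.blt q 746 then [1,2,1,3,0,2,2,2,0,3,0,3,1,2,2,2,1,2,1,2,0,2,0] else (bif Nat.blt q 747 then [1,3,1,2,1,2,1,3,1,3,0,2,1,2,0,0,2,1,2,0,2,2,0,2,0,3,3,0,2,2,1,3,0,2] else [3,1,2,0,3,3,1,2,2,1,3,1,3,3,1,3,0,3,1,1,3,0,3,1,2,0,2,0,3,0,3,0,2,0])) else (bif Nat.blt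 q 749 then [1,3,1,2,1,2,1,3,1,3,0,2,1,2,0,3,1,3,1,2,2,0,3,0,3,3,1,3,1,3,3,3,1,3,1,3] else (bif Nat.blt q 750 then [2,0,2,0,2,2,2,0,2,0,2,2,1,2,1,3,3,0,2,0,2,1,3,0,3,1,2,0,2,0,3,0,3,0,2,0] else [1,2,1,3,3,1,3,1,3,3,1,2,0,3,3,1,3,1,2,2,0,3,0])))

/-- Part of the tree. -/
noncomputable def awT_t130 (q : ℕ) : List ℕ :=
  bif Nat.blt q 740 then (awT_t128 q) else (awT_t129 q)

/-- Part of the tree. -/
noncomputable def awT_t131 (q : ℕ) : List ℕ :=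
  bif Nat.blt q 756 then (bif Nat.blt q 753 then (bif Nat.blt q 752 then [1,2,1,3,3,0,2,0,2,2,1,3,0,2,2,0,2,0,2,2,0,3,0] else [1,2,1,2,2,0,2,2,2,1,3,0,3,0,2,1,3,3,0,3]) else (bif Nat.blt q 754 then [2,1,2,2,0,3,1,2,1,2,0,3,3,3,1,3,3,0,3,0] else (bif Nat.blt q 755 then [1,2,0,2,1,3,0,3,0,2,1,2,1,3,0,3] else [2,1,2,0,3,0,3,1,2,1,2,0,3,1,3,0]))) else (bif Nat.blt q 759 then (bif Nat.blt q 757 then [1,3,1,2,1,2,1,3,1,3,0,2,1,2,0,0,2,1,2,0,2,2,0,2,0,3,3,0,2,2,1,3,0,2] else (bif Nat.blt q 758 then [3,1,2,0,3,3,1,2,2,1,3,1,3,3,1,3,0,3,1,1,3,0,3,1,2,0,2,0,3,0,3,0,2,0] else [1,3,1,3,0,3,0,3,3,3,0,2,1,2,1,3,3,3,1,2,0,3,0])) else (bif Nat.blt q 760 then [1,2,1,3,0,2,2,2,0,3,0,3,1,2,2,2,1,2,1,2,0,2,0] else (bif Nat.blt q 761 then [1,3,1,2,1,2,1,3,1,3,0,2,1,2,0,2,1,2,2,1,3,0,3,3,0,3,1,2,2,0,2,2,1,3,3,1,3,3,0,2,0] else [1,3,1,2,2,0,2,2,0,3,3,1,3,3,0,2,1,2,2,1,2,0,3,3,0,3,1,3,0,3,1,2,0,2,0,3,0,3,0,2,0])))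

/-- Part of the tree. -/
noncomputable def awT_t132 (q : ℕ) : List ℕ :=
  bif Nat.blt q 768 then (bif Nat.blt q 765 then (bif Nat.blt q 763 then [1,3,0,3,1,2,1,3,3,0,3,3,3,1,2,2,0,2,0,3,3,1,2,0,3] else (bif Nat.blt q 764 then [2,1,3,0,2,2,1,3,1,3,3,0,2,2,2,1,2,2,0,3,0,2,1,2,0] else [1,3,1,3,0,3,0,3])) else (bif Nat.blt q 766 then [2,1,2,1,2,0,2,0] else (bif Nat.blt q 767 then [1,3,1,2,1,2,1,3,1,3,0,2,1,2,0,0,2,1,2,0,2,2,0,2,0,3,3,0,2] else [3,1,2,2,1,3,1,3,3,1,3,0,3,1,1,3,0,3,1,2,0,2,0,3,0,3,0,2,0]))) else (bif Nat.blt q 771 then (bif Nat.blt q 769 then [1,2,0,2,1,3,0,3,0,2,1,2,2,1,2,0,4,2,4,3,4,3,4,2,4,0,2,4,3,3,1,2,2,1,2,1,2,1] else (bif Nat.blt q 770 then [0,3,0,3,0,3,3,0,2,2,5,3,1,5,3,5,2,5,2,5,3,5,1,3,0,3,3,0,3,1,2,1,2,0,3,1,3,0] else [1,3,1,3,0,3,0,3,1,2,1,3,3,0,2,0,3,3,1,2,0,3,3])) else (bif Nat.blt q 772 then [2,2,1,3,0,2,2,1,3,1,2,2,0,3,0,2,1,2,1,2,0,2,0]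 else (bif Nat.blt q 773 then [0,2,2,0,2,0,2,2,0,2,2,0,2,0,2,0,2,2,0] else [1,3,3,1,3,1,3,1,3,3,1,3,3,1,3,1,3,3,1])))

/-- Part of the tree. -/
noncomputable def awT_t133 (q : ℕ) : List ℕ :=
  bif Nat.blt q 762 then (awT_t131 q) else (awT_t132 q)

/-- Part of the tree. -/
noncomputable def awT_t134 (q : ℕ) : List ℕ :=
  bif Nat.blt q 751 then (awT_t130 q) else (awT_t133 q)

/-- Part of the tree. -/
noncomputable def awT_t135 (q : ℕ) : List ℕ :=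
  bif Nat.blt q 779 then (bif Nat.blt q 776 then (bif Nat.blt q 775 then [1,2,0,2,1,3,0,3,0,2,1,2,1,3,0,3] else [2,1,2,0,3,0,3,1,2,1,2,0,3,1,3,0]) else (bif Nat.blt q 777 then [1,3,1,2,1,2,1,3,1,3,0,2,1,2,0,3] else (bif Nat.blt q 778 then [2,1,3,0,3,1,2,0,2,0,3,0,3,0,2,0] else [2,1,2,1,3,3,3,0,3,0,3,3,0,3,3,0,3,0,2,1,2,2,0,2,0,3,3,3,1,3,0,2,2]))) else (bif Nat.blt q 782 then (bif Nat.blt q 780 then [3,3,1,2,0,2,2,2,1,3,1,3,3,0,3,1,2,1,2,2,1,2,2,1,2,1,2,2,2,0,3,0,3] else (bif Nat.blt q 781 then [1,3,1,2,1,2,1,3,1,3,0,2,1,2,0,0,2,1,2,2,1,2,1,3,0,3,0,2,1,2,2,2,0,3,3,1,3,0,2,2] else [3,3,1,2,0,2,2,1,3,3,3,0,3,1,2,1,2,0,3,0,3,3,0,3,1,1,3,0,3,1,2,0,2,0,3,0,3,0,2,0])) else (bif Nat.blt q 783 then [1,3,1,2,1,2,1,3,1,3,0,2,1,2,0,3,1,3,0,3,1,2,1,3,3,0,3,3,3,1,2,2,0,2,0,3] else (bif Nat.blt q 784 then [2,1,3,1,3,3,0,2,2,2,1,2,2,0,3,0,2,1,2,0,2,1,3,0,3,1,2,0,2,0,3,0,3,0,2,0]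 else [1,3,1,2,1,2,1,3,1,3,0,2,2,2,1,3,3,3,0,3,3,1,2,0,3,3,3,1,3,3,1,2,2,0,2,0,3])))

/-- Part of the tree. -/
noncomputable def awT_t136 (q : ℕ) : List ℕ :=
  bif Nat.blt q 791 then (bif Nat.blt q 788 then (bif Nat.blt q 786 then [2,1,3,1,3,3,0,2,2,0,2,2,2,1,3,0,2,2,1,2,2,2,0,3,3,3,1,2,0,2,0,3,0,3,0,2,0] else (bif Nat.blt q 787 then [2,1,3,0,2,2,1,3,3,3,0,3,3,1,2,0,3,1,2,1,3,3,0,2,0,2] else [3,1,3,1,2,2,0,3,0,2,1,3,0,2,2,1,2,2,2,0,3,3,1,2,0,3])) else (bif Nat.blt q 789 then [1,3,1,2,1,2,1,3,1,3,0,2,1,2,0,3,1,3,0,3,1,2,1,3,3,0,3,3,3,1,2,2,0,2,0,3] else (bif Nat.blt q 790 then [2,1,3,1,3,3,0,2,2,2,1,2,2,0,3,0,2,1,2,0,2,1,3,0,3,1,2,0,2,0,3,0,3,0,2,0] else [1,3,1,2,1,2,1,3,1,3,0,2,1,2,0,0,2,1,2,2,1,2,1,3,0,3,0,2,1,2,0,3]))) else (bif Nat.blt q 794 then (bif Nat.blt q 792 then [2,1,3,0,3,1,2,1,2,0,3,0,3,3,0,3,1,1,3,0,3,1,2,0,2,0,3,0,3,0,2,0]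 else (bif Nat.blt q 793 then [1,3,1,2,1,2,1,3,1,3,0,2,1,2,0,3] else [2,1,3,0,3,1,2,0,2,0,3,0,3,0,2,0])) else (bif Nat.blt q 795 then [1,3,1,2,1,2,1,3,1,3,0,2,1,2,0,2,1,2,2,1,3,0,3,3,0,3,1,2,2,0,3,1,2,1,2,0,3,1,2,2,0,2,0,3,3,1,3,0,3] else (bif Nat.blt q 796 then [2,1,2,0,2,2,1,3,1,3,3,0,2,1,3,0,3,0,2,1,3,3,0,2,1,2,2,1,2,0,3,3,0,3,1,3,0,3,1,2,0,2,0,3,0,3,0,2,0] else [2,1,2,1,3,3,3,0,3,0,3,3,0,3,3,0,3,0,2,1,2,2,0,2,0,3,3,3,1,3,0,2,2])))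

/-- Part of the tree. -/
noncomputable def awT_t137 (q : ℕ) : List ℕ :=
  bif Nat.blt q 785 then (awT_t135 q) else (awT_t136 q)

/-- Part of the tree. -/
noncomputable def awT_t138 (q : ℕ) : List ℕ :=
  bif Nat.blt q 802 then (bif Nat.blt q 799 then (bif Nat.blt q 798 then [3,3,1,2,0,2,2,2,1,3,1,3,3,0,3,1,2,1,2,2,1,2,2,1,2,1,2,2,2,0,3,0,3] else [1,3,1,2,1,2,1,3,1,3,0,2,1,2,2,2,0,3,1,2,1,2,0,3,3,3,1,3,3,0,3,0,3,0,3,1,2,0,2,2,1,2,1,2,0,2]) else (bif Nat.blt q 800 then [3,1,3,0,3,0,3,3,1,3,0,2,1,2,1,2,1,2,2,0,2,2,2,1,3,0,3,0,2,1,3,3,3,0,3,1,2,0,2,0,3,0,3,0,2,0] else (bif Nat.blt q 801 then [1,3,1,2,1,2,1,3,1,3,0,2,1,2,2,2,0,3,1,2,1,2,0,3,3,3,1,3,3,0,3,0,3,0,3,1,2,0,2,2,1,2,1,2,0,2] else [3,1,3,0,3,0,3,3,1,3,0,2,1,2,1,2,1,2,2,0,2,2,2,1,3,0,3,0,2,1,3,3,3,0,3,1,2,0,2,0,3,0,3,0,2,0]))) else (bif Nat.blt q 805 then (bif Nat.blt q 803 then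 [2,1,3,0,2,2,1,3,3,3,0,3,3,1,2,0,3] else (bif Nat.blt q 804 then [2,1,3,0,2,2,1,2,2,2,0,3,3,1,2,0,3] else [2,0,2,1,2,2,1,2,1,3,0,3,0,2,1,2,0,3])) else (bif Nat.blt q 806 then [2,1,3,0,3,1,2,1,2,0,3,0,3,3,0,3,1,3] else (bif Nat.blt q 807 then [1,3,1,2,1,2,1,3,1,3,0,2,1,2,0,3] else [2,1,3,0,3,1,2,0,2,0,3,0,3,0,2,0])))

/-- Part of the tree. -/
noncomputable def awT_t139 (q : ℕ) : List ℕ :=
  bif Nat.blt q 814 then (bif Nat.blt q 811 then (bif Nat.blt q 809 then [2,0,2,1,2,2,1,2,1,3,0,3,0,2,1,3,3,0,3,3,1,3,1,2,2,0,3,0] else (bif Nat.blt q 810 then [1,2,1,3,3,0,2,0,2,2,1,2,2,0,3,1,2,1,2,0,3,0,3,3,0,3,1,3] else [2,0,2,1,2,0,2,2,0,2,0,3,3,0,0,3,1,3,3,3,0,3,3,1,3,1,3,0,3])) else (bif Nat.blt q 812 then [2,1,2,0,2,0,2,2,1,2,2,2,0,2,1,1,2,2,1,3,1,3,3,1,3,0,3,1,3] else (bif Nat.blt q 813 then [1,3,1,2,1,2,1,3,1,3,0,2,1,2,0,3,1,3,1,3,0,3,0,3,4,2,4,3,4,3,4,2,4,0,2,4,3,3,3,3,3,1,2,0,3]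 else [2,1,3,0,2,2,2,2,2,5,3,1,5,3,5,2,5,2,5,3,5,2,1,2,1,2,0,2,0,2,1,3,0,3,1,2,0,2,0,3,0,3,0,2,0]))) else (bif Nat.blt q 817 then (bif Nat.blt q 815 then [1,3,1,2,1,2,1,3,1,3,0,2,1,2,2,1,3,3,3,0,2,1,2,2,0,2,0,3,1,3,0,3,3,3,1,3,0,2,2] else (bif Nat.blt q 816 then [3,3,1,2,0,2,2,2,1,2,0,2,1,3,1,3,3,0,3,1,2,2,2,0,3,3,0,3,1,2,0,2,0,3,0,3,0,2,0] else [1,3,1,2,1,2,1,3,1,3,0,2,1,2,0,0,2,1,2,2,1,2,1,3,0,3,0,2,1,2,0,3])) else (bif Nat.blt q 818 then [2,1,3,0,3,1,2,1,2,0,3,0,3,3,0,3,1,1,3,0,3,1,2,0,2,0,3,0,3,0,2,0] else (bif Nat.blt q 819 then [1,3,1,2,2,0,3,0,3] else [2,1,2,1,3,3,0,2,0])))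

/-- Part of the tree. -/
noncomputable def awT_t140 (q : ℕ) : List ℕ :=
  bif Nat.blt q 808 then (awT_t138 q) else (awT_t139 q)

/-- Part of the tree. -/
noncomputable def awT_t141 (q : ℕ) : List ℕ :=
  bif Nat.blt q 797 then (awT_t137 q) else (awT_t140 q)

/-- Part of the tree. -/
noncomputable def awT_t142 (q : ℕ) : List ℕ :=
  bif Nat.blt q 774 then (awT_t134 q) else (awT_t141 q)

/-- Part of the tree. -/
noncomputable def awT_t143 (q : ℕ) : List ℕ :=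
  bif Nat.blt q 825 then (bif Nat.blt q 822 then (bif Nat.blt q 821 then [2,0,2,1,2,0,2,2,0,2,0,3,3,0,2] else [3,1,2,2,1,3,1,3,3,1,3,0,3,1,3]) else (bif Nat.blt q 823 then [1,3,0,3,3,1,3,0,2,0,2,1,3,0,3,1,3,1,3,1,3,3,3,1,3,1,3,3,4,2,4,3] else (bif Nat.blt q 824 then [2,5,3,5,2,2,0,2,0,2,2,2,0,2,0,2,0,2,1,2,0,3,1,3,1,2,0,2,2,1,2,0] else [1,3,1,2,2,0,3,0,3]))) else (bif Nat.blt q 828 then (bif Nat.blt q 826 then [2,1,2,1,3,3,0,2,0] else (bif Nat.blt q 827 then [2,0,2,1,2,0,2,2,0,2,0,3,3,0,2] else [3,1,2,2,1,3,1,3,3,1,3,0,3,1,3])) else (bif Nat.blt q 829 then [1,3,1,2,1,2,1,3,1,3,0,2,1,2,0,3] else (bif Nat.blt q 830 then [2,1,3,0,3,1,2,0,2,0,3,0,3,0,2,0] else [1,3,1,2,1,2,1,3,1,3,0,2,1,2,0,0,2,1,2,2,1,2,1,3,0,3,0,2,1,2,0,3,4,2,4,3,4,3,4,2,4,0,2,4,3,3,3,3,3,1,2,0,3,3,1,4,2,1,4])))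

/-- Part of the tree. -/
noncomputable def awT_t144 (q : ℕ) : List ℕ :=
  bif Nat.blt q 836 then (bif Nat.blt q 833 then (bif Nat.blt q 832 then [5,0,3,5,0,2,2,1,3,0,2,2,2,2,2,5,3,1,5,3,5,2,5,2,5,3,5,2,1,3,0,3,1,2,1,2,0,3,0,3,3,0,3,1,1,3,0,3,1,2,0,2,0,3,0,3,0,2,0] else [1,3,1,3,3,3,0,2,0,3,1,3,3,1,2,0,3,3,0,2,2,1,4,2,1,4]) else (bif Nat.blt q 834 then [5,0,3,5,0,3,3,1,2,2,1,3,0,2,2,0,2,1,3,1,2,2,2,0,2,0] else (bif Nat.blt q 835 then [1,3,1,2,1,2,1,3,1,3,0,2,1,2,0,0,2,1,2,0,2,2,0,2,0,3,3,3,1,2,1,2,2,1,3,1,2,0,3,3,1,3,0,3] else [2,1,2,0,2,2,1,3,0,2,0,3,3,0,3,0,2,2,2,1,3,1,3,3,1,3,0,3,1,1,3,0,3,1,2,0,2,0,3,0,3,0,2,0]))) else (bif Nat.blt q 839 then (bif Nat.blt q 837 then [2,1,2,1,3,3,3,0,3,0,3,4,2,4,3,4,3,4,2,4,0,2,4,3,3,3,3,1,3,0,3] else (bif Nat.blt q 838 then [2,1,2,0,2,2,2,2,5,3,1,5,3,5,2,5,2,5,3,5,2,1,2,1,2,2,2,0,3,0,3] else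 [1,3,1,2,1,2,1,3,1,3,0,2,1,2,0,3,1,3,1,3,0,3,3,3,3,0,3,3,1,3,1,2,2,0,3,0])) else (bif Nat.blt q 840 then [1,2,1,3,3,0,2,0,2,2,1,2,2,2,2,1,2,0,2,0,2,1,3,0,3,1,2,0,2,0,3,0,3,0,2,0] else (bif Nat.blt q 841 then [1,3,1,2,1,2,1,3,1,3,0,2,1,2,0,3,1,3,1,3,0,3,3,3,3,0,3] else [2,1,2,2,2,2,1,2,0,2,0,2,1,3,0,3,1,2,0,2,0,3,0,3,0,2,0])))

/-- Part of the tree. -/
noncomputable def awT_t145 (q : ℕ) : List ℕ :=
  bif Nat.blt q 831 then (awT_t143 q) else (awT_t144 q)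

/-- Part of the tree. -/
noncomputable def awT_t146 (q : ℕ) : List ℕ :=
  bif Nat.blt q 847 then (bif Nat.blt q 844 then (bif Nat.blt q 843 then [1,3,1,2,1,2,1,3,1,3,0,2,1,2,0,3] else [2,1,3,0,3,1,2,0,2,0,3,0,3,0,2,0]) else (bif Nat.blt q 845 then [2,2,1,2,0,3,3,3,0,3,0,3,3,0,3,3,0,3,3] else (bif Nat.blt q 846 then [2,2,1,2,2,1,2,2,1,2,1,2,2,2,1,3,0,3,3] else [2,1,2,1,3,3,3,0,3,0,3]))) else (bif Nat.blt q 850 then (bif Nat.blt q 848 then [2,1,2,1,2,2,2,0,3,0,3] else (bif Nat.blt q 849 then [1,3,1,2,1,2,1,3,1,3,0,2,1,2,0,3,1,3,1,2,2,0,3,0,3] else [2,1,2,1,3,3,0,2,0,2,1,3,0,3,1,2,0,2,0,3,0,3,0,2,0])) else (bif Nat.blt q 851 then [1,3,1,2,1,2,1,3,1,3,0,2,1,2,0,3] else (bif Nat.blt q 852 then [2,1,3,0,3,1,2,0,2,0,3,0,3,0,2,0] else [1,3,1,2,1,2,1,3,1,3,0,2,1,2,0,3,1,3,1,3,0,3,0,3,3,1,3,1,3,3,3,1,3,1,3])))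

/-- Part of the tree. -/
noncomputable def awT_t147 (q : ℕ) : List ℕ :=
  bif Nat.blt q 859 then (bif Nat.blt q 856 then (bif Nat.blt q 854 then [2,0,2,0,2,2,2,0,2,0,2,2,1,2,1,2,0,2,0,2,1,3,0,3,1,2,0,2,0,3,0,3,0,2,0] else (bif Nat.blt q 855 then [1,3,1,2,1,2,1,3,1,3,0,2,1,2,0,3,0,3,0,3,0,3,3,1,3,1,2,2,1,3,3,1,3,1,2,1,3,3,1,3,1,2,0,2] else [3,1,3,0,2,0,2,2,0,3,0,2,0,2,2,0,3,3,0,2,0,2,2,1,2,1,2,1,2,1,3,0,3,1,2,0,2,0,3,0,3,0,2,0])) else (bif Nat.blt q 857 then [1,3,0,3,1,2,1,3,3,0,3,3,3,1,2,2,0,2,0,3,3,1,2,2,2,0,2] else (bif Nat.blt q 858 then [3,1,3,3,3,0,2,2,1,3,1,3,3,0,2,2,2,1,2,2,0,3,0,2,1,2,0] else [3,3,1,2,2,0,3,3]))) else (bif Nat.blt q 862 then (bif Nat.blt q 860 then [2,2,1,3,3,0,2,2] else (bif Nat.blt q 861 then [1,3,1,2,1,2,1,3,1,3,0,2,1,2,0,3,3,1,2,1,3,3,1,3,3,1,3,1,2,1,2,0,2,2,0,3] else [2,1,3,3,1,3,0,3,0,2,0,2,2,0,2,2,0,3,0,2,2,1,3,0,3,1,2,0,2,0,3,0,3,0,2,0]))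 else (bif Nat.blt q 863 then [1,3,1,3,0,3,0,3,1,2,1,3,3,3,0,3,3,3,1,3,1,3,1] else (bif Nat.blt q 864 then [0,2,0,2,0,2,2,2,1,2,2,2,0,3,0,2,1,2,1,2,0,2,0] else [1,3,1,2,1,2,1,3,1,3,0,2,1,2,2,2,0,3,1,2,1,2,0,3,3,3,1,3,3,0,3,0,3,1,3,3,0,3,1,3,3,1,3,1,3,1])))

/-- Part of the tree. -/
noncomputable def awT_t148 (q : ℕ) : List ℕ :=
  bif Nat.blt q 853 then (awT_t146 q) else (awT_t147 q)

/-- Part of the tree. -/
noncomputable def awT_t149 (q : ℕ) : List ℕ :=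
  bif Nat.blt q 842 then (awT_t145 q) else (awT_t148 q)

/-- Part of the tree. -/
noncomputable def awT_t150 (q : ℕ) : List ℕ :=
  bif Nat.blt q 870 then (bif Nat.blt q 867 then (bif Nat.blt q 866 then [0,2,0,2,0,2,2,0,2,1,2,2,0,2,1,2,1,2,2,0,2,2,2,1,3,0,3,0,2,1,3,3,3,0,3,1,2,0,2,0,3,0,3,0,2,0] else [2,1,3,0,2,2,1,3,3,3,0,3,3,1,3,3,0,3]) else (bif Nat.blt q 868 then [2,1,2,2,0,2,2,1,2,2,2,0,3,3,1,2,0,3] else (bif Nat.blt q 869 then [1,3,1,2,1,2,1,3,1,3,0,2,1,2,0,3,1,3,1,2,2,0,3,3,3,3,1,2,0,3,3,0,3,1,2,0,3] else [2,1,3,0,2,1,2,2,1,3,0,2,2,2,2,1,3,3,0,2,0,2,1,3,0,3,1,2,0,2,0,3,0,3,0,2,0]))) else (bif Nat.blt q 873 then (bif Nat.blt q 871 then [1,3,1,2,1,2,1,3,1,3,0,2,1,2,2,1,3,3,3,0,3,0,3,3,0,3,1,2,0,2,2,1,2,1,2,0,2] else (bif Nat.blt q 872 then [3,1,3,0,3,0,3,3,1,3,0,2,1,2,2,1,2,1,2,2,2,0,3,3,0,3,1,2,0,2,0,3,0,3,0,2,0] else [1,3,1,2,1,2,1,3,1,3,0,2,1,2,0,0,2,1,2,2,1,2,1,3,0,3,0,2,1,2,2,2,0,3,3,1,3,0,2,2]))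 else (bif Nat.blt q 874 then [3,3,1,2,0,2,2,1,3,3,3,0,3,1,2,1,2,0,3,0,3,3,0,3,1,1,3,0,3,1,2,0,2,0,3,0,3,0,2,0] else (bif Nat.blt q 875 then [1,3,1,2,1,2,1,3,1,3,0,2,1,3,3,0,3,3,1,4,2,1,4] else [5,0,3,5,0,2,2,1,2,2,0,3,1,2,0,2,0,3,0,3,0,2,0])))

/-- Part of the tree. -/
noncomputable def awT_t151 (q : ℕ) : List ℕ :=
  bif Nat.blt q 882 then (bif Nat.blt q 879 then (bif Nat.blt q 877 then [1,3,1,2,1,2,1,3,1,3,0,2,1,2,0,3,1,3,1,2,2,0,3,3,3,3,1,2,0,3,3,0,3,1,2,0,3] else (bif Nat.blt q 878 then [2,1,3,0,2,1,2,2,1,3,0,2,2,2,2,1,3,3,0,2,0,2,1,3,0,3,1,2,0,2,0,3,0,3,0,2,0] else [1,3,1,2,1,2,1,3,1,3,0,2,1,2,2,1,3,3,3,0,3,0,3,3,0,3,1,2,0,2,2,1,2,1,2,0,2])) else (bif Nat.blt q 880 then [3,1,3,0,3,0,3,3,1,3,0,2,1,2,2,1,2,1,2,2,2,0,3,3,0,3,1,2,0,2,0,3,0,3,0,2,0] else (bif Nat.blt q 881 then [1,3,1,2,1,2,1,3,1,3,0,2,1,2,0,0,2,1,2,2,1,2,1,3,0,3,0,2,1,2,2,2,0,3,3,1,3,0,2,2]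 else [3,3,1,2,0,2,2,1,3,3,3,0,3,1,2,1,2,0,3,0,3,3,0,3,1,1,3,0,3,1,2,0,2,0,3,0,3,0,2,0]))) else (bif Nat.blt q 885 then (bif Nat.blt q 883 then [1,3,1,2,1,2,1,3,1,3,0,2,1,3,3,0,3,3,1,3,1,2,2,0,3,0] else (bif Nat.blt q 884 then [1,2,1,3,3,0,2,0,2,2,1,2,2,0,3,1,2,0,2,0,3,0,3,0,2,0] else [1,3,1,3,0,3,0,3])) else (bif Nat.blt q 886 then [2,1,2,1,2,0,2,0] else (bif Nat.blt q 887 then [1,3,1,2,1,2,1,3,1,3,0,2,1,2,0,3,1,2,0,2,1,3,0,3,0,2,1,2,2,1,2,0] else [1,3,0,3,3,0,3,1,2,1,2,0,3,1,3,0,2,1,3,0,3,1,2,0,2,0,3,0,3,0,2,0])))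

/-- Part of the tree. -/
noncomputable def awT_t152 (q : ℕ) : List ℕ :=
  bif Nat.blt q 876 then (awT_t150 q) else (awT_t151 q)

/-- Part of the tree. -/
noncomputable def awT_t153 (q : ℕ) : List ℕ :=
  bif Nat.blt q 893 then (bif Nat.blt q 890 then (bif Nat.blt q 889 then [1,3,1,2,1,2,1,3,1,3,0,2,1,2,0,3,0,2,2,0,2,0,2,2,0,2,2,0,2,0,2,0,2,2,0] else [1,3,3,1,3,1,3,1,3,3,1,3,3,1,3,1,3,3,1,2,1,3,0,3,1,2,0,2,0,3,0,3,0,2,0]) else (bif Nat.blt q 891 then [1,3,1,2,1,2,1,3,1,3,0,2,1,2,0,3,1,2,1,2,0,3,3,0,2,2,0,3,3,0,3,3,3,1,2,2,1,3] else (bif Nat.blt q 892 then [2,0,3,3,0,2,2,2,1,2,2,1,3,3,1,2,2,1,3,0,3,0,2,1,3,0,3,1,2,0,2,0,3,0,3,0,2,0] else [1,3,1,2,1,2,1,3,1,3,0,2,1,2,0,3,1,2,0,2,1,3,0,3,0,2,1,2,2,1,2,0]))) else (bif Nat.blt q 896 then (bif Nat.blt q 894 then [1,3,0,3,3,0,3,1,2,1,2,0,3,1,3,0,2,1,3,0,3,1,2,0,2,0,3,0,3,0,2,0] else (bif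 Nat.blt q 895 then [1,3,1,2,1,2,1,3,1,3,0,2,1,2,0,3,0,2,2,0,2,0,2,2,0,2,2,0,2,0,2,0,2,2,0] else [1,3,3,1,3,1,3,1,3,3,1,3,3,1,3,1,3,3,1,2,1,3,0,3,1,2,0,2,0,3,0,3,0,2,0])) else (bif Nat.blt q 897 then [1,3,1,2,1,2,1,3,1,3,0,2,1,2,0,2,1,2,0,3,3,3,0,3,0,3,3,0,3,3,0,3,3,1,2,2,1,2,1,2,1] else (bif Nat.blt q 898 then [0,3,0,3,0,3,3,0,2,2,1,2,2,1,2,2,1,2,1,2,2,2,1,3,0,3,1,3,0,3,1,2,0,2,0,3,0,3,0,2,0] else [1,3,1,2,1,2,1,3,1,3,0,2,1,2,2,1,3,3,0,2,0,3,0,3,3,0,3,0,2,1,2,2,0,2,2,2,1,2,1,2,1])))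

/-- Part of the tree. -/
noncomputable def awT_t154 (q : ℕ) : List ℕ :=
  bif Nat.blt q 905 then (bif Nat.blt q 902 then (bif Nat.blt q 900 then [0,3,0,3,0,3,3,3,1,3,3,0,3,1,2,1,2,2,1,2,1,3,1,2,2,0,3,3,0,3,1,2,0,2,0,3,0,3,0,2,0] else (bif Nat.blt q 901 then [2,1,2,1,3,3,0,2,0,2,0,3,3,0,3,3,3,1,2,2,1,3] else [2,0,3,3,0,2,2,2,1,2,2,1,3,1,3,1,2,2,0,3,0,3])) else (bif Nat.blt q 903 then [1,3,1,2,1,2,1,3,1,3,0,2,1,2,0,3] else (bif Nat.blt q 904 then [2,1,3,0,3,1,2,0,2,0,3,0,3,0,2,0] else [1,3,1,2,1,2,1,3,1,3,0,2,1,2,0,3,1,2,1,2,0,3,3,0,2]))) else (bif Nat.blt q 908 then (bif Nat.blt q 906 then [3,1,2,2,1,3,0,3,0,2,1,3,0,3,1,2,0,2,0,3,0,3,0,2,0] else (bif Nat.blt q 907 then [1,2,0,2,1,3,0,3,0,2,1,2,1,3,0,3] else [2,1,2,0,3,0,3,1,2,1,2,0,3,1,3,0])) else (bif Nat.blt q 909 then [1,3,1,2,1,2,1,3,1,3,0,2,1,2,0,3,1,3,1,3,0,3,0,2,0,2,2,1,3,3,1,3,3,0,3,3]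 else (bif Nat.blt q 910 then [2,2,1,2,2,0,2,2,0,3,3,1,3,1,2,1,2,0,2,0,2,1,3,0,3,1,2,0,2,0,3,0,3,0,2,0] else [1,3,1,2,1,2,1,3,1,3,0,2,1,2,0,3,1,3,0,3,3,3,1,2,2,0,2,1,3,3,0,2])))

/-- Part of the tree. -/
noncomputable def awT_t155 (q : ℕ) : List ℕ :=
  bif Nat.blt q 899 then (awT_t153 q) else (awT_t154 q)

/-- Part of the tree. -/
noncomputable def awT_t156 (q : ℕ) : List ℕ :=
  bif Nat.blt q 888 then (awT_t152 q) else (awT_t155 q)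

/-- Part of the tree. -/
noncomputable def awT_t157 (q : ℕ) : List ℕ :=
  bif Nat.blt q 865 then (awT_t149 q) else (awT_t156 q)

/-- Part of the tree. -/
noncomputable def awT_t158 (q : ℕ) : List ℕ :=
  bif Nat.blt q 820 then (awT_t142 q) else (awT_t157 q)

/-- Part of the tree. -/
noncomputable def awT_t159 (q : ℕ) : List ℕ :=
  bif Nat.blt q 916 then (bif Nat.blt q 913 then (bif Nat.blt q 912 then [3,1,2,2,0,3,1,3,3,0,2,2,2,1,2,0,2,1,3,0,3,1,2,0,2,0,3,0,3,0,2,0] else [1,3,1,2,1,2,1,3,1,3,0,2,1,2,0,3,1,3,0,3,3,3,1,2,2,0,2,1,3,3,0,2]) else (bif Nat.blt q 914 then [3,1,2,2,0,3,1,3,3,0,2,2,2,1,2,0,2,1,3,0,3,1,2,0,2,0,3,0,3,0,2,0] else (bif Nat.blt q 915 then [1,3,1,3,3,3,0,2,0] else [1,3,1,2,2,2,0,2,0]))) else (bif Nat.blt q 919 then (bif Nat.blt q 917 then [1,3,1,2,1,2,1,3,1,3,0,2,1,2,0,2,1,2,2,1,2,2,0,2,0,2,2,2,1,3,0,3,3] else (bif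 Nat.blt q 918 then [2,2,1,2,0,3,3,3,1,3,1,3,3,0,3,3,0,3,1,3,0,3,1,2,0,2,0,3,0,3,0,2,0] else [1,3,1,2,1,2,1,3,1,3,0,2,1,2,0,3])) else (bif Nat.blt q 920 then [2,1,3,0,3,1,2,0,2,0,3,0,3,0,2,0] else (bif Nat.blt q 921 then [1,3,1,2,1,2,1,3,1,3,0,2,2,2,1,3,3,3,0,3,3,1,2,0,3,3,3,1,3,3,1,2,2,0,2,0,3] else [2,1,3,1,3,3,0,2,2,0,2,2,2,1,3,0,2,2,1,2,2,2,0,3,3,3,1,2,0,2,0,3,0,3,0,2,0])))

/-- Part of the tree. -/
noncomputable def awT_t160 (q : ℕ) : List ℕ :=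
  bif Nat.blt q 927 then (bif Nat.blt q 924 then (bif Nat.blt q 923 then [2,1,3,3,3,0,3] else [2,1,2,2,2,0,3]) else (bif Nat.blt q 925 then [2,1,3,3,3,0,3] else (bif Nat.blt q 926 then [2,1,2,2,2,0,3] else [1,3,1,2,1,2,1,3,1,3,0,2,2,2,1,3,3,3,0,3,3,1,2,0,3]))) else (bif Nat.blt q 930 then (bif Nat.blt q 928 then [2,1,3,0,2,2,1,2,2,2,0,3,3,3,1,2,0,2,0,3,0,3,0,2,0] else (bif Nat.blt q 929 then [1,3,1,2,1,2,1,3,1,3,0,2,1,2,0,3] else [2,1,3,0,3,1,2,0,2,0,3,0,3,0,2,0])) else (bif Nat.blt q 931 then [1,3,0,3,3,1,3,0,2,0,2,1,3,0,3,1,2,0,3,3,0,3,3,3,1,2,2,1,3] else (bif Nat.blt q 932 then [2,0,3,3,0,2,2,2,1,2,2,1,3,0,2,1,2,0,3,1,3,1,2,0,2,2,1,2,0] else [1,3,1,2,1,2,1,3,1,3,0,2,1,2,0,3,1,3,1,3,0,3,0,3,4,2,2,4,2,2,4,2,2,4,2,2])))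

/-- Part of the tree. -/
noncomputable def awT_t161 (q : ℕ) : List ℕ :=
  bif Nat.blt q 922 then (awT_t159 q) else (awT_t160 q)

/-- Part of the tree. -/
noncomputable def awT_t162 (q : ℕ) : List ℕ :=
  bif Nat.blt q 938 then (bif Nat.blt q 935 then (bif Nat.blt q 934 then [3,3,5,3,3,5,3,3,5,3,3,5,2,1,2,1,2,0,2,0,2,1,3,0,3,1,2,0,2,0,3,0,3,0,2,0] else [2,1,3,0,2,2,1,3,3,3,0,3,3,1,3,1,3,0,3,0]) else (bif Nat.blt q 936 then [1,2,1,2,0,2,0,2,2,1,2,2,2,0,3,3,1,2,0,3] else (bif Nat.blt q 937 then [3,1,2,1,3,3,1,3,3,1,3,1,2,1,2,2,2,2,0,3,0,3] else [2,1,2,1,3,3,3,3,0,3,0,2,0,2,2,0,2,2,0,3,0,2]))) else (bif Nat.blt q 941 then (bif Nat.blt q 939 then [1,3,1,2,1,2,1,3,1,3,0,2,1,2,0,3,3,1,2,1,3,3,1,3,3,1,3,1,2,1,2,0,2,2,0,3] else (bif Nat.blt q 940 then [2,1,3,3,1,3,0,3,0,2,0,2,2,0,2,2,0,3,0,2,2,1,3,0,3,1,2,0,2,0,3,0,3,0,2,0] else [2,0,2,1,2,0,2,2,0,2,0,2,0,2]))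 else (bif Nat.blt q 942 then [3,1,3,1,3,1,3,3,1,3,0,3,1,3] else (bif Nat.blt q 943 then [1,3,1,2,1,2,1,3,1,3,0,2,1,2,0,3,0,3,0,3,0,3,3,1,3,1,2,2,1,3,3,3,0,3,1,3,3,3,0,3,3,1,2] else [3,0,2,2,1,2,2,2,0,2,1,2,2,2,0,3,3,0,2,0,2,2,1,2,1,2,1,2,1,3,0,3,1,2,0,2,0,3,0,3,0,2,0])))

/-- Part of the tree. -/
noncomputable def awT_t163 (q : ℕ) : List ℕ :=
  bif Nat.blt q 950 then (bif Nat.blt q 947 then (bif Nat.blt q 945 then [2,0,2,1,2,0,2,2,0,2,0,2,0,2] else (bif Nat.blt q 946 then [3,1,3,1,3,1,3,3,1,3,0,3,1,3] else [2,1,3,0,2,2,1,3,3,3,0,3,3,1,2,0,3,1,2,1,3,3,0,2,0,2])) else (bif Nat.blt q 948 then [3,1,3,1,2,2,0,3,0,2,1,3,0,2,2,1,2,2,2,0,3,3,1,2,0,3] else (bif Nat.blt q 949 then [1,2,1,2,0,3,3,0,2,2,1,3,0,2] else [3,1,2,0,3,3,1,2,2,1,3,0,3,0]))) else (bif Nat.blt q 953 then (bif Nat.blt q 951 then [1,3,1,2,1,2,1,3,1,3,0,2,1,2,0,3,3,1,2,1,3,3,1,3,3,1,3,1,2,1,2,0,2,2,0,3]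 else (bif Nat.blt q 952 then [2,1,3,3,1,3,0,3,0,2,0,2,2,0,2,2,0,3,0,2,2,1,3,0,3,1,2,0,2,0,3,0,3,0,2,0] else [1,3,1,2,1,2,1,3,1,3,0,2,1,2,0,3,3,3,1,3,3,0,2,2,1,3,3,0,3])) else (bif Nat.blt q 954 then [2,1,2,2,0,3,3,1,2,2,0,2,2,2,1,3,0,3,1,2,0,2,0,3,0,3,0,2,0] else (bif Nat.blt q 955 then [1,3,1,2,1,2,1,3,1,3,0,2,2,2,1,3,3,3,0,3,3,1,2,0,3,3,3,1,3,3,1,2,2,0,2,0,3] else [2,1,3,1,3,3,0,2,2,0,2,2,2,1,3,0,2,2,1,2,2,2,0,3,3,3,1,2,0,2,0,3,0,3,0,2,0])))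

/-- Part of the tree. -/
noncomputable def awT_t164 (q : ℕ) : List ℕ :=
  bif Nat.blt q 944 then (awT_t162 q) else (awT_t163 q)

/-- Part of the tree. -/
noncomputable def awT_t165 (q : ℕ) : List ℕ :=
  bif Nat.blt q 933 then (awT_t161 q) else (awT_t164 q)

/-- Part of the tree. -/
noncomputable def awT_t166 (q : ℕ) : List ℕ :=
  bif Nat.blt q 961 then (bif Nat.blt q 958 then (bif Nat.blt q 957 then [1,3,1,2,1,2,1,3,1,3,0,2,2,2,1,3,3,3,0,3,3,1,2,0,3,3,1,3,1,2,2,0,3,0] else [1,2,1,3,3,0,2,0,2,2,1,3,0,2,2,1,2,2,2,0,3,3,3,1,2,0,2,0,3,0,3,0,2,0]) else (bif Nat.blt q 959 then [1,3,1,2,1,2,1,3,1,3,0,2,1,2,0,3] else (bif Nat.blt q 960 then [2,1,3,0,3,1,2,0,2,0,3,0,3,0,2,0] else [1,3,1,3,0,3,0,3]))) else (bif Nat.blt q 964 then (bif Nat.blt q 962 then [2,1,2,1,2,0,2,0] else (bif Nat.blt q 963 then [2,2,1,2,2,1,3,0,3,3,0,3,1,2,2,0,2,1,2,0,2,2,1,2,2,1,2,2,0,2,0,3,3,1,3,0]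 else [1,2,0,2,2,1,3,1,3,3,0,3,3,0,3,3,1,3,0,3,1,3,3,0,2,1,2,2,1,2,0,3,3,0,3,3])) else (bif Nat.blt q 965 then [1,3,1,3,3,3,0,2,0,2,1,2,2,1,2,2,1,3,1,2,2,2,1,2,0,2] else (bif Nat.blt q 966 then [3,1,3,0,3,3,3,0,2,0,3,3,0,3,3,0,3,1,3,1,2,2,2,0,2,0] else [1,3,1,2,1,2,1,3,1,3,0,2,1,2,0,3,1,3,1,2,2,0,3,0,3,3,3,1,2,2,0,2,1,2,0,2,2,0,2,1,2])))

/-- Part of the tree. -/
noncomputable def awT_t167 (q : ℕ) : List ℕ :=
  bif Nat.blt q 973 then (bif Nat.blt q 970 then (bif Nat.blt q 968 then [3,0,3,1,3,3,1,3,0,3,1,3,3,0,2,2,2,1,2,1,3,3,0,2,0,2,1,3,0,3,1,2,0,2,0,3,0,3,0,2,0] else (bif Nat.blt q 969 then [2,2,1,2,2,1,3,0,3,3,0,3,1,2,2,0,3,1,3,3,0,2,2,1,3,3,0,3,3,1,2,2,0,2] else [3,1,3,3,0,2,2,1,2,2,0,3,3,1,2,2,0,2,1,3,3,0,2,1,2,2,1,2,0,3,3,0,3,3])) else (bif Nat.blt q 971 then [2,1,2,2,1,2,2,0,2,0,3,1,3,0] else (bif Nat.blt q 972 then [1,2,0,2,1,3,1,3,3,0,3,3,0,3]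 else [1,2,0,2,1,3,0,3,0,2,1,2,1,3,0,3]))) else (bif Nat.blt q 976 then (bif Nat.blt q 974 then [2,1,2,0,3,0,3,1,2,1,2,0,3,1,3,0] else (bif Nat.blt q 975 then [1,3,0,3,3,3,1,2,2,0,2,1,3,3,3,1,3,3,0,2,0] else [1,3,1,2,2,0,2,2,2,0,3,1,3,3,0,2,2,2,1,2,0])) else (bif Nat.blt q 977 then [2,1,2,1,3,3,0,2,0,4,2,4,3,4,3,4,2,4,0,2,4,3,3] else (bif Nat.blt q 978 then [2,2,5,3,1,5,3,5,2,5,2,5,3,5,1,3,1,2,2,0,3,0,3] else [2,1,2,2,0,3,1,2,1,2,0,3,3,3,1,3,3,0,3,0,3,0,3,1,2,0,2,2,1,2,1,2,0,2])))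

/-- Part of the tree. -/
noncomputable def awT_t168 (q : ℕ) : List ℕ :=
  bif Nat.blt q 967 then (awT_t166 q) else (awT_t167 q)

/-- Part of the tree. -/
noncomputable def awT_t169 (q : ℕ) : List ℕ :=
  bif Nat.blt q 984 then (bif Nat.blt q 981 then (bif Nat.blt q 980 then [3,1,3,0,3,0,3,3,1,3,0,2,1,2,1,2,1,2,2,0,2,2,2,1,3,0,3,0,2,1,3,3,0,3] else [1,3,1,2,1,2,1,3,1,3,0,2,1,2,0,3,1,2,1,2,0,3,3,3,1,2,2,0,3,0,3,3,3,1,2,0,3]) else (bif Nat.blt q 982 then [2,1,3,0,2,2,2,1,2,1,3,3,0,2,2,2,1,3,0,3,0,2,1,3,0,3,1,2,0,2,0,3,0,3,0,2,0] else (bif Nat.blt q 983 then [1,3,1,2,1,2,1,3,1,3,0,2,1,2,0,3,0,3,0,3,0,3,3,1,3,1,2,2,1,3,3,3,1,3,3,0,3,1,3,3,1,3,1,3,1] else [0,2,0,2,0,2,2,0,2,1,2,2,0,2,2,2,0,3,3,0,2,0,2,2,1,2,1,2,1,2,1,3,0,3,1,2,0,2,0,3,0,3,0,2,0]))) else (bif Nat.blt q 987 then (bif Nat.blt q 985 then [2,1,2,2,0,3,1,2,1,2,0,3,3,3,1,3,3,0,3,0,3,0,3,1,2,0,2,2,1,2,1,2,0,2]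 else (bif Nat.blt q 986 then [3,1,3,0,3,0,3,3,1,3,0,2,1,2,1,2,1,2,2,0,2,2,2,1,3,0,3,0,2,1,3,3,0,3] else [1,3,1,2,1,2,1,3,1,3,0,2,1,2,0,2,1,2,2,1,3,0,3,3,0,3,1,2,2,0,2,2,1,2,2,1,2,2,1,3,1,3,1,3,0,2,0,2,1,3,0,3,1,3])) else (bif Nat.blt q 988 then [2,0,2,1,2,0,3,1,3,1,2,0,2,0,2,0,3,3,0,3,3,0,3,3,1,3,3,0,2,1,2,2,1,2,0,3,3,0,3,1,3,0,3,1,2,0,2,0,3,0,3,0,2,0] else (bif Nat.blt q 989 then [1,3,1,2,1,2,1,3,1,3,0,2,1,2,0,3,1,2,1,2,2,0,2,2,2,1,3,0,3,0,2,2,2,2,2,1,2,0,2,2,0,2,1,2] else [3,0,3,1,3,3,1,3,0,3,3,3,3,3,1,2,1,2,0,3,3,3,1,3,3,0,3,0,2,1,3,0,3,1,2,0,2,0,3,0,3,0,2,0])))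

/-- Part of the tree. -/
noncomputable def awT_t170 (q : ℕ) : List ℕ :=
  bif Nat.blt q 996 then (bif Nat.blt q 993 then (bif Nat.blt q 991 then [1,3,1,3,3,3,0,2,2,1,3,3,0,2,0,2,1,3,3,3,0,2] else (bif Nat.blt q 992 then [3,1,2,2,2,0,3,1,3,1,2,2,0,3,3,1,2,2,2,0,2,0] else [1,3,0,3,1,2,1,3,3,0,3,3,3,1,2,2,0,2,2,2,1,2,2,1,3,1,2])) else (bif Nat.blt q 994 then [3,0,2,0,3,3,0,3,3,3,1,3,3,0,2,2,2,1,2,2,0,3,0,2,1,2,0] else (bif Nat.blt q 995 then [1,3,0,3,3,1,3,0,2,0,2,1,3,0,3,1,1,2,0,2,2,1,2,2,1,2,2,0,2,0] else [1,3,1,3,3,0,3,3,0,3,3,1,3,0,0,2,1,2,0,3,1,3,1,2,0,2,2,1,2,0]))) else (bif Nat.blt q 999 then (bif Nat.blt q 997 then [1,3,1,2,1,2,1,3,1,3,0,2,1,2,2,0,3,3,1,2,2,0,2,1,3,3,0,2,2,1,2,2,1,2,2,1,3,1,2,2,2,1,2,1,3,1,3,1] else (bif Nat.blt q 998 then [0,2,0,2,0,3,0,3,3,3,0,2,0,3,3,0,3,3,0,3,3,1,2,2,0,3,1,3,3,0,2,2,1,3,3,0,3,1,2,0,2,0,3,0,3,0,2,0]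 else [1,3,1,2,1,2,1,3,1,3,0,2,1,2,0,3,1,2,1,2,2,0,2,2,2,1,3,0,3,0,2,2,2,2,2,1,2,0,2,2,0,2,1,2])) else (bif Nat.blt q 1000 then [3,0,3,1,3,3,1,3,0,3,3,3,3,3,1,2,1,2,0,3,3,3,1,3,3,0,3,0,2,1,3,0,3,1,2,0,2,0,3,0,3,0,2,0] else (bif Nat.blt q 1001 then [2,2,1,2,2,1,3,0,3,3,0,3,1,2,2,2,1,3,3,1,2,1,3,3,3,1,3,1,2,1,2,1,3] else [2,0,3,0,3,0,2,0,2,2,2,0,3,0,2,2,0,3,3,3,0,2,1,2,2,1,2,0,3,3,0,3,3])))

/-- Part of the tree. -/
noncomputable def awT_t171 (q : ℕ) : List ℕ :=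
  bif Nat.blt q 990 then (awT_t169 q) else (awT_t170 q)

/-- Part of the tree. -/
noncomputable def awT_t172 (q : ℕ) : List ℕ :=
  bif Nat.blt q 979 then (awT_t168 q) else (awT_t171 q)

/-- Part of the tree. -/
noncomputable def awT_t173 (q : ℕ) : List ℕ :=
  bif Nat.blt q 956 then (awT_t165 q) else (awT_t172 q)

/-- Part of the tree. -/
noncomputable def awT_t174 (q : ℕ) : List ℕ :=
  bif Nat.blt q 1007 then (bif Nat.blt q 1004 then (bif Nat.blt q 1003 then [1,3,0,3,3,3,1,2,2,0,2,1,3,3,3,1,3,3,0,2,0] else [1,3,1,2,2,0,2,2,2,0,3,1,3,3,0,2,2,2,1,2,0]) else (bif Nat.blt q 1005 then [2,1,2,1,3,3,0,2,0,4,2,4,3,4,3,4,2,4,0,2,4,3,3] else (bif Nat.blt q 1006 then [2,2,5,3,1,5,3,5,2,5,2,5,3,5,1,3,1,2,2,0,3,0,3] else [1,3,1,3,3,3,0,2,2,1,3,3,0,2,0,2,1,3,3,3,0,2]))) else (bif Nat.blt q 1010 then (bif Nat.blt q 1008 then [3,1,2,2,2,0,3,1,3,1,2,2,0,3,3,1,2,2,2,0,2,0]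 else (bif Nat.blt q 1009 then [1,3,1,2,1,2,1,3,1,3,0,2,1,2,0,2,1,2,2,1,3,0,3,3,0,3,1,2,2,0,2,2,1,2,2,1,2,2,1,3,1,3,1,3,0,2,0,2,1,3,0,3,1,3] else [2,0,2,1,2,0,3,1,3,1,2,0,2,0,2,0,3,3,0,3,3,0,3,3,1,3,3,0,2,1,2,2,1,2,0,3,3,0,3,1,3,0,3,1,2,0,2,0,3,0,3,0,2,0])) else (bif Nat.blt q 1011 then [1,3,1,2,1,2,1,3,1,3,0,2,1,2,0,3,1,2,1,2,2,0,2,2,2,1,3,0,3,0,2,2,2,2,2,1,2,0,2,2,0,2,1,2] else (bif Nat.blt q 1012 then [3,0,3,1,3,3,1,3,0,3,3,3,3,3,1,2,1,2,0,3,3,3,1,3,3,0,3,0,2,1,3,0,3,1,2,0,2,0,3,0,3,0,2,0] else [1,3,0,3,3,3,1,2,2,0,2,1,3,3,3,1,3,3,0,2,0])))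

/-- Part of the tree. -/
noncomputable def awT_t175 (q : ℕ) : List ℕ :=
  bif Nat.blt q 1018 then (bif Nat.blt q 1015 then (bif Nat.blt q 1014 then [1,3,1,2,2,0,2,2,2,0,3,1,3,3,0,2,2,2,1,2,0] else [1,3,0,3,3,1,3,0,2,0,2,1,3,0,3,1,1,2,0,2,2,1,2,2,1,2,2,0,2,0]) else (bif Nat.blt q 1016 then [1,3,1,3,3,0,3,3,0,3,3,1,3,0,0,2,1,2,0,3,1,3,1,2,0,2,2,1,2,0] else (bif Nat.blt q 1017 then [1,3,1,2,2,0,3,0,0,3,3,0,3,3,3,1,2,2,1,3] else [2,0,3,3,0,2,2,2,1,2,2,1,1,2,1,3,3,0,2,0]))) else (bif Nat.blt q 1021 then (bif Nat.blt q 1019 then [1,3,1,2,1,2,1,3,1,3,0,2,1,2,0,2,1,2,2,1,3,0,3,3,0,3,1,2,2,0,2,2,0,3,3,0,3,3,3,1,2,2,1,3] else (bif Nat.blt q 1020 then [2,0,3,3,0,2,2,2,1,2,2,1,3,3,1,3,3,0,2,1,2,2,1,2,0,3,3,0,3,1,3,0,3,1,2,0,2,0,3,0,3,0,2,0] else [1,2,1,3,3,0,3,3,3,1,2,2,0,3,0])) else (bif Nat.blt q 1022 then [1,2,1,3,3,0,2,2,2,1,2,2,0,3,0]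 else (bif Nat.blt q 1023 then [1,3,1,2,1,2,1,3,1,3,0,2,1,2,0,3,1,3,1,3,0,3,0,3,3,1,3,1,2,2,0,3,0] else [1,2,1,3,3,0,2,0,2,2,1,2,1,2,0,2,0,2,1,3,0,3,1,2,0,2,0,3,0,3,0,2,0])))

/-- Part of the tree. -/
noncomputable def awT_t176 (q : ℕ) : List ℕ :=
  bif Nat.blt q 1013 then (awT_t174 q) else (awT_t175 q)

/-- Part of the tree. -/
noncomputable def awT_t177 (q : ℕ) : List ℕ :=
  bif Nat.blt q 1029 then (bif Nat.blt q 1026 then (bif Nat.blt q 1025 then [1,3,1,2,1,2,1,3,1,3,0,2,1,2,0,3,0,3,0,3,0,3,3,1,3,1,2,2,1,3,3,3,1,3,3,0,3,1,3,3,1,3,1,3,1] else [0,2,0,2,0,2,2,0,2,1,2,2,0,2,2,2,0,3,3,0,2,0,2,2,1,2,1,2,1,2,1,3,0,3,1,2,0,2,0,3,0,3,0,2,0]) else (bif Nat.blt q 1027 then [1,3,1,2,1,2,1,3,1,3,0,2,1,2,0,3,1,3,1,3,0,3,0,3,3,1,3,1,2,2,0,3,0] else (bif Nat.blt q 1028 then [1,2,1,3,3,0,2,0,2,2,1,2,1,2,0,2,0,2,1,3,0,3,1,2,0,2,0,3,0,3,0,2,0] else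 [1,3,1,2,1,2,1,3,1,3,0,2,1,2,0,3,0,3,0,3,0,3,3,1,3,1,2,2,1,3,3,3,1,3,3,0,3,1,3,3,1,3,1,3,1]))) else (bif Nat.blt q 1032 then (bif Nat.blt q 1030 then [0,2,0,2,0,2,2,0,2,1,2,2,0,2,2,2,0,3,3,0,2,0,2,2,1,2,1,2,1,2,1,3,0,3,1,2,0,2,0,3,0,3,0,2,0] else (bif Nat.blt q 1031 then [2,1,2,1,3,3,3,0,3,0,3,3,0,3,3,0,3,0,2,1,2,2,0,2,0,3,3,3,1,3,0,2,2] else [3,3,1,2,0,2,2,2,1,3,1,3,3,0,3,1,2,1,2,2,1,2,2,1,2,1,2,2,2,0,3,0,3])) else (bif Nat.blt q 1033 then [1,3,1,2,1,2,1,3,1,3,0,2,1,2,0,3,1,3,1,3,0,3,0,3,3,1,3,1,2,2,0,3,0] else (bif Nat.blt q 1034 then [1,2,1,3,3,0,2,0,2,2,1,2,1,2,0,2,0,2,1,3,0,3,1,2,0,2,0,3,0,3,0,2,0] else [1,3,1,2,1,2,1,3,1,3,0,2,1,2,0,3,1,3,0,3,3,1,3,0,2,0,2,1,3,0,3,1,3,1,3,1,3,3,3,1,3,1,3,3,3,1,3,1,2,1,2,1,3])))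

/-- Part of the tree. -/
noncomputable def awT_t178 (q : ℕ) : List ℕ :=
  bif Nat.blt q 1041 then (bif Nat.blt q 1038 then (bif Nat.blt q 1036 then [2,0,3,0,3,0,2,0,2,2,2,0,2,0,2,2,2,0,2,0,2,0,2,1,2,0,3,1,3,1,2,0,2,2,1,2,0,2,1,3,0,3,1,2,0,2,0,3,0,3,0,2,0] else (bif Nat.blt q 1037 then [3,1,2,1,3,3,1,3,3,1,3,1,2,1,2,0,2,2,0,3,3,1,2,2,2,0,2,2,2,1,2,0,2] else [3,1,3,0,3,3,3,1,3,3,3,0,2,2,1,3,3,1,3,0,3,0,2,0,2,2,0,2,2,0,3,0,2])) else (bif Nat.blt q 1039 then [1,3,1,2,1,2,1,3,1,3,0,2,1,2,0,3,0,3,0,3,0,3,3,1,3,1,2,2,1,3,3,3,1,3,3,0,3,1,3,3,1,3,1,3,1] else (bif Nat.blt q 1040 then [0,2,0,2,0,2,2,0,2,1,2,2,0,2,2,2,0,3,3,0,2,0,2,2,1,2,1,2,1,2,1,3,0,3,1,2,0,2,0,3,0,3,0,2,0] else [3,1,2,1,3,3,1,3,3,1,3,1,2,1,2,0,2,2,0,3,3,0,3,1,2,0,2,2,1,2,1,2,0,3,3,1,3,0,3,3]))) else (bif Nat.blt q 1044 then (bif Nat.blt q 1042 then [2,2,1,2,0,2,2,1,3,0,3,0,3,3,1,3,0,2,1,2,2,1,3,3,1,3,0,3,0,2,0,2,2,0,2,2,0,3,0,2]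 else (bif Nat.blt q 1043 then [3,1,2,1,3,3,1,3,3,1,3,1,2,1,2,0,2,2,0,3,3,1,2,2,2,0,2,2,2,1,2,0,2] else [3,1,3,0,3,3,3,1,3,3,3,0,2,2,1,3,3,1,3,0,3,0,2,0,2,2,0,2,2,0,3,0,2])) else (bif Nat.blt q 1045 then [1,3,1,2,1,2,1,3,1,3,0,2,1,2,0,3,0,3,0,3,0,3,3,1,3,1,2,2,1,3,3,3,1,3,3,0,3,1,3,3,1,3,1,3,1] else (bif Nat.blt q 1046 then [0,2,0,2,0,2,2,0,2,1,2,2,0,2,2,2,0,3,3,0,2,0,2,2,1,2,1,2,1,2,1,3,0,3,1,2,0,2,0,3,0,3,0,2,0] else [1,3,1,2,1,2,1,3,1,3,0,2,1,2,0,3,0,3,0,3,0,3,3,1,3,1,2,2,1,3,3,3,1,3,3,0,3,1,3,3,1,3,1,3,1])))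

/-- Part of the tree. -/
noncomputable def awT_t179 (q : ℕ) : List ℕ :=
  bif Nat.blt q 1035 then (awT_t177 q) else (awT_t178 q)

/-- Part of the tree. -/
noncomputable def awT_t180 (q : ℕ) : List ℕ :=
  bif Nat.blt q 1024 then (awT_t176 q) else (awT_t179 q)

/-- Part of the tree. -/
noncomputable def awT_t181 (q : ℕ) : List ℕ :=
  bif Nat.blt q 1052 then (bif Nat.blt q 1049 then (bif Nat.blt q 1048 then [0,2,0,2,0,2,2,0,2,1,2,2,0,2,2,2,0,3,3,0,2,0,2,2,1,2,1,2,1,2,1,3,0,3,1,2,0,2,0,3,0,3,0,2,0] else [3,3,3,1,3,3,3,0,2,2,2]) else (bif Nat.blt q 1050 then [3,3,3,1,2,2,2,0,2,2,2] else (bif Nat.blt q 1051 then [2,1,2,1,3,3,0,2,0,4,2,4,3,4,3,4,2,4,0,2,4,3,3] else [2,2,5,3,1,5,3,5,2,5,2,5,3,5,1,3,1,2,2,0,3,0,3]))) else (bif Nat.blt q 1055 then (bif Nat.blt q 1053 then [2,1,2,2,0,3,1,2,1,2,0,3,3,3,1,3,3,0,3,0,3,0,3,1,2,0,2,2,1,2,1,2,0,2]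 else (bif Nat.blt q 1054 then [3,1,3,0,3,0,3,3,1,3,0,2,1,2,1,2,1,2,2,0,2,2,2,1,3,0,3,0,2,1,3,3,0,3] else [2,2,1,2,2,1,3,0,3,3,0,3,1,2,2,2,1,3,3,1,2,1,3,3,3,1,3,1,2,1,2,1,3])) else (bif Nat.blt q 1056 then [2,0,3,0,3,0,2,0,2,2,2,0,3,0,2,2,0,3,3,3,0,2,1,2,2,1,2,0,3,3,0,3,3] else (bif Nat.blt q 1057 then [1,3,1,2,1,2,1,3,1,3,0,2,1,2,0,3,1,3,0,3,3,3,1,2,2,0,2,1,3,3,0,3,1,3,3,0,2,2,1,3,3,0,3,3,3,3,3,1,2,0,3,3] else [2,2,1,3,0,2,2,2,2,2,1,2,2,0,3,3,1,2,2,0,2,1,2,2,0,3,1,3,3,0,2,2,2,1,2,0,2,1,3,0,3,1,2,0,2,0,3,0,3,0,2,0])))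

/-- Part of the tree. -/
noncomputable def awT_t182 (q : ℕ) : List ℕ :=
  bif Nat.blt q 1064 then (bif Nat.blt q 1061 then (bif Nat.blt q 1059 then [3,1,2,1,3,3,1,3,3,1,3,1,2,1,2,0,2,2,0,3,3,1,2,2,2,0,2,2,2,1,2,0,2] else (bif Nat.blt q 1060 then [3,1,3,0,3,3,3,1,3,3,3,0,2,2,1,3,3,1,3,0,3,0,2,0,2,2,0,2,2,0,3,0,2] else [3,3,3,1,3,3,3,0,2,2,2])) else (bif Nat.blt q 1062 then [3,3,3,1,2,2,2,0,2,2,2] else (bif Nat.blt q 1063 then [2,1,2,1,3,3,0,2,0,4,2,4,3,4,3,4,2,4,0,2,4,3,3] else [2,2,5,3,1,5,3,5,2,5,2,5,3,5,1,3,1,2,2,0,3,0,3]))) else (bif Nat.blt q 1067 then (bif Nat.blt q 1065 then [1,3,1,2,1,2,1,3,1,3,0,2,1,2,0,3,0,2,2,0,2,0,2,2,0,2,2,0,2,0,2,0,2,2,0] else (bif Nat.blt q 1066 then [1,3,3,1,3,1,3,1,3,3,1,3,3,1,3,1,3,3,1,2,1,3,0,3,1,2,0,2,0,3,0,3,0,2,0] else [2,0,2,1,2,2,1,2,1,3,0,3,0,2,1,2,0,3])) else (bif Nat.blt q 1068 then [2,1,3,0,3,1,2,1,2,0,3,0,3,3,0,3,1,3]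 else (bif Nat.blt q 1069 then [0,3,0,3,0,3,3,1,3,1,2,2,1,3,3,3,1,3,1,3,3,3,1,3,1,3,3,4,2,4,3] else [2,5,3,5,2,2,0,2,0,2,2,2,0,2,0,2,2,2,0,3,3,0,2,0,2,2,1,2,1,2,1])))

/-- Part of the tree. -/
noncomputable def awT_t183 (q : ℕ) : List ℕ :=
  bif Nat.blt q 1058 then (awT_t181 q) else (awT_t182 q)

/-- Part of the tree. -/
noncomputable def awT_t184 (q : ℕ) : List ℕ :=
  bif Nat.blt q 1075 then (bif Nat.blt q 1072 then (bif Nat.blt q 1071 then [1,3,1,2,1,2,1,3,1,3,0,2,1,2,0,3,0,2,2,0,2,0,2,2,0,2,2,0,2,0,2,0,2,2,0] else [1,3,3,1,3,1,3,1,3,3,1,3,3,1,3,1,3,3,1,2,1,3,0,3,1,2,0,2,0,3,0,3,0,2,0]) else (bif Nat.blt q 1073 then [2,0,2,1,2,2,1,2,1,3,0,3,0,2,1,2,0,3] else (bif Nat.blt q 1074 then [2,1,3,0,3,1,2,1,2,0,3,0,3,3,0,3,1,3] else [1,3,1,2,1,2,1,3,1,3,0,2,1,2,0,3]))) else (bif Nat.blt q 1078 then (bif Nat.blt q 1076 then [2,1,3,0,3,1,2,0,2,0,3,0,3,0,2,0]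 else (bif Nat.blt q 1077 then [1,3,1,2,1,2,1,3,1,3,0,2,2,2,1,3,3,3,0,3,3,1,3,3,0,3,3,1,3,1,2,2,0,3,0] else [1,2,1,3,3,0,2,0,2,2,1,2,2,0,2,2,1,2,2,2,0,3,3,3,1,2,0,2,0,3,0,3,0,2,0])) else (bif Nat.blt q 1079 then [2,1,2,1,3,3,3,0,3,0,3,3,0,3,1,2,0,2,2,1,2,1,2,0,2] else (bif Nat.blt q 1080 then [3,1,3,0,3,0,3,3,1,3,0,2,1,2,2,1,2,1,2,2,2,0,3,0,3] else [1,2,1,3,3,0,2,0,2])))

/-- Part of the tree. -/
noncomputable def awT_t185 (q : ℕ) : List ℕ :=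
  bif Nat.blt q 1087 then (bif Nat.blt q 1084 then (bif Nat.blt q 1082 then [3,1,3,1,2,2,0,3,0] else (bif Nat.blt q 1083 then [1,3,1,2,1,2,1,3,1,3,0,2,1,2,0,3] else [2,1,3,0,3,1,2,0,2,0,3,0,3,0,2,0])) else (bif Nat.blt q 1085 then [2,2,1,2,2,1,2,2,0,2,0,2,2,2,1,3,0,3,3,3,0,3,1,2,0,2,2,1,2,1,2,0,2,1,2,0] else (bif Nat.blt q 1086 then [1,3,0,3,1,3,0,3,0,3,3,1,3,0,2,1,2,2,2,1,2,0,3,3,3,1,3,1,3,3,0,3,3,0,3,3] else [1,3,1,2,1,2,1,3,1,3,0,2,1,2,0,3,1,3,1,3,0,3,3,3,3,0,3,3,1,3,1,2,2,0,3,0]))) else (bif Nat.blt q 1090 then (bif Nat.blt q 1088 then [1,2,1,3,3,0,2,0,2,2,1,2,2,2,2,1,2,0,2,0,2,1,3,0,3,1,2,0,2,0,3,0,3,0,2,0] else (bif Nat.blt q 1089 then [1,3,1,2,1,2,1,3,1,3,0,2,1,2,0,3,1,3,1,3,0,3,3,3,3,0,3,3,1,3,1,2,2,0,3,0] else [1,2,1,3,3,0,2,0,2,2,1,2,2,2,2,1,2,0,2,0,2,1,3,0,3,1,2,0,2,0,3,0,3,0,2,0])) else (bif Nat.blt q 1091 then [1,3,1,2,1,2,1,3,1,3,0,2,1,2,0,3]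 else (bif Nat.blt q 1092 then [2,1,3,0,3,1,2,0,2,0,3,0,3,0,2,0] else [2,0,2,1,2,2,1,2,1,3,0,3,0,2,1,2,0,3])))

/-- Part of the tree. -/
noncomputable def awT_t186 (q : ℕ) : List ℕ :=
  bif Nat.blt q 1081 then (awT_t184 q) else (awT_t185 q)

/-- Part of the tree. -/
noncomputable def awT_t187 (q : ℕ) : List ℕ :=
  bif Nat.blt q 1070 then (awT_t183 q) else (awT_t186 q)

/-- Part of the tree. -/
noncomputable def awT_t188 (q : ℕ) : List ℕ :=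
  bif Nat.blt q 1047 then (awT_t180 q) else (awT_t187 q)

/-- Part of the tree. -/
noncomputable def awT_t189 (q : ℕ) : List ℕ :=
  bif Nat.blt q 1002 then (awT_t173 q) else (awT_t188 q)

/-- Part of the tree. -/
noncomputable def awT_t190 (q : ℕ) : List ℕ :=
  bif Nat.blt q 911 then (awT_t158 q) else (awT_t189 q)

/-- Part of the tree. -/
noncomputable def awT_t191 (q : ℕ) : List ℕ :=
  bif Nat.blt q 1098 then (bif Nat.blt q 1095 then (bif Nat.blt q 1094 then [2,1,3,0,3,1,2,1,2,0,3,0,3,3,0,3,1,3] else [1,3,1,2,1,2,1,3,1,3,0,2,1,2,0,3,1,2,1,3,3,1,3,1,3,3,1,2,2,1,2,0,2,0,4,2,2,4,2,2,4,2,2,4,2,2,1,3,3,1,3,1,3,1]) else (bif Nat.blt q 1096 then [0,2,0,2,0,2,2,0,3,3,5,3,3,5,3,3,5,3,3,5,1,3,1,3,0,3,3,0,2,2,0,2,0,2,2,0,3,0,2,1,3,0,3,1,2,0,2,0,3,0,3,0,2,0] else (bif Nat.blt q 1097 then [1,3,0,3,1,2,1,3,3,0,3,3,3,1,2,2,0,2,0,3,3,1,3,1,2,2,0,3,0,3,1,4,2,1,4]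 else [5,0,3,5,0,2,1,2,1,3,3,0,2,0,2,2,1,3,1,3,3,0,2,2,2,1,2,2,0,3,0,2,1,2,0]))) else (bif Nat.blt q 1101 then (bif Nat.blt q 1099 then [1,3,1,2,1,2,1,3,1,3,0,2,1,2,0,3,1,2,1,3,3,1,3,1,3,3,1,2,2,1,2,0,2,0,4,2,2,4,2,2,4,2,2,4,2,2,1,3,3,1,3,1,3,1] else (bif Nat.blt q 1100 then [0,2,0,2,0,2,2,0,3,3,5,3,3,5,3,3,5,3,3,5,1,3,1,3,0,3,3,0,2,2,0,2,0,2,2,0,3,0,2,1,3,0,3,1,2,0,2,0,3,0,3,0,2,0] else [2,1,3,0,2,2,1,3,3,3,0,3,3,1,2,0,3])) else (bif Nat.blt q 1102 then [2,1,3,0,2,2,1,2,2,2,0,3,3,1,2,0,3] else (bif Nat.blt q 1103 then [1,3,1,2,1,2,1,3,1,3,0,2,1,2,2,1,3,3,3,0,3,0,3,3,0,3,1,2,0,2,2,1,2,1,2,0,2] else [3,1,3,0,3,0,3,3,1,3,0,2,1,2,2,1,2,1,2,2,2,0,3,3,0,3,1,2,0,2,0,3,0,3,0,2,0])))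

/-- Part of the tree. -/
noncomputable def awT_t192 (q : ℕ) : List ℕ :=
  bif Nat.blt q 1109 then (bif Nat.blt q 1106 then (bif Nat.blt q 1105 then [1,3,1,2,1,2,1,3,1,3,0,2,1,2,0,3,1,3,1,3,0,3,3,3,3,0,3,3,1,3,1,2,2,0,3,0] else [1,2,1,3,3,0,2,0,2,2,1,2,2,2,2,1,2,0,2,0,2,1,3,0,3,1,2,0,2,0,3,0,3,0,2,0]) else (bif Nat.blt q 1107 then [1,3,1,2,1,2,1,3,1,3,0,2,1,2,0,3,1,3,1,3,0,3,3,3,3,0,3,3,1,3,1,2,2,0,3,0] else (bif Nat.blt q 1108 then [1,2,1,3,3,0,2,0,2,2,1,2,2,2,2,1,2,0,2,0,2,1,3,0,3,1,2,0,2,0,3,0,3,0,2,0] else [1,2,0,2,1,3,0,3,0,2,1,2,2,1,2,0,3,0,3,1,2,0,2,2,1,2,1,2,0,2,1,2,0]))) else (bif Nat.blt q 1112 then (bif Nat.blt q 1110 then [1,3,0,3,1,3,0,3,0,3,3,1,3,0,2,1,2,1,3,0,3,3,0,3,1,2,1,2,0,3,1,3,0] else (bif Nat.blt q 1111 then [1,3,1,2,1,2,1,3,1,3,0,2,1,2,0,3,1,3,1,3,0,3,3,3,3,0,3,3,1,3,1,2,2,0,3,0] else [1,2,1,3,3,0,2,0,2,2,1,2,2,2,2,1,2,0,2,0,2,1,3,0,3,1,2,0,2,0,3,0,3,0,2,0]))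 else (bif Nat.blt q 1113 then [1,3,1,2,1,2,1,3,1,3,0,2,1,2,0,3,1,2,1,3,3,0,2,0,2] else (bif Nat.blt q 1114 then [3,1,3,1,2,2,0,3,0,2,1,3,0,3,1,2,0,2,0,3,0,3,0,2,0] else [1,3,1,2,1,2,1,3,1,3,0,2,1,2,0,3])))

/-- Part of the tree. -/
noncomputable def awT_t193 (q : ℕ) : List ℕ :=
  bif Nat.blt q 1104 then (awT_t191 q) else (awT_t192 q)

/-- Part of the tree. -/
noncomputable def awT_t194 (q : ℕ) : List ℕ :=
  bif Nat.blt q 1120 then (bif Nat.blt q 1117 then (bif Nat.blt q 1116 then [2,1,3,0,3,1,2,0,2,0,3,0,3,0,2,0] else [1,3,1,2,1,2,1,3,1,3,0,2,1,2,0,0,2,1,2,2,1,2,1,3,0,3,0,2,1,2,0,3]) else (bif Nat.blt q 1118 then [2,1,3,0,3,1,2,1,2,0,3,0,3,3,0,3,1,1,3,0,3,1,2,0,2,0,3,0,3,0,2,0] else (bif Nat.blt q 1119 then [1,3,1,3,0,3,0,3] else [2,1,2,1,2,0,2,0]))) else (bif Nat.blt q 1123 then (bif Nat.blt q 1121 then [1,2,1,3,3,1,3,1,3,3,1,2,0,3,3,1,3,1,3,3,3,1,3,1,3,1,2,0]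 else (bif Nat.blt q 1122 then [1,3,0,2,0,2,0,2,2,2,0,2,0,2,2,1,3,0,2,2,0,2,0,2,2,0,3,0] else [1,3,1,3,0,3,0,3])) else (bif Nat.blt q 1124 then [2,1,2,1,2,0,2,0] else (bif Nat.blt q 1125 then [1,3,1,2,1,2,1,3,1,3,0,2,1,2,0,3,1,3,1,3,3,3,0,2,0,3,1,3,3,1,2,0,3,3,0,2,2,1,4,2,1,4] else [5,0,3,5,0,3,3,1,2,2,1,3,0,2,2,0,2,1,3,1,2,2,2,0,2,0,2,1,3,0,3,1,2,0,2,0,3,0,3,0,2,0])))

/-- Part of the tree. -/
noncomputable def awT_t195 (q : ℕ) : List ℕ :=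
  bif Nat.blt q 1132 then (bif Nat.blt q 1129 then (bif Nat.blt q 1127 then [1,3,1,2,1,2,1,3,1,3,0,2,1,2,0,3,1,3,1,3,3,3,0,2,0,3,1,3,3,1,2,0,3,3,0,2,2,2] else (bif Nat.blt q 1128 then [3,3,3,1,2,2,1,3,0,2,2,0,2,1,3,1,2,2,2,0,2,0,2,1,3,0,3,1,2,0,2,0,3,0,3,0,2,0] else [1,3,1,2,1,2,1,3,1,3,0,2,1,2,0,3,1,3,1,3,3,3,0,2,0,3,1,3,3,1,2,0,3,3,0,2,2,2])) else (bif Nat.blt q 1130 then [3,3,3,1,2,2,1,3,0,2,2,0,2,1,3,1,2,2,2,0,2,0,2,1,3,0,3,1,2,0,2,0,3,0,3,0,2,0] else (bif Nat.blt q 1131 then [2,0,2,1,2,0,2,2,0,2,0,3,3,3,1,2,1,2,2,1,3,1,2,0,3,3,1,3,0,3] else [2,1,2,0,2,2,1,3,0,2,0,3,3,0,3,0,2,2,2,1,3,1,3,3,1,3,0,3,1,3]))) else (bif Nat.blt q 1135 then (bif Nat.blt q 1133 then [1,3,1,2,1,2,1,3,1,3,0,2,1,2,0,3,1,2,1,3,3,1,3,1,3,3,1,2,0,3,3,1,3,1,2,1,2,2,1,3,1,2,0,3,3,1,3,0,3] else (bif Nat.blt q 1134 then [2,1,2,0,2,2,1,3,0,2,0,3,3,0,3,0,2,0,2,2,1,3,0,2,2,0,2,0,2,2,0,3,0,2,1,3,0,3,1,2,0,2,0,3,0,3,0,2,0]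 else [1,3,1,2,1,2,1,3,1,3,0,2,1,2,0,0,2,1,2,2,1,2,1,3,0,3,0,2,1,2,0,3,1,2,0,2,2,1,2,2,1,2,2,0,2,4,2,1,4])) else (bif Nat.blt q 1136 then [5,0,3,5,3,1,3,3,0,3,3,0,3,3,1,3,0,2,1,3,0,3,1,2,1,2,0,3,0,3,3,0,3,1,1,3,0,3,1,2,0,2,0,3,0,3,0,2,0] else (bif Nat.blt q 1137 then [2,0,2,1,2,0,2,2,0,2,0,3,3,3,1,2,1,2,2,1,3,1,2,0,3,3,1,3,0,3] else [2,1,2,0,2,2,1,3,0,2,0,3,3,0,3,0,2,2,2,1,3,1,3,3,1,3,0,3,1,3])))

/-- Part of the tree. -/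
noncomputable def awT_t196 (q : ℕ) : List ℕ :=
  bif Nat.blt q 1126 then (awT_t194 q) else (awT_t195 q)

/-- Part of the tree. -/
noncomputable def awT_t197 (q : ℕ) : List ℕ :=
  bif Nat.blt q 1115 then (awT_t193 q) else (awT_t196 q)

/-- Part of the tree. -/
noncomputable def awT_t198 (q : ℕ) : List ℕ :=
  bif Nat.blt q 1143 then (bif Nat.blt q 1140 then (bif Nat.blt q 1139 then [2,1,3,0,2,2,1,3,3,3,0,3,3,1,2,0,3] else [2,1,3,0,2,2,1,2,2,2,0,3,3,1,2,0,3]) else (bif Nat.blt q 1141 then [1,3,1,2,1,2,1,3,1,3,0,2,1,2,0,3,3,1,3,1,2,2,0,3,0] else (bif Nat.blt q 1142 then [1,2,1,3,3,0,2,0,2,2,1,3,0,3,1,2,0,2,0,3,0,3,0,2,0] else [1,3,1,2,1,2,1,3,1,3,0,2,1,2,0,3,1,3,1,3,0,3,3,3,3,0,3]))) else (bif Nat.blt q 1146 then (bif Nat.blt q 1144 then [2,1,2,2,2,2,1,2,0,2,0,2,1,3,0,3,1,2,0,2,0,3,0,3,0,2,0] else (bif Nat.blt q 1145 then [2,2,1,2,2,1,2,2,0,2,0,2,2,2,1,3,0,3,3,3,0,3,1,2,0,2,2,1,2,1,2,0,2,1,2,0]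 else [1,3,0,3,1,3,0,3,0,3,3,1,3,0,2,1,2,2,2,1,2,0,3,3,3,1,3,1,3,3,0,3,3,0,3,3])) else (bif Nat.blt q 1147 then [1,2,0,2,1,3,0,3,0,2,1,2,2,1,2,0,3,0,3,1,2,0,2,2,1,2,1,2,0,2,1,2,0] else (bif Nat.blt q 1148 then [1,3,0,3,1,3,0,3,0,3,3,1,3,0,2,1,2,1,3,0,3,3,0,3,1,2,1,2,0,3,1,3,0] else [1,3,1,2,1,2,1,3,1,3,0,2,1,2,0,3,1,3,1,3,0,3,3,3,3,0,3])))

/-- Part of the tree. -/
noncomputable def awT_t199 (q : ℕ) : List ℕ :=
  bif Nat.blt q 1155 then (bif Nat.blt q 1152 then (bif Nat.blt q 1150 then [2,1,2,2,2,2,1,2,0,2,0,2,1,3,0,3,1,2,0,2,0,3,0,3,0,2,0] else (bif Nat.blt q 1151 then [2,1,3,0,2,2,1,3,3,3,0,3,3,1,2,0,3] else [2,1,3,0,2,2,1,2,2,2,0,3,3,1,2,0,3])) else (bif Nat.blt q 1153 then [1,3,1,3,0,3,0,3] else (bif Nat.blt q 1154 then [2,1,2,1,2,0,2,0] else [1,3,1,2,1,2,1,3,1,3,0,2,1,2,0,3]))) else (bif Nat.blt q 1158 then (bif Nat.blt q 1156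 then [2,1,3,0,3,1,2,0,2,0,3,0,3,0,2,0] else (bif Nat.blt q 1157 then [2,2,1,2,2,1,3,0,3,3,0,3,1,2,2,0,2,2,2,0,2,2,1,3,3,1,3,3,0,3,3] else [2,2,1,2,2,0,2,2,0,3,3,1,3,3,3,1,3,3,0,2,1,2,2,1,2,0,3,3,0,3,3])) else (bif Nat.blt q 1159 then [1,3,1,2,1,2,1,3,1,3,0,2,1,2,0,3,1,2,1,2,0,3,3,0,2,2,0,3,3,0,3,3,3,1,2,2,1,3] else (bif Nat.blt q 1160 then [2,0,3,3,0,2,2,2,1,2,2,1,3,3,1,2,2,1,3,0,3,0,2,1,3,0,3,1,2,0,2,0,3,0,3,0,2,0] else [1,3,1,2,2,0,3,0,3])))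

/-- Part of the tree. -/
noncomputable def awT_t200 (q : ℕ) : List ℕ :=
  bif Nat.blt q 1149 then (awT_t198 q) else (awT_t199 q)

/-- Part of the tree. -/
noncomputable def awT_t201 (q : ℕ) : List ℕ :=
  bif Nat.blt q 1166 then (bif Nat.blt q 1163 then (bif Nat.blt q 1162 then [2,1,2,1,3,3,0,2,0] else [1,3,1,2,1,2,1,3,1,3,0,2,1,2,0,3]) else (bif Nat.blt q 1164 then [2,1,3,0,3,1,2,0,2,0,3,0,3,0,2,0] else (bif Nat.blt q 1165 then [1,3,1,2,1,2,1,3,1,3,0,2,1,2,0,0,2,1,2,2,1,2,1,3,0,3,0,2,1,2,0,3] else [2,1,3,0,3,1,2,1,2,0,3,0,3,3,0,3,1,1,3,0,3,1,2,0,2,0,3,0,3,0,2,0]))) else (bif Nat.blt q 1169 then (bif Nat.blt q 1167 then [2,0,2,1,2,2,1,2,1,3,0,3,0,2,1,3,3,0,3,3,1,3,1,2,2,0,3,0] else (bif Nat.blt q 1168 then [1,2,1,3,3,0,2,0,2,2,1,2,2,0,3,1,2,1,2,0,3,0,3,3,0,3,1,3] else [1,3,1,2,1,2,1,3,1,3,0,2,1,2,0,0,2,1,2,2,1,2,1,3,0,3,0,2,1,2,0,3]))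 else (bif Nat.blt q 1170 then [2,1,3,0,3,1,2,1,2,0,3,0,3,3,0,3,1,1,3,0,3,1,2,0,2,0,3,0,3,0,2,0] else (bif Nat.blt q 1171 then [1,2,1,3,3,1,3,1,3,3,1,2,0,3,3,0,3,1,2,0,2,2,1,2,1,2,0,2,1,2,0] else [1,3,0,3,1,3,0,3,0,3,3,1,3,0,2,1,2,2,1,3,0,2,2,0,2,0,2,2,0,3,0])))

/-- Part of the tree. -/
noncomputable def awT_t202 (q : ℕ) : List ℕ :=
  bif Nat.blt q 1178 then (bif Nat.blt q 1175 then (bif Nat.blt q 1173 then [1,3,1,2,1,2,1,3,1,3,0,2,1,3,3,0,3] else (bif Nat.blt q 1174 then [2,1,2,2,0,3,1,2,0,2,0,3,0,3,0,2,0] else [1,3,1,2,1,2,1,3,1,3,0,2,1,3,3,0,3])) else (bif Nat.blt q 1176 then [2,1,2,2,0,3,1,2,0,2,0,3,0,3,0,2,0] else (bif Nat.blt q 1177 then [1,3,1,2,1,2,1,3,1,3,0,2,1,3,3,0,3,3,1,3,1,2,2,0,3,0] else [1,2,1,3,3,0,2,0,2,2,1,2,2,0,3,1,2,0,2,0,3,0,3,0,2,0]))) else (bif Nat.blt q 1181 then (bif Nat.blt q 1179 then [1,3,1,3,0,3,0,3]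 else (bif Nat.blt q 1180 then [2,1,2,1,2,0,2,0] else [1,3,1,2,1,2,1,3,1,3,0,2,1,2,0,3])) else (bif Nat.blt q 1182 then [2,1,3,0,3,1,2,0,2,0,3,0,3,0,2,0] else (bif Nat.blt q 1183 then [1,3,1,2,1,2,1,3,1,3,0,2,1,2,0,3,1,3,0,3,1,2,1,3,3,0,3,3,3,1,2,2,0,2,0,3] else [2,1,3,1,3,3,0,2,2,2,1,2,2,0,3,0,2,1,2,0,2,1,3,0,3,1,2,0,2,0,3,0,3,0,2,0])))

/-- Part of the tree. -/
noncomputable def awT_t203 (q : ℕ) : List ℕ :=
  bif Nat.blt q 1172 then (awT_t201 q) else (awT_t202 q)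

/-- Part of the tree. -/
noncomputable def awT_t204 (q : ℕ) : List ℕ :=
  bif Nat.blt q 1161 then (awT_t200 q) else (awT_t203 q)

/-- Part of the tree. -/
noncomputable def awT_t205 (q : ℕ) : List ℕ :=
  bif Nat.blt q 1138 then (awT_t197 q) else (awT_t204 q)

/-- Part of the tree. -/
noncomputable def awT_t206 (q : ℕ) : List ℕ :=
  bif Nat.blt q 1189 then (bif Nat.blt q 1186 then (bif Nat.blt q 1185 then [1,3,1,2,1,2,1,3,1,3,0,2,1,2,0,3] else [2,1,3,0,3,1,2,0,2,0,3,0,3,0,2,0]) else (bif Nat.blt q 1187 then [1,3,1,2,1,2,1,3,1,3,0,2,1,2,0,3,1,3,1,3,3,3,0,2,0,3,1,3,3,1,2,0,3,3,0,2,2,2] else (bif Nat.blt q 1188 then [3,3,3,1,2,2,1,3,0,2,2,0,2,1,3,1,2,2,2,0,2,0,2,1,3,0,3,1,2,0,2,0,3,0,3,0,2,0] else [2,1,2,1,3,3,3,0,3,0,3,3,1,3,3,0,3,1,3,3,1,3,1,3,1]))) else (bif Nat.blt q 1192 then (bif Nat.blt q 1190 then [0,2,0,2,0,2,2,0,2,1,2,2,0,2,2,1,2,1,2,2,2,0,3,0,3]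 else (bif Nat.blt q 1191 then [2,1,3,0,2,2,1,3,3,3,0,3,3,1,2,0,3] else [2,1,3,0,2,2,1,2,2,2,0,3,3,1,2,0,3])) else (bif Nat.blt q 1193 then [1,3,0,3,1,2,1,3,3,0,3,3,3,1,2,2,0,3,3,0,3,3,1,3,1,2,2,0,3,0] else (bif Nat.blt q 1194 then [1,2,1,3,3,0,2,0,2,2,1,2,2,1,3,3,0,2,2,2,1,2,2,0,3,0,2,1,2,0] else [1,3,1,2,1,2,1,3,1,3,0,2,1,2,0,3,1,3,1,3,0,3,3,3,3,0,3])))

/-- Part of the tree. -/
noncomputable def awT_t207 (q : ℕ) : List ℕ :=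
  bif Nat.blt q 1200 then (bif Nat.blt q 1197 then (bif Nat.blt q 1196 then [2,1,2,2,2,2,1,2,0,2,0,2,1,3,0,3,1,2,0,2,0,3,0,3,0,2,0] else [2,1,3,0,2,2,1,3,3,3,0,3,3,1,2,0,3,3,1,3,1,2,2,0,3,0]) else (bif Nat.blt q 1198 then [1,2,1,3,3,0,2,0,2,2,1,3,0,2,2,1,2,2,2,0,3,3,1,2,0,3] else (bif Nat.blt q 1199 then [1,3,1,2,1,2,1,3,1,3,0,2,1,2,0,3,1,3,1,3,0,3,3,3,3,0,3] else [2,1,2,2,2,2,1,2,0,2,0,2,1,3,0,3,1,2,0,2,0,3,0,3,0,2,0]))) else (bif Nat.blt q 1203 then (bif Nat.blt q 1201 then [1,3,1,2,1,2,1,3,1,3,0,2,1,2,0,3,1,2,1,3,3,0,2,0,2] else (bif Nat.blt q 1202 then [3,1,3,1,2,2,0,3,0,2,1,3,0,3,1,2,0,2,0,3,0,3,0,2,0] else [1,3,1,2,1,2,1,3,1,3,0,2,1,2,0,3])) else (bif Nat.blt q 1204 then [2,1,3,0,3,1,2,0,2,0,3,0,3,0,2,0] else (bif Nat.blt q 1205 then [1,3,1,2,1,2,1,3,1,3,0,2,1,2,0,3] else [2,1,3,0,3,1,2,0,2,0,3,0,3,0,2,0])))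

/-- Part of the tree. -/
noncomputable def awT_t208 (q : ℕ) : List ℕ :=
  bif Nat.blt q 1195 then (awT_t206 q) else (awT_t207 q)

/-- Part of the tree. -/
noncomputable def awT_t209 (q : ℕ) : List ℕ :=
  bif Nat.blt q 1211 then (bif Nat.blt q 1208 then (bif Nat.blt q 1207 then [1,3,0,3,3,3,1,2,2,0,2,1,3,3,0,2,2,2,0,2,2,1,3,3,1,3,3,0,3,3] else [2,2,1,2,2,0,2,2,0,3,3,1,3,3,3,1,2,2,0,3,1,3,3,0,2,2,2,1,2,0]) else (bif Nat.blt q 1209 then [1,3,1,2,1,2,1,3,1,3,0,2,1,2,0,3] else (bif Nat.blt q 1210 then [2,1,3,0,3,1,2,0,2,0,3,0,3,0,2,0] else [1,3,0,3,1,2,1,3,3,0,3,3,3,1,2,2,0,3,3,0,3,3,1,3,1,2,2,0,3,0]))) else (bif Nat.blt q 1214 then (bif Nat.blt q 1212 then [1,2,1,3,3,0,2,0,2,2,1,2,2,1,3,3,0,2,2,2,1,2,2,0,3,0,2,1,2,0] else (bif Nat.blt q 1213 then [1,3,1,2,1,2,1,3,1,3,0,2,1,2,0,0,2,1,2,2,1,2,1,3,0,3,0,2,1,3,3,0,3,3,1,3,1,2,2,0,3,0] else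 [1,2,1,3,3,0,2,0,2,2,1,2,2,0,3,1,2,1,2,0,3,0,3,3,0,3,1,1,3,0,3,1,2,0,2,0,3,0,3,0,2,0])) else (bif Nat.blt q 1215 then [1,3,1,2,1,2,1,3,1,3,0,2,2,2,1,3,3,3,0,3,3,1,2,0,3,3,3,1,3,3,0,2,2,1,3,3,0,3,3,1,2,0] else (bif Nat.blt q 1216 then [1,3,0,2,2,1,2,2,0,3,3,1,2,2,0,2,2,2,1,3,0,2,2,1,2,2,2,0,3,3,3,1,2,0,2,0,3,0,3,0,2,0] else [1,3,0,3,1,2,1,3,3,0,3,3,3,1,2,2,0,3,3,0,3,3,1,3,1,2,2,0,3,0])))

/-- Part of the tree. -/
noncomputable def awT_t210 (q : ℕ) : List ℕ :=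
  bif Nat.blt q 1223 then (bif Nat.blt q 1220 then (bif Nat.blt q 1218 then [1,2,1,3,3,0,2,0,2,2,1,2,2,1,3,3,0,2,2,2,1,2,2,0,3,0,2,1,2,0] else (bif Nat.blt q 1219 then [1,3,1,2,1,2,1,3,1,3,0,2,1,2,0,3,1,3,0,3,1,2,1,3,3,0,3,3,3,1,2,2,0,2,0,3] else [2,1,3,1,3,3,0,2,2,2,1,2,2,0,3,0,2,1,2,0,2,1,3,0,3,1,2,0,2,0,3,0,3,0,2,0])) else (bif Nat.blt q 1221 then [2,1,3,0,2,2,1,3,3,3,0,3,3,1,2,0,3] else (bif Nat.blt q 1222 then [2,1,3,0,2,2,1,2,2,2,0,3,3,1,2,0,3] else [1,3,1,2,1,2,1,3,1,3,0,2,1,2,2,0,3,3,1,2,2,0,2,1,3,3,0,2,2,1,2,2,1,2,2,1,3,1,2,2,2,1,2,1,3,1,3,1]))) else (bif Nat.blt q 1226 then (bif Nat.blt q 1224 then [0,2,0,2,0,3,0,3,3,3,0,2,0,3,3,0,3,3,0,3,3,1,2,2,0,3,1,3,3,0,2,2,1,3,3,0,3,1,2,0,2,0,3,0,3,0,2,0] else (bif Nat.blt q 1225 then [1,3,1,2,1,2,1,3,1,3,0,2,1,2,0,3,1,3,0,3,3,1,3,0,2,0,2,1,3,0,3,1,3,1,3,1,3,3,3,1,3,1,3,3,3,1,3,1,2,1,2,1,3]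 else [2,0,3,0,3,0,2,0,2,2,2,0,2,0,2,2,2,0,2,0,2,0,2,1,2,0,3,1,3,1,2,0,2,2,1,2,0,2,1,3,0,3,1,2,0,2,0,3,0,3,0,2,0])) else (bif Nat.blt q 1227 then [1,3,1,2,1,2,1,3,1,3,0,2,1,2,0,3,0,3,0,3,0,3,3,1,3,1,2,2,1,3,3,3,1,3,3,0,3,1,3,3,1,3,1,3,1] else (bif Nat.blt q 1228 then [0,2,0,2,0,2,2,0,2,1,2,2,0,2,2,2,0,3,3,0,2,0,2,2,1,2,1,2,1,2,1,3,0,3,1,2,0,2,0,3,0,3,0,2,0] else [1,3,1,2,1,2,1,3,1,3,0,2,2,2,1,3,3,3,0,3,3,1,2,0,3,4,2,4,3,4,3,4,2,4,0,2,4,3,3,3,3,3,1,2,0,3])))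

/-- Part of the tree. -/
noncomputable def awT_t211 (q : ℕ) : List ℕ :=
  bif Nat.blt q 1217 then (awT_t209 q) else (awT_t210 q)

/-- Part of the tree. -/
noncomputable def awT_t212 (q : ℕ) : List ℕ :=
  bif Nat.blt q 1206 then (awT_t208 q) else (awT_t211 q)

/-- Part of the tree. -/
noncomputable def awT_t213 (q : ℕ) : List ℕ :=
  bif Nat.blt q 1234 then (bif Nat.blt q 1231 then (bif Nat.blt q 1230 then [2,1,3,0,2,2,2,2,2,5,3,1,5,3,5,2,5,2,5,3,5,2,1,3,0,2,2,1,2,2,2,0,3,3,3,1,2,0,2,0,3,0,3,0,2,0] else [1,3,1,2,1,2,1,3,1,3,0,2,1,2,0,3,0,3,0,3,0,3,3,1,3,1,2,2,1,3,1,2,2,1,2,2,0,2,0,3,1,3,0,3,3,3,1,3,0,2,2]) else (bif Nat.blt q 1232 then [3,3,1,2,0,2,2,2,1,2,0,2,1,3,1,3,3,0,3,3,0,2,0,3,3,0,2,0,2,2,1,2,1,2,1,2,1,3,0,3,1,2,0,2,0,3,0,3,0,2,0] else (bif Nat.blt q 1233 then [1,3,1,2,1,2,1,3,1,3,0,2,1,2,0,0,2,1,2,2,1,2,1,3,0,3,0,2,1,2,0,3]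 else [2,1,3,0,3,1,2,1,2,0,3,0,3,3,0,3,1,1,3,0,3,1,2,0,2,0,3,0,3,0,2,0]))) else (bif Nat.blt q 1237 then (bif Nat.blt q 1235 then [1,3,1,2,1,2,1,3,1,3,0,2,1,2,0,3,3,1,2,1,3,3,1,3,3,1,3,1,2,1,2,0,2,2,0,3,3,1,3,3,1,2,0,3,3,0,2,2,2] else (bif Nat.blt q 1236 then [3,3,3,1,2,2,1,3,0,2,2,0,2,2,1,3,3,1,3,0,3,0,2,0,2,2,0,2,2,0,3,0,2,2,1,3,0,3,1,2,0,2,0,3,0,3,0,2,0] else [1,3,1,2,1,2,1,3,1,3,0,2,1,2,0,3,1,3,1,2,2,0,2,1,2,2,0,2,0,3,1,3,0,3,3,3,1,3,0,2,2])) else (bif Nat.blt q 1238 then [3,3,1,2,0,2,2,2,1,2,0,2,1,3,1,3,3,0,3,1,3,3,0,2,0,2,1,3,0,3,1,2,0,2,0,3,0,3,0,2,0] else (bif Nat.blt q 1239 then [1,3,1,2,1,2,1,3,1,3,0,2,2,2,1,3,3,3,0,3,3,1,3,3,0,3,3,1,3,1,2,2,0,3,0] else [1,2,1,3,3,0,2,0,2,2,1,2,2,0,2,2,1,2,2,2,0,3,3,3,1,2,0,2,0,3,0,3,0,2,0])))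

/-- Part of the tree. -/
noncomputable def awT_t214 (q : ℕ) : List ℕ :=
  bif Nat.blt q 1246 then (bif Nat.blt q 1243 then (bif Nat.blt q 1241 then [1,3,1,3,0,3,3,3,3,0,3,3,1,3,1,2,2,0,3,0] else (bif Nat.blt q 1242 then [1,2,1,3,3,0,2,0,2,2,1,2,2,2,2,1,2,0,2,0] else [1,3,1,3,0,3,3,3,3,0,3,3,1,3,1,2,2,0,3,0])) else (bif Nat.blt q 1244 then [1,2,1,3,3,0,2,0,2,2,1,2,2,2,2,1,2,0,2,0] else (bif Nat.blt q 1245 then [1,3,1,2,1,2,1,3,1,3,0,2,1,2,0,3,3,1,3,1,2,2,0,3,0] else [1,2,1,3,3,0,2,0,2,2,1,3,0,3,1,2,0,2,0,3,0,3,0,2,0]))) else (bif Nat.blt q 1249 then (bif Nat.blt q 1247 then [1,3,1,2,1,2,1,3,1,3,0,2,1,2,0,3] else (bif Nat.blt q 1248 then [2,1,3,0,3,1,2,0,2,0,3,0,3,0,2,0] else [1,3,0,3,3,3,1,2,2,0,2,1,3,3,0,2])) else (bif Nat.blt q 1250 then [3,1,2,2,0,3,1,3,3,0,2,2,2,1,2,0] else (bif Nat.blt q 1251 then [1,2,1,3,3,1,3,1,3,3,1,2,2,1,2,0,2,0]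 else [1,3,1,3,0,3,3,0,2,2,0,2,0,2,2,0,3,0])))

/-- Part of the tree. -/
noncomputable def awT_t215 (q : ℕ) : List ℕ :=
  bif Nat.blt q 1240 then (awT_t213 q) else (awT_t214 q)

/-- Part of the tree. -/
noncomputable def awT_t216 (q : ℕ) : List ℕ :=
  bif Nat.blt q 1257 then (bif Nat.blt q 1254 then (bif Nat.blt q 1253 then [1,3,1,2,1,2,1,3,1,3,0,2,1,2,0,3,1,2,1,2,0,3,3,0,2] else [3,1,2,2,1,3,0,3,0,2,1,3,0,3,1,2,0,2,0,3,0,3,0,2,0]) else (bif Nat.blt q 1255 then [1,3,1,2,2,0,3,0,3] else (bif Nat.blt q 1256 then [2,1,2,1,3,3,0,2,0] else [1,3,1,2,1,2,1,3,1,3,0,2,1,2,0,3]))) else (bif Nat.blt q 1260 then (bif Nat.blt q 1258 then [2,1,3,0,3,1,2,0,2,0,3,0,3,0,2,0] else (bif Nat.blt q 1259 then [1,3,1,2,1,2,1,3,1,3,0,2,1,2,0,3] else [2,1,3,0,3,1,2,0,2,0,3,0,3,0,2,0])) else (bif Nat.blt q 1261 then [1,3,1,2,1,2,1,3,1,3,0,2,1,2,0,0,2,1,2,2,1,2,1,3,0,3,0,2,1,2,0,3]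 else (bif Nat.blt q 1262 then [2,1,3,0,3,1,2,1,2,0,3,0,3,3,0,3,1,1,3,0,3,1,2,0,2,0,3,0,3,0,2,0] else [1,3,1,2,1,2,1,3,1,3,0,2,1,2,0,3])))

/-- Part of the tree. -/
noncomputable def awT_t217 (q : ℕ) : List ℕ :=
  bif Nat.blt q 1269 then (bif Nat.blt q 1266 then (bif Nat.blt q 1264 then [2,1,3,0,3,1,2,0,2,0,3,0,3,0,2,0] else (bif Nat.blt q 1265 then [1,3,1,2,1,2,1,3,1,3,0,2,1,2,0,3] else [2,1,3,0,3,1,2,0,2,0,3,0,3,0,2,0])) else (bif Nat.blt q 1267 then [1,3,1,3,0,3,0,3] else (bif Nat.blt q 1268 then [2,1,2,1,2,0,2,0] else [1,3,1,2,1,2,1,3,1,3,0,2,1,2,0,3,1,3,1,3,0,3,3,3,3,0,3,3,1,3,1,2,2,0,3,0]))) else (bif Nat.blt q 1272 then (bif Nat.blt q 1270 then [1,2,1,3,3,0,2,0,2,2,1,2,2,2,2,1,2,0,2,0,2,1,3,0,3,1,2,0,2,0,3,0,3,0,2,0] else (bif Nat.blt q 1271 then [1,3,1,2,1,2,1,3,1,3,0,2,1,2,0,3,1,3,1,3,0,3,3,3,3,0,3,3,1,3,1,2,2,0,3,0] else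 [1,2,1,3,3,0,2,0,2,2,1,2,2,2,2,1,2,0,2,0,2,1,3,0,3,1,2,0,2,0,3,0,3,0,2,0])) else (bif Nat.blt q 1273 then [1,3,1,2,1,2,1,3,1,3,0,2,1,2,0,3] else (bif Nat.blt q 1274 then [2,1,3,0,3,1,2,0,2,0,3,0,3,0,2,0] else [1,3,1,2,1,2,1,3,1,3,0,2,1,2,0,3,1,2,1,3,3,1,3,1,3,3,1,3,3,1,2,0,3,3,0,3,1,2,0,2,2])))

/-- Part of the tree. -/
noncomputable def awT_t218 (q : ℕ) : List ℕ :=
  bif Nat.blt q 1263 then (awT_t216 q) else (awT_t217 q)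

/-- Part of the tree. -/
noncomputable def awT_t219 (q : ℕ) : List ℕ :=
  bif Nat.blt q 1252 then (awT_t215 q) else (awT_t218 q)

/-- Part of the tree. -/
noncomputable def awT_t220 (q : ℕ) : List ℕ :=
  bif Nat.blt q 1229 then (awT_t212 q) else (awT_t219 q)

/-- Part of the tree. -/
noncomputable def awT_t221 (q : ℕ) : List ℕ :=
  bif Nat.blt q 1184 then (awT_t205 q) else (awT_t220 q)

/-- Part of the tree. -/
noncomputable def awT_t222 (q : ℕ) : List ℕ :=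
  bif Nat.blt q 1280 then (bif Nat.blt q 1277 then (bif Nat.blt q 1276 then [3,3,1,3,0,2,1,2,2,1,3,0,2,2,0,2,2,0,2,0,2,2,0,3,0,2,1,3,0,3,1,2,0,2,0,3,0,3,0,2,0] else [1,3,1,3,0,3,3,3,3,0,3,3,1,3,1,2,2,0,3,0]) else (bif Nat.blt q 1278 then [1,2,1,3,3,0,2,0,2,2,1,2,2,2,2,1,2,0,2,0] else (bif Nat.blt q 1279 then [1,3,1,2,1,2,1,3,1,3,0,2,1,2,0,3] else [2,1,3,0,3,1,2,0,2,0,3,0,3,0,2,0]))) else (bif Nat.blt q 1283 then (bif Nat.blt q 1281 then [1,3,0,3,1,2,1,3,3,0,3,3,3,1,2,2,0,2,0,3,3,3,1,3,3,0,2,2,1,3,3,0,3,3,1,2,0] else (bif Nat.blt q 1282 then [1,3,0,2,2,1,2,2,0,3,3,1,2,2,0,2,2,2,1,3,1,3,3,0,2,2,2,1,2,2,0,3,0,2,1,2,0] else [1,3,1,3,0,3,3,3,3,0,3,3,1,3,1,2,2,0,3,0])) else (bif Nat.blt q 1284 then [1,2,1,3,3,0,2,0,2,2,1,2,2,2,2,1,2,0,2,0] else (bif Nat.blt q 1285 then [1,3,1,2,1,2,1,3,1,3,0,2,1,2,0,3] else [2,1,3,0,3,1,2,0,2,0,3,0,3,0,2,0])))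

/-- Part of the tree. -/
noncomputable def awT_t223 (q : ℕ) : List ℕ :=
  bif Nat.blt q 1291 then (bif Nat.blt q 1288 then (bif Nat.blt q 1287 then [2,1,2,2,0,3,1,2,1,2,0,3,3,3,1,3,3,0,3,0,3,0,3,1,2,0,2,2,1,2,1,2,0,2] else [3,1,3,0,3,0,3,3,1,3,0,2,1,2,1,2,1,2,2,0,2,2,2,1,3,0,3,0,2,1,3,3,0,3]) else (bif Nat.blt q 1289 then [1,3,0,3,1,2,1,3,3,0,3,3,3,1,2,2,0,2,0,3,1,2,1,3,3,0,2,0,2] else (bif Nat.blt q 1290 then [3,1,3,1,2,2,0,3,0,2,1,3,1,3,3,0,2,2,2,1,2,2,0,3,0,2,1,2,0] else [1,3,1,3,0,3,0,3]))) else (bif Nat.blt q 1294 then (bif Nat.blt q 1292 then [2,1,2,1,2,0,2,0] else (bif Nat.blt q 1293 then [1,3,1,2,1,2,1,3,1,3,0,2,1,2,0,3,1,3,1,3,3,3,0,2,0,3,3,0,2,1,2,1,3,3,3,1,2,0,3,0,2,2] else [3,3,1,2,1,3,0,2,2,2,0,3,0,3,1,2,2,1,3,1,2,2,2,0,2,0,2,1,3,0,3,1,2,0,2,0,3,0,3,0,2,0])) else (bif Nat.blt q 1295 then [2,1,3,0,2,2,2,1,2,0,3] else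 (bif Nat.blt q 1296 then [2,1,3,0,3,3,3,1,2,0,3] else [1,3,1,2,1,2,1,3,1,3,0,2,1,2,0,3,0,3,0,3,0,3,3,1,3,1,2,2,1,3,3,3,1,3,3,0,3,1,3,3,1,3,1,3,1])))

/-- Part of the tree. -/
noncomputable def awT_t224 (q : ℕ) : List ℕ :=
  bif Nat.blt q 1286 then (awT_t222 q) else (awT_t223 q)

/-- Part of the tree. -/
noncomputable def awT_t225 (q : ℕ) : List ℕ :=
  bif Nat.blt q 1302 then (bif Nat.blt q 1299 then (bif Nat.blt q 1298 then [0,2,0,2,0,2,2,0,2,1,2,2,0,2,2,2,0,3,3,0,2,0,2,2,1,2,1,2,1,2,1,3,0,3,1,2,0,2,0,3,0,3,0,2,0] else [1,3,0,3,1,2,1,3,3,0,3,3,3,1,2,2,0,2,0,3]) else (bif Nat.blt q 1300 then [2,1,3,1,3,3,0,2,2,2,1,2,2,0,3,0,2,1,2,0] else (bif Nat.blt q 1301 then [1,3,1,2,1,2,1,3,1,3,0,2,1,2,0,3] else [2,1,3,0,3,1,2,0,2,0,3,0,3,0,2,0]))) else (bif Nat.blt q 1305 then (bif Nat.blt q 1303 then [1,3,1,2,1,2,1,3,1,3,0,2,1,2,0,3] else (bif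 Nat.blt q 1304 then [2,1,3,0,3,1,2,0,2,0,3,0,3,0,2,0] else [1,3,1,2,1,2,1,3,1,3,0,2,1,2,2,0,3,3,1,2,2,0,2,1,3,3,0,2,2,1,2,2,1,2,2,1,3,1,2,2,2,1,2,1,3,1,3,1])) else (bif Nat.blt q 1306 then [0,2,0,2,0,3,0,3,3,3,0,2,0,3,3,0,3,3,0,3,3,1,2,2,0,3,1,3,3,0,2,2,1,3,3,0,3,1,2,0,2,0,3,0,3,0,2,0] else (bif Nat.blt q 1307 then [3,1,2,1,3,3,1,3,3,1,3,1,2,1,2,0,2,2,0,3,3,0,3,1,2,0,2,2,1,2,1,2,0,3,3,1,3,0,3,3] else [2,2,1,2,0,2,2,1,3,0,3,0,3,3,1,3,0,2,1,2,2,1,3,3,1,3,0,3,0,2,0,2,2,0,2,2,0,3,0,2])))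

/-- Part of the tree. -/
noncomputable def awT_t226 (q : ℕ) : List ℕ :=
  bif Nat.blt q 1314 then (bif Nat.blt q 1311 then (bif Nat.blt q 1309 then [1,2,1,3,3,0,3,3,3,1,2,2,0,3,0,3,1,2,1,3,3,1,2,1,3] else (bif Nat.blt q 1310 then [2,0,3,0,2,2,0,3,0,2,1,2,1,3,3,0,2,2,2,1,2,2,0,3,0] else [1,3,1,3,0,3,0,3])) else (bif Nat.blt q 1312 then [2,1,2,1,2,0,2,0] else (bif Nat.blt q 1313 then [1,3,1,2,1,2,1,3,1,3,0,2,1,2,0,0,2,1,2,2,1,2,1,3,0,3,0,2,1,2,0,3,1,2,0,2,2,1,2,2,1,2,2,0,2,2,0] else [1,3,3,1,3,3,0,3,3,0,3,3,1,3,0,2,1,3,0,3,1,2,1,2,0,3,0,3,3,0,3,1,1,3,0,3,1,2,0,2,0,3,0,3,0,2,0]))) else (bif Nat.blt q 1317 then (bif Nat.blt q 1315 then [1,3,1,2,1,2,1,3,1,3,0,2,1,2,0,3,1,3,1,3,3,3,0,2,0,3,1,3,3,1,2,0,3,3,0,2,2,1,2,0] else (bif Nat.blt q 1316 then [1,3,0,3,3,1,2,2,1,3,0,2,2,0,2,1,3,1,2,2,2,0,2,0,2,1,3,0,3,1,2,0,2,0,3,0,3,0,2,0] else [2,1,3,0,2,2,2,1,2,0,3]))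 else (bif Nat.blt q 1318 then [2,1,3,0,3,3,3,1,2,0,3] else (bif Nat.blt q 1319 then [1,3,1,2,1,2,1,3,1,3,0,2,2,2,1,3,3,3,0,3,3,1,3,3,0,3] else [2,1,2,2,0,2,2,1,2,2,2,0,3,3,3,1,2,0,2,0,3,0,3,0,2,0])))

/-- Part of the tree. -/
noncomputable def awT_t227 (q : ℕ) : List ℕ :=
  bif Nat.blt q 1308 then (awT_t225 q) else (awT_t226 q)

/-- Part of the tree. -/
noncomputable def awT_t228 (q : ℕ) : List ℕ :=
  bif Nat.blt q 1297 then (awT_t224 q) else (awT_t227 q)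

/-- Part of the tree. -/
noncomputable def awT_t229 (q : ℕ) : List ℕ :=
  bif Nat.blt q 1325 then (bif Nat.blt q 1322 then (bif Nat.blt q 1321 then [1,3,1,2,1,2,1,3,1,3,0,2,1,3,3,0,3,3,1,3,1,2,2,0,3,0] else [1,2,1,3,3,0,2,0,2,2,1,2,2,0,3,1,2,0,2,0,3,0,3,0,2,0]) else (bif Nat.blt q 1323 then [1,3,1,2,1,2,1,3,1,3,0,2,1,2,0,3] else (bif Nat.blt q 1324 then [2,1,3,0,3,1,2,0,2,0,3,0,3,0,2,0] else [2,2,1,2,2,1,2,2,0,2,0,2,2,2,1,3,0,3,3,3,0,3,1,2,0,2,2,1,2,1,2,0,2,1,2,0]))) else (bif Nat.blt q 1328 then (bif Nat.blt q 1326 then [1,3,0,3,1,3,0,3,0,3,3,1,3,0,2,1,2,2,2,1,2,0,3,3,3,1,3,1,3,3,0,3,3,0,3,3] else (bif Nat.blt q 1327 then [1,3,1,2,1,2,1,3,1,3,0,2,2,2,1,3,3,3,0,3,3,1,3,3,0,3,3,1,3,1,2,2,0,3,0] else [1,2,1,3,3,0,2,0,2,2,1,2,2,0,2,2,1,2,2,2,0,3,3,3,1,2,0,2,0,3,0,3,0,2,0])) else (bif Nat.blt q 1329 then [1,3,1,2,1,2,1,3,1,3,0,2,2,2,1,3,3,3,0,3,3,1,3,3,0,3,3,1,3,1,2,2,0,3,0]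 else (bif Nat.blt q 1330 then [1,2,1,3,3,0,2,0,2,2,1,2,2,0,2,2,1,2,2,2,0,3,3,3,1,2,0,2,0,3,0,3,0,2,0] else [2,1,3,0,2,2,1,3,3,3,0,3,3,1,2,0,3])))

/-- Part of the tree. -/
noncomputable def awT_t230 (q : ℕ) : List ℕ :=
  bif Nat.blt q 1337 then (bif Nat.blt q 1334 then (bif Nat.blt q 1332 then [2,1,3,0,2,2,1,2,2,2,0,3,3,1,2,0,3] else (bif Nat.blt q 1333 then [1,3,0,3,1,2,1,3,3,0,3,3,3,1,2,2,0,2,0,3] else [2,1,3,1,3,3,0,2,2,2,1,2,2,0,3,0,2,1,2,0])) else (bif Nat.blt q 1335 then [1,3,1,2,1,2,1,3,1,3,0,2,1,2,0,3] else (bif Nat.blt q 1336 then [2,1,3,0,3,1,2,0,2,0,3,0,3,0,2,0] else [1,2,1,3,3,1,3,1,3,3,1,2,0,3,3,1,3,1,3,3,3,1,3,1,3,1,2,0]))) else (bif Nat.blt q 1340 then (bif Nat.blt q 1338 then [1,3,0,2,0,2,0,2,2,2,0,2,0,2,2,1,3,0,2,2,0,2,0,2,2,0,3,0] else (bif Nat.blt q 1339 then [1,3,1,3,0,3,0,3] else [2,1,2,1,2,0,2,0])) else (bif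 Nat.blt q 1341 then [1,3,1,3,0,3,0,3] else (bif Nat.blt q 1342 then [2,1,2,1,2,0,2,0] else [1,3,1,2,1,2,1,3,1,3,0,2,1,2,0,3,1,3,1,3,3,3,0,2,0,3,1,3,3,1,2,0,3,3,0,2,2,1,2,0])))

/-- Part of the tree. -/
noncomputable def awT_t231 (q : ℕ) : List ℕ :=
  bif Nat.blt q 1331 then (awT_t229 q) else (awT_t230 q)

/-- Part of the tree. -/
noncomputable def awT_t232 (q : ℕ) : List ℕ :=
  bif Nat.blt q 1348 then (bif Nat.blt q 1345 then (bif Nat.blt q 1344 then [1,3,0,3,3,1,2,2,1,3,0,2,2,0,2,1,3,1,2,2,2,0,2,0,2,1,3,0,3,1,2,0,2,0,3,0,3,0,2,0] else [1,2,1,2,0,3,3,3,1,2,0,2,2,0]) else (bif Nat.blt q 1346 then [1,3,3,1,3,0,2,2,2,1,3,0,3,0] else (bif Nat.blt q 1347 then [1,3,1,2,1,2,1,3,1,3,0,2,1,2,0,3,1,3,1,3,3,3,0,2,0,3,1,3,3,1,2,0,3,3,0,2,2,1,4,2,1,4] else [5,0,3,5,0,3,3,1,2,2,1,3,0,2,2,0,2,1,3,1,2,2,2,0,2,0,2,1,3,0,3,1,2,0,2,0,3,0,3,0,2,0])))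 else (bif Nat.blt q 1351 then (bif Nat.blt q 1349 then [1,3,1,2,1,2,1,3,1,3,0,2,1,2,0,3] else (bif Nat.blt q 1350 then [2,1,3,0,3,1,2,0,2,0,3,0,3,0,2,0] else [1,3,1,2,1,2,1,3,1,3,0,2,1,2,0,3])) else (bif Nat.blt q 1352 then [2,1,3,0,3,1,2,0,2,0,3,0,3,0,2,0] else (bif Nat.blt q 1353 then [0,3,0,3,0,3,3,1,3,1,2,2,1,3,3,4,2,2,4,2,2,4,2,2,4,2,2] else [3,3,5,3,3,5,3,3,5,3,3,5,2,2,0,3,3,0,2,0,2,2,1,2,1,2,1])))

/-- Part of the tree. -/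
noncomputable def awT_t233 (q : ℕ) : List ℕ :=
  bif Nat.blt q 1360 then (bif Nat.blt q 1357 then (bif Nat.blt q 1355 then [1,3,1,2,1,2,1,3,1,3,0,2,1,2,2,1,3,3,3,0,3,0,2,0,2,2,1,3,3,1,3,3,0,3,3] else (bif Nat.blt q 1356 then [2,2,1,2,2,0,2,2,0,3,3,1,3,1,2,1,2,2,2,0,3,3,0,3,1,2,0,2,0,3,0,3,0,2,0] else [2,1,2,2,0,3,1,2,1,2,0,3,3,3,1,3,3,0,3,0,3,0,3,1,2,0,2,2,1,2,1,2,0,2])) else (bif Nat.blt q 1358 then [3,1,3,0,3,0,3,3,1,3,0,2,1,2,1,2,1,2,2,0,2,2,2,1,3,0,3,0,2,1,3,3,0,3] else (bif Nat.blt q 1359 then [2,1,3,0,2,2,1,3,3,3,0,3,3,1,2,0,3] else [2,1,3,0,2,2,1,2,2,2,0,3,3,1,2,0,3]))) else (bif Nat.blt q 1363 then (bif Nat.blt q 1361 then [1,2,1,3,3,1,3,1,3,3,1,2,0,3,3,1,3,1,2,0,2,2,0] else (bif Nat.blt q 1362 then [1,3,3,1,3,0,2,0,2,2,1,3,0,2,2,0,2,0,2,2,0,3,0] else [2,1,3,0,2,2,1,3,3,3,0,3,3,1,2,0,3])) else (bif Nat.blt q 1364 then [2,1,3,0,2,2,1,2,2,2,0,3,3,1,2,0,3]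 else (bif Nat.blt q 1365 then [0,3,0,3,0,3,3,1,3,1,2,2,1,3,3,4,2,2,4,2,2,4,2,2,4,2,2] else [3,3,5,3,3,5,3,3,5,3,3,5,2,2,0,3,3,0,2,0,2,2,1,2,1,2,1])))

/-- Part of the tree. -/
noncomputable def awT_t234 (q : ℕ) : List ℕ :=
  bif Nat.blt q 1354 then (awT_t232 q) else (awT_t233 q)

/-- Part of the tree. -/
noncomputable def awT_t235 (q : ℕ) : List ℕ :=
  bif Nat.blt q 1343 then (awT_t231 q) else (awT_t234 q)

/-- Part of the tree. -/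
noncomputable def awT_t236 (q : ℕ) : List ℕ :=
  bif Nat.blt q 1320 then (awT_t228 q) else (awT_t235 q)

/-- Part of the tree. -/
noncomputable def awT_t237 (q : ℕ) : List ℕ :=
  bif Nat.blt q 1371 then (bif Nat.blt q 1368 then (bif Nat.blt q 1367 then [2,1,2,2,0,3,1,2,1,2,0,3,3,3,1,3,3,0,3,0,3,0,3,1,2,0,2,2,1,2,1,2,0,2] else [3,1,3,0,3,0,3,3,1,3,0,2,1,2,1,2,1,2,2,0,2,2,2,1,3,0,3,0,2,1,3,3,0,3]) else (bif Nat.blt q 1369 then [2,1,2,2,0,3,1,2,1,2,0,3,3,3,1,3,3,0,3,0,3,0,3,1,2,0,2,2,1,2,1,2,0,2] else (bif Nat.blt q 1370 then [3,1,3,0,3,0,3,3,1,3,0,2,1,2,1,2,1,2,2,0,2,2,2,1,3,0,3,0,2,1,3,3,0,3] else [2,1,2,2,0,3,1,2,1,2,0,3,3,3,1,3,3,0,3,0,3,0,3,1,2,0,2,2,1,2,1,2,0,2]))) else (bif Nat.blt q 1374 then (bif Nat.blt q 1372 then [3,1,3,0,3,0,3,3,1,3,0,2,1,2,1,2,1,2,2,0,2,2,2,1,3,0,3,0,2,1,3,3,0,3] else (bif Nat.blt q 1373 then [2,1,3,3,3,0,3]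 else [2,1,2,2,2,0,3])) else (bif Nat.blt q 1375 then [2,1,3,0,2,2,2,1,2,0,3] else (bif Nat.blt q 1376 then [2,1,3,0,3,3,3,1,2,0,3] else [1,3,1,2,1,2,1,3,1,3,0,2,1,2,2,1,3,3,3,0,3,0,3,4,2,2,4,2,2,4,2,2,4,2,2,2,2,1,2,4,3,3,3,0,3,4,3])))

/-- Part of the tree. -/
noncomputable def awT_t238 (q : ℕ) : List ℕ :=
  bif Nat.blt q 1383 then (bif Nat.blt q 1380 then (bif Nat.blt q 1378 then [2,5,2,1,2,2,2,5,3,0,3,3,3,3,5,3,3,5,3,3,5,3,3,5,2,1,2,1,2,2,2,0,3,3,0,3,1,2,0,2,0,3,0,3,0,2,0] else (bif Nat.blt q 1379 then [1,3,1,2,1,2,1,3,1,3,0,2,1,2,0,3,1,2,0,2,1,3,0,3,0,2,1,2,2,1,2,0,3,1,3,1,3,3,3,1,3,1,3,1,2,0] else [1,3,0,2,0,2,0,2,2,2,0,2,0,2,1,3,0,3,3,0,3,1,2,1,2,0,3,1,3,0,2,1,3,0,3,1,2,0,2,0,3,0,3,0,2,0])) else (bif Nat.blt q 1381 then [1,2,1,3,3,1,3,1,3,3,1,2,0,3,3,1,3,1,3,3,3,1,3,1,3,1,2,0] else (bif Nat.blt q 1382 then [1,3,0,2,0,2,0,2,2,2,0,2,0,2,2,1,3,0,2,2,0,2,0,2,2,0,3,0]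 else [1,3,1,3,0,3,0,3]))) else (bif Nat.blt q 1386 then (bif Nat.blt q 1384 then [2,1,2,1,2,0,2,0] else (bif Nat.blt q 1385 then [0,3,0,3,0,3,3,1,3,1,2,2,1,3,3,4,2,2,4,2,2,4,2,2,4,2,2] else [3,3,5,3,3,5,3,3,5,3,3,5,2,2,0,3,3,0,2,0,2,2,1,2,1,2,1])) else (bif Nat.blt q 1387 then [2,1,2,2,0,3,1,2,1,2,0,3,3,3,1,3,3,0,3,0,3,0,3,1,2,0,2,2,1,2,1,2,0,2] else (bif Nat.blt q 1388 then [3,1,3,0,3,0,3,3,1,3,0,2,1,2,1,2,1,2,2,0,2,2,2,1,3,0,3,0,2,1,3,3,0,3] else [2,1,2,2,0,3,1,2,1,2,0,3,3,3,1,3,3,0,3,0,3,0,3,1,2,0,2,2,1,2,1,2,0,2])))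

/-- Part of the tree. -/
noncomputable def awT_t239 (q : ℕ) : List ℕ :=
  bif Nat.blt q 1377 then (awT_t237 q) else (awT_t238 q)

/-- Part of the tree. -/
noncomputable def awT_t240 (q : ℕ) : List ℕ :=
  bif Nat.blt q 1394 then (bif Nat.blt q 1391 then (bif Nat.blt q 1390 then [3,1,3,0,3,0,3,3,1,3,0,2,1,2,1,2,1,2,2,0,2,2,2,1,3,0,3,0,2,1,3,3,0,3] else [2,2,1,2,2,1,2,2,0,2,0,2,2,2,1,3,0,3,3,3,3,3,1,3,3,3,0,2,2,2,2,2,4,2,4,2,2,0]) else (bif Nat.blt q 1392 then [1,3,3,5,3,5,3,3,3,3,3,1,2,2,2,0,2,2,2,2,2,1,2,0,3,3,3,1,3,1,3,3,0,3,3,0,3,3] else (bif Nat.blt q 1393 then [0,2,2,0,2,0,2,2,0,2,2,0,2,0,2,0,2,2,2,1,2,2,0,2,0,3,1,3,0,4,3,3,0,2,4] else [5,3,1,2,2,5,1,2,0,2,1,3,1,3,3,0,3,3,3,1,3,1,3,1,3,3,1,3,3,1,3,1,3,3,1]))) else (bif Nat.blt q 1397 then (bif Nat.blt q 1395 then [1,3,1,2,1,2,1,3,1,3,0,2,1,2,2,1,3,3,3,0,3,0,2,0,2,2,1,3,3,1,3,3,0,3,3]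 else (bif Nat.blt q 1396 then [2,2,1,2,2,0,2,2,0,3,3,1,3,1,2,1,2,2,2,0,3,3,0,3,1,2,0,2,0,3,0,3,0,2,0] else [1,3,1,2,1,2,1,3,1,3,0,2,1,2,2,1,3,3,3,0,3,0,2,0,2,2,1,3,3,1,3,3,0,3,3])) else (bif Nat.blt q 1398 then [2,2,1,2,2,0,2,2,0,3,3,1,3,1,2,1,2,2,2,0,3,3,0,3,1,2,0,2,0,3,0,3,0,2,0] else (bif Nat.blt q 1399 then [1,3,1,2,1,2,1,3,1,3,0,2,1,2,0,3,1,3,0,3,1,2,1,3,3,0,3,3,3,1,2,2,0,2,0,3,3,3,1,3,3,0,2,2,1,3,3,0,3,3,1,2,0] else [1,3,0,2,2,1,2,2,0,3,3,1,2,2,0,2,2,2,1,3,1,3,3,0,2,2,2,1,2,2,0,3,0,2,1,2,0,2,1,3,0,3,1,2,0,2,0,3,0,3,0,2,0])))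

/-- Part of the tree. -/
noncomputable def awT_t241 (q : ℕ) : List ℕ :=
  bif Nat.blt q 1406 then (bif Nat.blt q 1403 then (bif Nat.blt q 1401 then [1,3,1,2,1,2,1,3,1,3,0,2,1,2,0,3,1,2,1,3,3,0,2,0,2] else (bif Nat.blt q 1402 then [3,1,3,1,2,2,0,3,0,2,1,3,0,3,1,2,0,2,0,3,0,3,0,2,0] else [1,3,1,2,1,2,1,3,1,3,0,2,1,2,0,3,1,2,1,3,3,0,2,0,2])) else (bif Nat.blt q 1404 then [3,1,3,1,2,2,0,3,0,2,1,3,0,3,1,2,0,2,0,3,0,3,0,2,0] else (bif Nat.blt q 1405 then [1,3,1,2,1,2,1,3,1,3,0,2,1,2,0,3] else [2,1,3,0,3,1,2,0,2,0,3,0,3,0,2,0]))) else (bif Nat.blt q 1409 then (bif Nat.blt q 1407 then [1,2,0,2,1,3,0,3,0,2,1,2,1,3,0,3] else (bif Nat.blt q 1408 then [2,1,2,0,3,0,3,1,2,1,2,0,3,1,3,0] else [1,3,1,2,1,2,1,3,1,3,0,2,1,2,0,3,1,2,1,2,0,3,3,0,2,4,2,4,3,4,3,4,2,4,0,2,4,3,3])) else (bif Nat.blt q 1410 then [2,2,5,3,1,5,3,5,2,5,2,5,3,5,3,1,2,2,1,3,0,3,0,2,1,3,0,3,1,2,0,2,0,3,0,3,0,2,0]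 else (bif Nat.blt q 1411 then [2,1,2,1,3,3,0,2,0,4,2,4,3,4,3,4,2,4,0,2,4,3,3] else [2,2,5,3,1,5,3,5,2,5,2,5,3,5,1,3,1,2,2,0,3,0,3])))

/-- Part of the tree. -/
noncomputable def awT_t242 (q : ℕ) : List ℕ :=
  bif Nat.blt q 1400 then (awT_t240 q) else (awT_t241 q)

/-- Part of the tree. -/
noncomputable def awT_t243 (q : ℕ) : List ℕ :=
  bif Nat.blt q 1389 then (awT_t239 q) else (awT_t242 q)

/-- Part of the tree. -/
noncomputable def awT_t244 (q : ℕ) : List ℕ :=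
  bif Nat.blt q 1417 then (bif Nat.blt q 1414 then (bif Nat.blt q 1413 then [4,2,4,3,4,3,4,2,4,0,2,4,3,3] else [2,2,5,3,1,5,3,5,2,5,2,5,3,5]) else (bif Nat.blt q 1415 then [1,2,0,2,1,3,0,3,0,2,1,2,1,3,0,3] else (bif Nat.blt q 1416 then [2,1,2,0,3,0,3,1,2,1,2,0,3,1,3,0] else [1,3,1,2,1,2,1,3,1,3,0,2,1,2,0,3]))) else (bif Nat.blt q 1420 then (bif Nat.blt q 1418 then [2,1,3,0,3,1,2,0,2,0,3,0,3,0,2,0] else (bif Nat.blt q 1419 then [1,3,1,2,1,2,1,3,1,3,0,2,1,2,2,0,3,3,1,2,2,0,2,1,3,3,0,2] else [3,1,2,2,0,3,1,3,3,0,2,2,1,3,3,0,3,1,2,0,2,0,3,0,3,0,2,0])) else (bif Nat.blt q 1421 then [0,3,0,3,0,3,3,1,3,1,2,2,1,3,3,3,1,2,1,3,3,1,2,1,3,1,3,3,1,3,1,2,1,4,2,4,2,2,4,2,2,4,3] else (bif Nat.blt q 1422 then [2,5,3,3,5,3,3,5,3,5,0,3,0,2,0,2,2,0,2,0,3,0,2,2,0,3,0,2,2,2,0,3,3,0,2,0,2,2,1,2,1,2,1] else [1,3,1,2,1,2,1,3,1,3,0,2,1,2,0,3,1,2,1,2,2,0,2,2,2,1,3,0,3,0,2,1,3,3,0,3,3,1,2,1,3,3,1,2,1,3,3,3,3,0,3,0,3,3,0,3,0,4,3,1,4,3,3,1])))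

/-- Part of the tree. -/
noncomputable def awT_t245 (q : ℕ) : List ℕ :=
  bif Nat.blt q 1429 then (bif Nat.blt q 1426 then (bif Nat.blt q 1424 then [0,2,2,5,0,2,5,1,2,1,2,2,1,2,1,2,2,2,2,0,3,0,2,2,0,3,0,2,2,1,2,2,0,3,1,2,1,2,0,3,3,3,1,3,3,0,3,0,2,1,3,0,3,1,2,0,2,0,3,0,3,0,2,0] else (bif Nat.blt q 1425 then [1,3,1,2,1,2,1,3,1,3,0,2,1,2,2,2,1,2,2,0,2,0,3,1,3,0,3,3,1,3,1,2,1,2,1,3,1,4,3,4,3,3,0] else [1,2,2,5,2,5,0,2,0,3,0,3,0,2,0,2,2,1,2,0,2,1,3,1,3,3,0,3,3,3,0,3,1,2,0,2,0,3,0,3,0,2,0])) else (bif Nat.blt q 1427 then [1,2,1,3,3,1,3,1,3,3,1,2,2,1,2,0,2,0,3,0,3,1,3,3,3,0,3,3,1,3,1,3,1,2,1,2,1,3,1,4,3,3,4,3,0,2] else (bif Nat.blt q 1428 then [3,1,2,5,2,2,5,0,2,0,3,0,3,0,2,0,2,0,2,2,1,2,2,2,0,2,1,2,1,3,1,3,0,3,3,0,2,2,0,2,0,2,2,0,3,0] else [1,2,1,2,0,3,3,0,2,1,2,1,3,3,0,2,0,3,1,3,1,2,1,2,1,3,1,4,3,3,1,3,4,2]))) else (bif Nat.blt q 1432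 then (bif Nat.blt q 1430 then [3,5,2,0,2,2,5,0,2,0,3,0,3,0,2,0,2,1,3,1,2,2,0,3,0,3,1,2,2,1,3,0,3,0] else (bif Nat.blt q 1431 then [1,2,1,2,0,3,3,0,2,4,2,4,3,4,3,4,2,4,0,2,4,3,3] else [2,2,5,3,1,5,3,5,2,5,2,5,3,5,3,1,2,2,1,3,0,3,0])) else (bif Nat.blt q 1433 then [3,0,3,1,3,0,3,1] else (bif Nat.blt q 1434 then [0,2,1,2,0,2,1,2] else [3,0,3,1,3,3,0,2,1])))

/-- Part of the tree. -/
noncomputable def awT_t246 (q : ℕ) : List ℕ :=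
  bif Nat.blt q 1423 then (awT_t244 q) else (awT_t245 q)

/-- Part of the tree. -/
noncomputable def awT_t247 (q : ℕ) : List ℕ :=
  bif Nat.blt q 1440 then (bif Nat.blt q 1437 then (bif Nat.blt q 1436 then [0,3,1,2,2,0,2,1,2] else [1,2,1,2,0,2,0,2]) else (bif Nat.blt q 1438 then [3,1,3,1,3,0,3,0] else (bif Nat.blt q 1439 then [1,2,0,2,1,3,0,3,0,2,1,2,2,1,2,0,3,1,3,3,0,3] else [2,1,2,2,0,2,1,3,0,3,3,0,3,1,2,1,2,0,3,1,3,0]))) else (bif Nat.blt q 1443 then (bif Nat.blt q 1441 then [1,2,1,3,3,0,3,3,3,1,2,2,0,3,0] else (bif Nat.blt q 1442 then [1,2,1,3,3,0,2,2,2,1,2,2,0,3,0] else [1,2,1,2,2,0,2,2,2,1,3,0,3,0,2,2])) else (bif Nat.blt q 1444 then [3,3,1,2,1,2,0,3,3,3,1,3,3,0,3,0] else (bif Nat.blt q 1445 then [1,2,0,2,1,3,0,3,0,2,1,2,2,1,2,0] else [1,3,0,3,3,0,3,1,2,1,2,0,3,1,3,0])))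

/-- Part of the tree. -/
noncomputable def awT_t248 (q : ℕ) : List ℕ :=
  bif Nat.blt q 1452 then (bif Nat.blt q 1449 then (bif Nat.blt q 1447 then [3] else (bif Nat.blt q 1448 then [2] else [3,3])) else (bif Nat.blt q 1450 then [2,2] else (bif Nat.blt q 1451 then [1,3,0] else [1,2,0]))) else (bif Nat.blt q 1455 then (bif Nat.blt q 1453 then [3,1,3,3,0,3] else (bif Nat.blt q 1454 then [2,1,2,2,0,2] else [1,3,1,2,1,2,1,3,1,3,0,2,1,2,0,3])) else (bif Nat.blt q 1456 then [2,1,3,0,3,1,2,0,2,0,3,0,3,0,2,0] else (bif Nat.blt q 1457 then [2,1,2,1,3,3,3,0,3,0,3] else [2,1,2,1,2,2,2,0,3,0,3])))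

/-- Part of the tree. -/
noncomputable def awT_t249 (q : ℕ) : List ℕ :=
  bif Nat.blt q 1446 then (awT_t247 q) else (awT_t248 q)

/-- Part of the tree. -/
noncomputable def awT_t250 (q : ℕ) : List ℕ :=
  bif Nat.blt q 1435 then (awT_t246 q) else (awT_t249 q)

/-- Part of the tree. -/
noncomputable def awT_t251 (q : ℕ) : List ℕ :=
  bif Nat.blt q 1412 then (awT_t243 q) else (awT_t250 q)

/-- Part of the tree. -/
noncomputable def awT_t252 (q : ℕ) : List ℕ :=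
  bif Nat.blt q 1366 then (awT_t236 q) else (awT_t251 q)

/-- Part of the tree. -/
noncomputable def awT_t253 (q : ℕ) : List ℕ :=
  bif Nat.blt q 1275 then (awT_t221 q) else (awT_t252 q)

/-- Part of the tree. -/
noncomputable def awT_t254 (q : ℕ) : List ℕ :=
  bif Nat.blt q 1093 then (awT_t190 q) else (awT_t253 q)

/-- Part of the tree. -/
noncomputable def awT_t255 (q : ℕ) : List ℕ :=
  bif Nat.blt q 729 then (awT_t127 q) else (awT_t254 q)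

/-- Lookup. -/
noncomputable def awT (q : ℕ) : List ℕ :=
  bif Nat.blt q 1458 then (awT_t255 q) else []

end Cfsg.Agent.HNPres
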