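/-
The check of one atom.
-/
import Cfsg.Agent.Lib.HNPres.Atoms
import Cfsg.Agent.Lib.HNPres.Perm1408

set_option autoImplicit false
set_option maxRecDepth 100000

namespace Cfsg.Agent.HNPres

open Cfsg.Agent.CosetEnum

/-- The partner of an atom: its inverse. -/
def flipA (a : ℕ) : ℕ := if a % 2 = 0 then a + 1 else a - 1

/-- One atom: vector, letters and partner. -/
noncomputable def atomOK (a : ℕ) : Bool :=
  (List.all (awT a) fun l => Nat.blt l 10) && (Nat.beq (vecT a) (d1408.trace (awT a)) &&
    decide (awT (flipA a) = Data.winv (D := d1408) (awT a)))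

/-- The check of twenty-five atoms. -/
noncomputable def atomChunk (q : ℕ) : Bool := (List.range 25).all fun a => atomOK (a + 25 * q)

end Cfsg.Agent.HNPres
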