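/-
Check of the atom vectors (generated chunks).
-/
import Cfsg.Agent.Lib.HNPres.AtomDef

set_option autoImplicit false
set_option maxRecDepth 100000
set_option Elab.async false

namespace Cfsg.Agent.HNPres

open Cfsg.Agent.CosetEnum

theorem atoms_chunk0 : atomChunk 0 = true := by decide +kernel

theorem atoms_chunk1 : atomChunk 1 = true := by decide +kernel

theorem atoms_chunk2 : atomChunk 2 = true := by decide +kernel

theorem atoms_chunk3 : atomChunk 3 = true := by decide +kernel

theorem atoms_chunk4 : atomChunk 4 = true := by decide +kernel

theorem atoms_chunk5 : atomChunk 5 = true := by decide +kernel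

theorem atoms_chunk6 : atomChunk 6 = true := by decide +kernel

theorem atoms_chunk7 : atomChunk 7 = true := by decide +kernel

theorem atoms_chunk8 : atomChunk 8 = true := by decide +kernel

theorem atoms_chunk9 : atomChunk 9 = true := by decide +kernel

end Cfsg.Agent.HNPres
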