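/-
Check of the atom vectors (generated chunks).
-/
import Cfsg.Agent.Lib.HNPres.AtomDef

set_option autoImplicit false
set_option maxRecDepth 100000
set_option Elab.async false

namespace Cfsg.Agent.HNPres

open Cfsg.Agent.CosetEnum

theorem atoms_chunk10 : atomChunk 10 = true := by decide +kernel

theorem atoms_chunk11 : atomChunk 11 = true := by decide +kernel

theorem atoms_chunk12 : atomChunk 12 = true := by decide +kernel

theorem atoms_chunk13 : atomChunk 13 = true := by decide +kernel

theorem atoms_chunk14 : atomChunk 14 = true := by decide +kernel

theorem atoms_chunk15 : atomChunk 15 = true := by decide +kernel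

theorem atoms_chunk16 : atomChunk 16 = true := by decide +kernel

theorem atoms_chunk17 : atomChunk 17 = true := by decide +kernel

theorem atoms_chunk18 : atomChunk 18 = true := by decide +kernel

theorem atoms_chunk19 : atomChunk 19 = true := by decide +kernel

end Cfsg.Agent.HNPres
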