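/-
Check of the atom vectors (generated chunks).
-/
import Cfsg.Agent.Lib.HNPres.AtomDef

set_option autoImplicit false
set_option maxRecDepth 100000
set_option Elab.async false

namespace Cfsg.Agent.HNPres

open Cfsg.Agent.CosetEnum

theorem atoms_chunk20 : atomChunk 20 = true := by decide +kernel

theorem atoms_chunk21 : atomChunk 21 = true := by decide +kernel

theorem atoms_chunk22 : atomChunk 22 = true := by decide +kernel

theorem atoms_chunk23 : atomChunk 23 = true := by decide +kernel

theorem atoms_chunk24 : atomChunk 24 = true := by decide +kernel

theorem atoms_chunk25 : atomChunk 25 = true := by decide +kernel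

theorem atoms_chunk26 : atomChunk 26 = true := by decide +kernel

theorem atoms_chunk27 : atomChunk 27 = true := by decide +kernel

theorem atoms_chunk28 : atomChunk 28 = true := by decide +kernel

theorem atoms_chunk29 : atomChunk 29 = true := by decide +kernel

end Cfsg.Agent.HNPres
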