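/-
Check of the atom vectors (generated chunks).
-/
import Cfsg.Agent.Lib.HNPres.AtomDef

set_option autoImplicit false
set_option maxRecDepth 100000
set_option Elab.async false

namespace Cfsg.Agent.HNPres

open Cfsg.Agent.CosetEnum

theorem atoms_chunk30 : atomChunk 30 = true := by decide +kernel

theorem atoms_chunk31 : atomChunk 31 = true := by decide +kernel

theorem atoms_chunk32 : atomChunk 32 = true := by decide +kernel

theorem atoms_chunk33 : atomChunk 33 = true := by decide +kernel

theorem atoms_chunk34 : atomChunk 34 = true := by decide +kernel

theorem atoms_chunk35 : atomChunk 35 = true := by decide +kernel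

theorem atoms_chunk36 : atomChunk 36 = true := by decide +kernel

theorem atoms_chunk37 : atomChunk 37 = true := by decide +kernel

theorem atoms_chunk38 : atomChunk 38 = true := by decide +kernel

theorem atoms_chunk39 : atomChunk 39 = true := by decide +kernel

end Cfsg.Agent.HNPres
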