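/-
Check of the atom vectors (generated chunks).
-/
import Cfsg.Agent.Lib.HNPres.AtomDef

set_option autoImplicit false
set_option maxRecDepth 100000
set_option Elab.async false

namespace Cfsg.Agent.HNPres

open Cfsg.Agent.CosetEnum

theorem atoms_chunk40 : atomChunk 40 = true := by decide +kernel

theorem atoms_chunk41 : atomChunk 41 = true := by decide +kernel

theorem atoms_chunk42 : atomChunk 42 = true := by decide +kernel

theorem atoms_chunk43 : atomChunk 43 = true := by decide +kernel

theorem atoms_chunk44 : atomChunk 44 = true := by decide +kernel

theorem atoms_chunk45 : atomChunk 45 = true := by decide +kernel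

theorem atoms_chunk46 : atomChunk 46 = true := by decide +kernel

theorem atoms_chunk47 : atomChunk 47 = true := by decide +kernel

theorem atoms_chunk48 : atomChunk 48 = true := by decide +kernel

theorem atoms_chunk49 : atomChunk 49 = true := by decide +kernel

end Cfsg.Agent.HNPres
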