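/-
Check of the atom vectors (generated chunks).
-/
import Cfsg.Agent.Lib.HNPres.AtomDef

set_option autoImplicit false
set_option maxRecDepth 100000
set_option Elab.async false

namespace Cfsg.Agent.HNPres

open Cfsg.Agent.CosetEnum

theorem atoms_chunk50 : atomChunk 50 = true := by decide +kernel

theorem atoms_chunk51 : atomChunk 51 = true := by decide +kernel

theorem atoms_chunk52 : atomChunk 52 = true := by decide +kernel

theorem atoms_chunk53 : atomChunk 53 = true := by decide +kernel

theorem atoms_chunk54 : atomChunk 54 = true := by decide +kernel

theorem atoms_chunk55 : atomChunk 55 = true := by decide +kernel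

theorem atoms_chunk56 : atomChunk 56 = true := by decide +kernel

theorem atoms_chunk57 : atomChunk 57 = true := by decide +kernel

theorem atoms_chunk58 : atomChunk 58 = true := by decide +kernel

end Cfsg.Agent.HNPres
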