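/-
A presentation of a group covering the subgroup `<y, x⁻¹ y x>`.
Main definitions: `cSetup`, `cHs`.
-/
import Cfsg.Agent.Lib.CosetEnum.Order

set_option autoImplicit false

namespace Cfsg.Agent.HNPres

open Cfsg.Agent.CosetEnum

/-- Generators: a, b, j. -/
inductive CGen
  | a
  | b
  | j
  deriving DecidableEq

namespace CGen

/-- the word a -/ abbrev wa : FreeGroup CGen := FreeGroup.of CGen.a
/-- the word b -/ abbrev wb : FreeGroup CGen := FreeGroup.of CGen.b
/-- the word j -/ abbrev wj : FreeGroup CGen := FreeGroup.of CGen.j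

end CGen

open CGen in
/-- The relators. -/
def cRels : List (FreeGroup CGen) := [
  wa ^ 6, wb ^ 6, (wa⁻¹ * wb) ^ 3, ((wb ^ 2) * (wa ^ 3)) ^ 3, ((wa ^ 2) * (wb ^ 3)) ^ 3,
  (wa * wb) ^ 4, (wb * (wa ^ 3)) ^ 4, (wa * (wb ^ 3)) ^ 4,
  wj ^ 2, (wa * wj) ^ 4, ((wa ^ 2) * wj) ^ 3, wj⁻¹ * (wb ^ 3) ]

/-- The setup; letters `a A b B j J`. -/
def cSetup : Setup CGen where
  edges := []
  extra := cRels
  gens := [.a, .b, .j]
  pos := [0, 2, 4]
  lt := [(.a, true), (.a, false), (.b, true), (.b, false), (.j, true), (.j, false)]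

theorem cSetup_gens : ∀ g, g ∈ cSetup.gens := by intro g; cases g <;> simp [cSetup]

/-- The letters. -/
def cLetters : Data := letterData 6 [1, 0, 3, 2, 5, 4]

theorem c_letters : cSetup.lettersOK cLetters = true := by decide +kernel

/-- Generators of the subgroup of index 3150. -/
def cHs : List (FreeGroup CGen) := [CGen.wa, CGen.wb ^ 3]

end Cfsg.Agent.HNPres
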