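/-
Generated proofs that the seeds fix the base coset (C).
-/
import Cfsg.Agent.Lib.HNPres.CSetup
import Cfsg.Agent.Lib.HNPres.CTable0

set_option autoImplicit false
set_option maxRecDepth 100000
set_option Elab.async false

namespace Cfsg.Agent.HNPres

open Cfsg.Agent.CosetEnum Cfsg.Agent.CosetEnum.Data

theorem c3150_fix0 : ev (fun a => cSetup.el (([0, 1, 2, 3] : List ℕ).getD a 0)) c3150_seed0.tgt •
    ((1 : cSetup.G) : cSetup.G ⧸ cSetup.closureOf cHs) = ((1 : cSetup.G) : cSetup.G ⧸ cSetup.closureOf cHs) :=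
  Setup.seed_fixes cSetup_gens c_letters c3150_seed0_check (by decide +kernel)

theorem c3150_fix1 : ev (fun a => cSetup.el (([0, 1, 2, 3] : List ℕ).getD a 0)) c3150_seed1.tgt •
    ((1 : cSetup.G) : cSetup.G ⧸ cSetup.closureOf cHs) = ((1 : cSetup.G) : cSetup.G ⧸ cSetup.closureOf cHs) :=
  Setup.seed_fixes_ext cSetup_gens c_letters c3150_seed1_check [c3150_seed0.tgt]
    (by simp only [List.forall_mem_cons, List.not_mem_nil, false_imp_iff, implies_true, and_true]
        exact c3150_fix0) (by decide +kernel)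

theorem c3150_fix2 : ev (fun a => cSetup.el (([0, 1, 2, 3] : List ℕ).getD a 0)) c3150_seed2.tgt •
    ((1 : cSetup.G) : cSetup.G ⧸ cSetup.closureOf cHs) = ((1 : cSetup.G) : cSetup.G ⧸ cSetup.closureOf cHs) :=
  Setup.seed_fixes_ext cSetup_gens c_letters c3150_seed2_check [c3150_seed0.tgt, c3150_seed1.tgt]
    (by simp only [List.forall_mem_cons, List.not_mem_nil, false_imp_iff, implies_true, and_true]
        exact ⟨c3150_fix0, c3150_fix1⟩) (by decide +kernel)

theorem c3150_fix3 : ev (fun a => cSetup.el (([0, 1, 2, 3] : List ℕ).getD a 0)) c3150_seed3.tgt •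
    ((1 : cSetup.G) : cSetup.G ⧸ cSetup.closureOf cHs) = ((1 : cSetup.G) : cSetup.G ⧸ cSetup.closureOf cHs) :=
  Setup.seed_fixes_ext cSetup_gens c_letters c3150_seed3_check [c3150_seed0.tgt, c3150_seed1.tgt, c3150_seed2.tgt]
    (by simp only [List.forall_mem_cons, List.not_mem_nil, false_imp_iff, implies_true, and_true]
        exact ⟨c3150_fix0, c3150_fix1, c3150_fix2⟩) (by decide +kernel)

theorem c3150_fix4 : ev (fun a => cSetup.el (([0, 1, 2, 3] : List ℕ).getD a 0)) c3150_seed4.tgt •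
    ((1 : cSetup.G) : cSetup.G ⧸ cSetup.closureOf cHs) = ((1 : cSetup.G) : cSetup.G ⧸ cSetup.closureOf cHs) :=
  Setup.seed_fixes_ext cSetup_gens c_letters c3150_seed4_check [c3150_seed0.tgt, c3150_seed1.tgt, c3150_seed2.tgt, c3150_seed3.tgt]
    (by simp only [List.forall_mem_cons, List.not_mem_nil, false_imp_iff, implies_true, and_true]
        exact ⟨c3150_fix0, c3150_fix1, c3150_fix2, c3150_fix3⟩) (by decide +kernel)

theorem c3150_fix5 : ev (fun a => cSetup.el (([0, 1, 2, 3] : List ℕ).getD a 0)) c3150_seed5.tgt •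
    ((1 : cSetup.G) : cSetup.G ⧸ cSetup.closureOf cHs) = ((1 : cSetup.G) : cSetup.G ⧸ cSetup.closureOf cHs) :=
  Setup.seed_fixes_ext cSetup_gens c_letters c3150_seed5_check [c3150_seed0.tgt, c3150_seed1.tgt, c3150_seed2.tgt, c3150_seed3.tgt, c3150_seed4.tgt]
    (by simp only [List.forall_mem_cons, List.not_mem_nil, false_imp_iff, implies_true, and_true]
        exact ⟨c3150_fix0, c3150_fix1, c3150_fix2, c3150_fix3, c3150_fix4⟩) (by decide +kernel)

theorem c3150_fix6 : ev (fun a => cSetup.el (([0, 1, 2, 3] : List ℕ).getD a 0)) c3150_seed6.tgt •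
    ((1 : cSetup.G) : cSetup.G ⧸ cSetup.closureOf cHs) = ((1 : cSetup.G) : cSetup.G ⧸ cSetup.closureOf cHs) :=
  Setup.seed_fixes_ext cSetup_gens c_letters c3150_seed6_check [c3150_seed0.tgt, c3150_seed1.tgt, c3150_seed2.tgt, c3150_seed3.tgt, c3150_seed4.tgt, c3150_seed5.tgt]
    (by simp only [List.forall_mem_cons, List.not_mem_nil, false_imp_iff, implies_true, and_true]
        exact ⟨c3150_fix0, c3150_fix1, c3150_fix2, c3150_fix3, c3150_fix4, c3150_fix5⟩) (by decide +kernel)

/-- The seeds of the certificate. -/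
noncomputable def c3150_ext : List (List ℕ) := [c3150_seed0.tgt, c3150_seed1.tgt, c3150_seed2.tgt, c3150_seed3.tgt, c3150_seed4.tgt, c3150_seed5.tgt, c3150_seed6.tgt]

theorem c3150_ext_fix : ∀ w ∈ c3150_ext, ev (fun a => cSetup.el (([0, 1, 2, 3] : List ℕ).getD a 0)) w •
    ((1 : cSetup.G) : cSetup.G ⧸ cSetup.closureOf cHs) = ((1 : cSetup.G) : cSetup.G ⧸ cSetup.closureOf cHs) := by
  simp only [c3150_ext, List.forall_mem_cons, List.not_mem_nil, false_imp_iff, implies_true, and_true]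
  exact ⟨c3150_fix0, c3150_fix1, c3150_fix2, c3150_fix3, c3150_fix4, c3150_fix5, c3150_fix6⟩

end Cfsg.Agent.HNPres
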