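/-
The presented group `<x, y, z>` of the Harada-Norton presentation, with the two auxiliary generators
`b = x⁻¹ y x` and `j = b³`, as a `Setup`.
Main definitions: `hSetup`, `hLetters`.
-/
import Cfsg.Agent.Lib.CosetEnum.Order
import Cfsg.Prelude.Def_Spor_HN

set_option autoImplicit false

namespace Cfsg.Agent.HNPres

open Cfsg.Agent.CosetEnum

/-- Generators: x, y, z, b, j. -/
inductive HGen
  | x
  | y
  | z
  | b
  | j
  deriving DecidableEq

namespace HGen

/-- the word x -/ abbrev wx : FreeGroup HGen := FreeGroup.of HGen.x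
/-- the word y -/ abbrev wy : FreeGroup HGen := FreeGroup.of HGen.y
/-- the word z -/ abbrev wz : FreeGroup HGen := FreeGroup.of HGen.z
/-- the word b -/ abbrev wb : FreeGroup HGen := FreeGroup.of HGen.b
/-- the word j -/ abbrev wj : FreeGroup HGen := FreeGroup.of HGen.j

end HGen

open HGen in
/-- The relators: those of the presentation free of `t`, and the definitions of `b` and `j`. -/
def hRels : List (FreeGroup HGen) := [
  wy ^ 6,
  (wx ^ 2) * wy * (wx ^ 2) * (wy⁻¹),
  (wx⁻¹ * wy⁻¹ * wx * wy) ^ 3,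
  ((wx⁻¹) * (wy ^ 2) * wx * (wy ^ 3)) ^ 3,
  (wx * wy) ^ 8,
  (wx * wy * wx * (wy ^ 3)) ^ 4,
  wz ^ 2,
  (wz * wx) ^ 2,
  (wz⁻¹ * (wy * wx * wy * wx * (wy ^ 2) * wx * (wy⁻¹))⁻¹ * wz *
    (wy * wx * wy * wx * (wy ^ 2) * wx * (wy⁻¹))) * ((wx ^ 2)⁻¹),
  wz * (((((wy ^ 3) * wx * wy * wx * wy)⁻¹ * wz * ((wy ^ 3) * wx * wy * wx * wy)) * wx) ^ 3),
  wb⁻¹ * (wx⁻¹ * wy * wx),
  wj⁻¹ * (wb ^ 3) ]

/-- The setup; letters `x X y Y z Z b B j J`. -/
def hSetup : Setup HGen where
  edges := []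
  extra := hRels
  gens := [.x, .y, .z, .b, .j]
  pos := [0, 2, 4, 6, 8]
  lt := [(.x, true), (.x, false), (.y, true), (.y, false), (.z, true), (.z, false), (.b, true), (.b, false),
    (.j, true), (.j, false)]

theorem hSetup_gens : ∀ g, g ∈ hSetup.gens := by intro g; cases g <;> simp [hSetup]

/-- The letters. -/
def hLetters : Data := letterData 10 [1, 0, 3, 2, 5, 4, 7, 6, 9, 8]

theorem h_letters : hSetup.lettersOK hLetters = true := by decide +kernel

/-- Generators of the subgroup `<x, y>`. -/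
def hsXY : List (FreeGroup HGen) := [HGen.wx, HGen.wy]

end Cfsg.Agent.HNPres
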