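/-
Generated proofs that the seeds fix the base coset (H).
-/
import Cfsg.Agent.Lib.HNPres.Setup
import Cfsg.Agent.Lib.HNPres.HTable0
import Cfsg.Agent.Lib.HNPres.HTable1

set_option autoImplicit false
set_option maxRecDepth 100000
set_option Elab.async false

namespace Cfsg.Agent.HNPres

open Cfsg.Agent.CosetEnum Cfsg.Agent.CosetEnum.Data

theorem h352_fix0 : ev (fun a => hSetup.el (([0, 1, 2, 3, 4, 5] : List ℕ).getD a 0)) h352_seed0.tgt •
    ((1 : hSetup.G) : hSetup.G ⧸ hSetup.closureOf hsXY) = ((1 : hSetup.G) : hSetup.G ⧸ hSetup.closureOf hsXY) :=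
  Setup.seed_fixes hSetup_gens h_letters h352_seed0_check (by decide +kernel)

theorem h352_fix1 : ev (fun a => hSetup.el (([0, 1, 2, 3, 4, 5] : List ℕ).getD a 0)) h352_seed1.tgt •
    ((1 : hSetup.G) : hSetup.G ⧸ hSetup.closureOf hsXY) = ((1 : hSetup.G) : hSetup.G ⧸ hSetup.closureOf hsXY) :=
  Setup.seed_fixes_ext hSetup_gens h_letters h352_seed1_check [h352_seed0.tgt]
    (by simp only [List.forall_mem_cons, List.not_mem_nil, false_imp_iff, implies_true, and_true]
        exact h352_fix0) (by decide +kernel)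

theorem h352_fix2 : ev (fun a => hSetup.el (([0, 1, 2, 3, 4, 5] : List ℕ).getD a 0)) h352_seed2.tgt •
    ((1 : hSetup.G) : hSetup.G ⧸ hSetup.closureOf hsXY) = ((1 : hSetup.G) : hSetup.G ⧸ hSetup.closureOf hsXY) :=
  Setup.seed_fixes_ext hSetup_gens h_letters h352_seed2_check [h352_seed0.tgt, h352_seed1.tgt]
    (by simp only [List.forall_mem_cons, List.not_mem_nil, false_imp_iff, implies_true, and_true]
        exact ⟨h352_fix0, h352_fix1⟩) (by decide +kernel)

theorem h352_fix3 : ev (fun a => hSetup.el (([0, 1, 2, 3, 4, 5] : List ℕ).getD a 0)) h352_seed3.tgt •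
    ((1 : hSetup.G) : hSetup.G ⧸ hSetup.closureOf hsXY) = ((1 : hSetup.G) : hSetup.G ⧸ hSetup.closureOf hsXY) :=
  Setup.seed_fixes_ext hSetup_gens h_letters h352_seed3_check [h352_seed0.tgt, h352_seed1.tgt, h352_seed2.tgt]
    (by simp only [List.forall_mem_cons, List.not_mem_nil, false_imp_iff, implies_true, and_true]
        exact ⟨h352_fix0, h352_fix1, h352_fix2⟩) (by decide +kernel)

theorem h352_fix4 : ev (fun a => hSetup.el (([0, 1, 2, 3, 4, 5] : List ℕ).getD a 0)) h352_seed4.tgt •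
    ((1 : hSetup.G) : hSetup.G ⧸ hSetup.closureOf hsXY) = ((1 : hSetup.G) : hSetup.G ⧸ hSetup.closureOf hsXY) :=
  Setup.seed_fixes_ext hSetup_gens h_letters h352_seed4_check [h352_seed0.tgt, h352_seed1.tgt, h352_seed2.tgt, h352_seed3.tgt]
    (by simp only [List.forall_mem_cons, List.not_mem_nil, false_imp_iff, implies_true, and_true]
        exact ⟨h352_fix0, h352_fix1, h352_fix2, h352_fix3⟩) (by decide +kernel)

theorem h352_fix5 : ev (fun a => hSetup.el (([0, 1, 2, 3, 4, 5] : List ℕ).getD a 0)) h352_seed5.tgt •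
    ((1 : hSetup.G) : hSetup.G ⧸ hSetup.closureOf hsXY) = ((1 : hSetup.G) : hSetup.G ⧸ hSetup.closureOf hsXY) :=
  Setup.seed_fixes_ext hSetup_gens h_letters h352_seed5_check [h352_seed0.tgt, h352_seed1.tgt, h352_seed2.tgt, h352_seed3.tgt, h352_seed4.tgt]
    (by simp only [List.forall_mem_cons, List.not_mem_nil, false_imp_iff, implies_true, and_true]
        exact ⟨h352_fix0, h352_fix1, h352_fix2, h352_fix3, h352_fix4⟩) (by decide +kernel)

theorem h352_fix6 : ev (fun a => hSetup.el (([0, 1, 2, 3, 4, 5] : List ℕ).getD a 0)) h352_seed6.tgt •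
    ((1 : hSetup.G) : hSetup.G ⧸ hSetup.closureOf hsXY) = ((1 : hSetup.G) : hSetup.G ⧸ hSetup.closureOf hsXY) :=
  Setup.seed_fixes_ext hSetup_gens h_letters h352_seed6_check [h352_seed0.tgt, h352_seed1.tgt, h352_seed2.tgt, h352_seed3.tgt, h352_seed4.tgt, h352_seed5.tgt]
    (by simp only [List.forall_mem_cons, List.not_mem_nil, false_imp_iff, implies_true, and_true]
        exact ⟨h352_fix0, h352_fix1, h352_fix2, h352_fix3, h352_fix4, h352_fix5⟩) (by decide +kernel)

theorem h352_fix7 : ev (fun a => hSetup.el (([0, 1, 2, 3, 4, 5] : List ℕ).getD a 0)) h352_seed7.tgt •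
    ((1 : hSetup.G) : hSetup.G ⧸ hSetup.closureOf hsXY) = ((1 : hSetup.G) : hSetup.G ⧸ hSetup.closureOf hsXY) :=
  Setup.seed_fixes_ext hSetup_gens h_letters h352_seed7_check [h352_seed0.tgt, h352_seed1.tgt, h352_seed2.tgt, h352_seed3.tgt, h352_seed4.tgt, h352_seed5.tgt, h352_seed6.tgt]
    (by simp only [List.forall_mem_cons, List.not_mem_nil, false_imp_iff, implies_true, and_true]
        exact ⟨h352_fix0, h352_fix1, h352_fix2, h352_fix3, h352_fix4, h352_fix5, h352_fix6⟩) (by decide +kernel)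

theorem h352_fix8 : ev (fun a => hSetup.el (([0, 1, 2, 3, 4, 5] : List ℕ).getD a 0)) h352_seed8.tgt •
    ((1 : hSetup.G) : hSetup.G ⧸ hSetup.closureOf hsXY) = ((1 : hSetup.G) : hSetup.G ⧸ hSetup.closureOf hsXY) :=
  Setup.seed_fixes_ext hSetup_gens h_letters h352_seed8_check [h352_seed0.tgt, h352_seed1.tgt, h352_seed2.tgt, h352_seed3.tgt, h352_seed4.tgt, h352_seed5.tgt, h352_seed6.tgt, h352_seed7.tgt]
    (by simp only [List.forall_mem_cons, List.not_mem_nil, false_imp_iff, implies_true, and_true]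
        exact ⟨h352_fix0, h352_fix1, h352_fix2, h352_fix3, h352_fix4, h352_fix5, h352_fix6, h352_fix7⟩) (by decide +kernel)

theorem h352_fix9 : ev (fun a => hSetup.el (([0, 1, 2, 3, 4, 5] : List ℕ).getD a 0)) h352_seed9.tgt •
    ((1 : hSetup.G) : hSetup.G ⧸ hSetup.closureOf hsXY) = ((1 : hSetup.G) : hSetup.G ⧸ hSetup.closureOf hsXY) :=
  Setup.seed_fixes_ext hSetup_gens h_letters h352_seed9_check [h352_seed0.tgt, h352_seed1.tgt, h352_seed2.tgt, h352_seed3.tgt, h352_seed4.tgt, h352_seed5.tgt, h352_seed6.tgt, h352_seed7.tgt, h352_seed8.tgt]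
    (by simp only [List.forall_mem_cons, List.not_mem_nil, false_imp_iff, implies_true, and_true]
        exact ⟨h352_fix0, h352_fix1, h352_fix2, h352_fix3, h352_fix4, h352_fix5, h352_fix6, h352_fix7, h352_fix8⟩) (by decide +kernel)

theorem h352_fix10 : ev (fun a => hSetup.el (([0, 1, 2, 3, 4, 5] : List ℕ).getD a 0)) h352_seed10.tgt •
    ((1 : hSetup.G) : hSetup.G ⧸ hSetup.closureOf hsXY) = ((1 : hSetup.G) : hSetup.G ⧸ hSetup.closureOf hsXY) :=
  Setup.seed_fixes_ext hSetup_gens h_letters h352_seed10_check [h352_seed0.tgt, h352_seed1.tgt, h352_seed2.tgt, h352_seed3.tgt, h352_seed4.tgt, h352_seed5.tgt, h352_seed6.tgt, h352_seed7.tgt, h352_seed8.tgt, h352_seed9.tgt]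
    (by simp only [List.forall_mem_cons, List.not_mem_nil, false_imp_iff, implies_true, and_true]
        exact ⟨h352_fix0, h352_fix1, h352_fix2, h352_fix3, h352_fix4, h352_fix5, h352_fix6, h352_fix7, h352_fix8, h352_fix9⟩) (by decide +kernel)

theorem h352_fix11 : ev (fun a => hSetup.el (([0, 1, 2, 3, 4, 5] : List ℕ).getD a 0)) h352_seed11.tgt •
    ((1 : hSetup.G) : hSetup.G ⧸ hSetup.closureOf hsXY) = ((1 : hSetup.G) : hSetup.G ⧸ hSetup.closureOf hsXY) :=
  Setup.seed_fixes_ext hSetup_gens h_letters h352_seed11_check [h352_seed0.tgt, h352_seed1.tgt, h352_seed2.tgt, h352_seed3.tgt, h352_seed4.tgt, h352_seed5.tgt, h352_seed6.tgt, h352_seed7.tgt, h352_seed8.tgt, h352_seed9.tgt, h352_seed10.tgt]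
    (by simp only [List.forall_mem_cons, List.not_mem_nil, false_imp_iff, implies_true, and_true]
        exact ⟨h352_fix0, h352_fix1, h352_fix2, h352_fix3, h352_fix4, h352_fix5, h352_fix6, h352_fix7, h352_fix8, h352_fix9, h352_fix10⟩) (by decide +kernel)

theorem h352_fix12 : ev (fun a => hSetup.el (([0, 1, 2, 3, 4, 5] : List ℕ).getD a 0)) h352_seed12.tgt •
    ((1 : hSetup.G) : hSetup.G ⧸ hSetup.closureOf hsXY) = ((1 : hSetup.G) : hSetup.G ⧸ hSetup.closureOf hsXY) :=
  Setup.seed_fixes_ext hSetup_gens h_letters h352_seed12_check [h352_seed0.tgt, h352_seed1.tgt, h352_seed2.tgt, h352_seed3.tgt, h352_seed4.tgt, h352_seed5.tgt, h352_seed6.tgt, h352_seed7.tgt, h352_seed8.tgt, h352_seed9.tgt, h352_seed10.tgt, h352_seed11.tgt]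
    (by simp only [List.forall_mem_cons, List.not_mem_nil, false_imp_iff, implies_true, and_true]
        exact ⟨h352_fix0, h352_fix1, h352_fix2, h352_fix3, h352_fix4, h352_fix5, h352_fix6, h352_fix7, h352_fix8, h352_fix9, h352_fix10, h352_fix11⟩) (by decide +kernel)

theorem h352_fix13 : ev (fun a => hSetup.el (([0, 1, 2, 3, 4, 5] : List ℕ).getD a 0)) h352_seed13.tgt •
    ((1 : hSetup.G) : hSetup.G ⧸ hSetup.closureOf hsXY) = ((1 : hSetup.G) : hSetup.G ⧸ hSetup.closureOf hsXY) :=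
  Setup.seed_fixes_ext hSetup_gens h_letters h352_seed13_check [h352_seed0.tgt, h352_seed1.tgt, h352_seed2.tgt, h352_seed3.tgt, h352_seed4.tgt, h352_seed5.tgt, h352_seed6.tgt, h352_seed7.tgt, h352_seed8.tgt, h352_seed9.tgt, h352_seed10.tgt, h352_seed11.tgt, h352_seed12.tgt]
    (by simp only [List.forall_mem_cons, List.not_mem_nil, false_imp_iff, implies_true, and_true]
        exact ⟨h352_fix0, h352_fix1, h352_fix2, h352_fix3, h352_fix4, h352_fix5, h352_fix6, h352_fix7, h352_fix8, h352_fix9, h352_fix10, h352_fix11, h352_fix12⟩) (by decide +kernel)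

theorem h352_fix14 : ev (fun a => hSetup.el (([0, 1, 2, 3, 4, 5] : List ℕ).getD a 0)) h352_seed14.tgt •
    ((1 : hSetup.G) : hSetup.G ⧸ hSetup.closureOf hsXY) = ((1 : hSetup.G) : hSetup.G ⧸ hSetup.closureOf hsXY) :=
  Setup.seed_fixes_ext hSetup_gens h_letters h352_seed14_check [h352_seed0.tgt, h352_seed1.tgt, h352_seed2.tgt, h352_seed3.tgt, h352_seed4.tgt, h352_seed5.tgt, h352_seed6.tgt, h352_seed7.tgt, h352_seed8.tgt, h352_seed9.tgt, h352_seed10.tgt, h352_seed11.tgt, h352_seed12.tgt, h352_seed13.tgt]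
    (by simp only [List.forall_mem_cons, List.not_mem_nil, false_imp_iff, implies_true, and_true]
        exact ⟨h352_fix0, h352_fix1, h352_fix2, h352_fix3, h352_fix4, h352_fix5, h352_fix6, h352_fix7, h352_fix8, h352_fix9, h352_fix10, h352_fix11, h352_fix12, h352_fix13⟩) (by decide +kernel)

theorem h352_fix15 : ev (fun a => hSetup.el (([0, 1, 2, 3, 4, 5] : List ℕ).getD a 0)) h352_seed15.tgt •
    ((1 : hSetup.G) : hSetup.G ⧸ hSetup.closureOf hsXY) = ((1 : hSetup.G) : hSetup.G ⧸ hSetup.closureOf hsXY) :=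
  Setup.seed_fixes_ext hSetup_gens h_letters h352_seed15_check [h352_seed0.tgt, h352_seed1.tgt, h352_seed2.tgt, h352_seed3.tgt, h352_seed4.tgt, h352_seed5.tgt, h352_seed6.tgt, h352_seed7.tgt, h352_seed8.tgt, h352_seed9.tgt, h352_seed10.tgt, h352_seed11.tgt, h352_seed12.tgt, h352_seed13.tgt, h352_seed14.tgt]
    (by simp only [List.forall_mem_cons, List.not_mem_nil, false_imp_iff, implies_true, and_true]
        exact ⟨h352_fix0, h352_fix1, h352_fix2, h352_fix3, h352_fix4, h352_fix5, h352_fix6, h352_fix7, h352_fix8, h352_fix9, h352_fix10, h352_fix11, h352_fix12, h352_fix13, h352_fix14⟩) (by decide +kernel)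

theorem h352_fix16 : ev (fun a => hSetup.el (([0, 1, 2, 3, 4, 5] : List ℕ).getD a 0)) h352_seed16.tgt •
    ((1 : hSetup.G) : hSetup.G ⧸ hSetup.closureOf hsXY) = ((1 : hSetup.G) : hSetup.G ⧸ hSetup.closureOf hsXY) :=
  Setup.seed_fixes_ext hSetup_gens h_letters h352_seed16_check [h352_seed0.tgt, h352_seed1.tgt, h352_seed2.tgt, h352_seed3.tgt, h352_seed4.tgt, h352_seed5.tgt, h352_seed6.tgt, h352_seed7.tgt, h352_seed8.tgt, h352_seed9.tgt, h352_seed10.tgt, h352_seed11.tgt, h352_seed12.tgt, h352_seed13.tgt, h352_seed14.tgt, h352_seed15.tgt]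
    (by simp only [List.forall_mem_cons, List.not_mem_nil, false_imp_iff, implies_true, and_true]
        exact ⟨h352_fix0, h352_fix1, h352_fix2, h352_fix3, h352_fix4, h352_fix5, h352_fix6, h352_fix7, h352_fix8, h352_fix9, h352_fix10, h352_fix11, h352_fix12, h352_fix13, h352_fix14, h352_fix15⟩) (by decide +kernel)

theorem h352_fix17 : ev (fun a => hSetup.el (([0, 1, 2, 3, 4, 5] : List ℕ).getD a 0)) h352_seed17.tgt •
    ((1 : hSetup.G) : hSetup.G ⧸ hSetup.closureOf hsXY) = ((1 : hSetup.G) : hSetup.G ⧸ hSetup.closureOf hsXY) :=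
  Setup.seed_fixes_ext hSetup_gens h_letters h352_seed17_check [h352_seed0.tgt, h352_seed1.tgt, h352_seed2.tgt, h352_seed3.tgt, h352_seed4.tgt, h352_seed5.tgt, h352_seed6.tgt, h352_seed7.tgt, h352_seed8.tgt, h352_seed9.tgt, h352_seed10.tgt, h352_seed11.tgt, h352_seed12.tgt, h352_seed13.tgt, h352_seed14.tgt, h352_seed15.tgt, h352_seed16.tgt]
    (by simp only [List.forall_mem_cons, List.not_mem_nil, false_imp_iff, implies_true, and_true]
        exact ⟨h352_fix0, h352_fix1, h352_fix2, h352_fix3, h352_fix4, h352_fix5, h352_fix6, h352_fix7, h352_fix8, h352_fix9, h352_fix10, h352_fix11, h352_fix12, h352_fix13, h352_fix14, h352_fix15, h352_fix16⟩) (by decide +kernel)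

theorem h352_fix18 : ev (fun a => hSetup.el (([0, 1, 2, 3, 4, 5] : List ℕ).getD a 0)) h352_seed18.tgt •
    ((1 : hSetup.G) : hSetup.G ⧸ hSetup.closureOf hsXY) = ((1 : hSetup.G) : hSetup.G ⧸ hSetup.closureOf hsXY) :=
  Setup.seed_fixes_ext hSetup_gens h_letters h352_seed18_check [h352_seed0.tgt, h352_seed1.tgt, h352_seed2.tgt, h352_seed3.tgt, h352_seed4.tgt, h352_seed5.tgt, h352_seed6.tgt, h352_seed7.tgt, h352_seed8.tgt, h352_seed9.tgt, h352_seed10.tgt, h352_seed11.tgt, h352_seed12.tgt, h352_seed13.tgt, h352_seed14.tgt, h352_seed15.tgt, h352_seed16.tgt, h352_seed17.tgt]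
    (by simp only [List.forall_mem_cons, List.not_mem_nil, false_imp_iff, implies_true, and_true]
        exact ⟨h352_fix0, h352_fix1, h352_fix2, h352_fix3, h352_fix4, h352_fix5, h352_fix6, h352_fix7, h352_fix8, h352_fix9, h352_fix10, h352_fix11, h352_fix12, h352_fix13, h352_fix14, h352_fix15, h352_fix16, h352_fix17⟩) (by decide +kernel)

theorem h352_fix19 : ev (fun a => hSetup.el (([0, 1, 2, 3, 4, 5] : List ℕ).getD a 0)) h352_seed19.tgt •
    ((1 : hSetup.G) : hSetup.G ⧸ hSetup.closureOf hsXY) = ((1 : hSetup.G) : hSetup.G ⧸ hSetup.closureOf hsXY) :=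
  Setup.seed_fixes_ext hSetup_gens h_letters h352_seed19_check [h352_seed0.tgt, h352_seed1.tgt, h352_seed2.tgt, h352_seed3.tgt, h352_seed4.tgt, h352_seed5.tgt, h352_seed6.tgt, h352_seed7.tgt, h352_seed8.tgt, h352_seed9.tgt, h352_seed10.tgt, h352_seed11.tgt, h352_seed12.tgt, h352_seed13.tgt, h352_seed14.tgt, h352_seed15.tgt, h352_seed16.tgt, h352_seed17.tgt, h352_seed18.tgt]
    (by simp only [List.forall_mem_cons, List.not_mem_nil, false_imp_iff, implies_true, and_true]
        exact ⟨h352_fix0, h352_fix1, h352_fix2, h352_fix3, h352_fix4, h352_fix5, h352_fix6, h352_fix7, h352_fix8, h352_fix9, h352_fix10, h352_fix11, h352_fix12, h352_fix13, h352_fix14, h352_fix15, h352_fix16, h352_fix17, h352_fix18⟩) (by decide +kernel)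

theorem h352_fix20 : ev (fun a => hSetup.el (([0, 1, 2, 3, 4, 5] : List ℕ).getD a 0)) h352_seed20.tgt •
    ((1 : hSetup.G) : hSetup.G ⧸ hSetup.closureOf hsXY) = ((1 : hSetup.G) : hSetup.G ⧸ hSetup.closureOf hsXY) :=
  Setup.seed_fixes_ext hSetup_gens h_letters h352_seed20_check [h352_seed0.tgt, h352_seed1.tgt, h352_seed2.tgt, h352_seed3.tgt, h352_seed4.tgt, h352_seed5.tgt, h352_seed6.tgt, h352_seed7.tgt, h352_seed8.tgt, h352_seed9.tgt, h352_seed10.tgt, h352_seed11.tgt, h352_seed12.tgt, h352_seed13.tgt, h352_seed14.tgt, h352_seed15.tgt, h352_seed16.tgt, h352_seed17.tgt, h352_seed18.tgt, h352_seed19.tgt]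
    (by simp only [List.forall_mem_cons, List.not_mem_nil, false_imp_iff, implies_true, and_true]
        exact ⟨h352_fix0, h352_fix1, h352_fix2, h352_fix3, h352_fix4, h352_fix5, h352_fix6, h352_fix7, h352_fix8, h352_fix9, h352_fix10, h352_fix11, h352_fix12, h352_fix13, h352_fix14, h352_fix15, h352_fix16, h352_fix17, h352_fix18, h352_fix19⟩) (by decide +kernel)

theorem h352_fix21 : ev (fun a => hSetup.el (([0, 1, 2, 3, 4, 5] : List ℕ).getD a 0)) h352_seed21.tgt •
    ((1 : hSetup.G) : hSetup.G ⧸ hSetup.closureOf hsXY) = ((1 : hSetup.G) : hSetup.G ⧸ hSetup.closureOf hsXY) :=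
  Setup.seed_fixes_ext hSetup_gens h_letters h352_seed21_check [h352_seed0.tgt, h352_seed1.tgt, h352_seed2.tgt, h352_seed3.tgt, h352_seed4.tgt, h352_seed5.tgt, h352_seed6.tgt, h352_seed7.tgt, h352_seed8.tgt, h352_seed9.tgt, h352_seed10.tgt, h352_seed11.tgt, h352_seed12.tgt, h352_seed13.tgt, h352_seed14.tgt, h352_seed15.tgt, h352_seed16.tgt, h352_seed17.tgt, h352_seed18.tgt, h352_seed19.tgt, h352_seed20.tgt]
    (by simp only [List.forall_mem_cons, List.not_mem_nil, false_imp_iff, implies_true, and_true]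
        exact ⟨h352_fix0, h352_fix1, h352_fix2, h352_fix3, h352_fix4, h352_fix5, h352_fix6, h352_fix7, h352_fix8, h352_fix9, h352_fix10, h352_fix11, h352_fix12, h352_fix13, h352_fix14, h352_fix15, h352_fix16, h352_fix17, h352_fix18, h352_fix19, h352_fix20⟩) (by decide +kernel)

theorem h352_fix22 : ev (fun a => hSetup.el (([0, 1, 2, 3, 4, 5] : List ℕ).getD a 0)) h352_seed22.tgt •
    ((1 : hSetup.G) : hSetup.G ⧸ hSetup.closureOf hsXY) = ((1 : hSetup.G) : hSetup.G ⧸ hSetup.closureOf hsXY) :=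
  Setup.seed_fixes_ext hSetup_gens h_letters h352_seed22_check [h352_seed0.tgt, h352_seed1.tgt, h352_seed2.tgt, h352_seed3.tgt, h352_seed4.tgt, h352_seed5.tgt, h352_seed6.tgt, h352_seed7.tgt, h352_seed8.tgt, h352_seed9.tgt, h352_seed10.tgt, h352_seed11.tgt, h352_seed12.tgt, h352_seed13.tgt, h352_seed14.tgt, h352_seed15.tgt, h352_seed16.tgt, h352_seed17.tgt, h352_seed18.tgt, h352_seed19.tgt, h352_seed20.tgt, h352_seed21.tgt]
    (by simp only [List.forall_mem_cons, List.not_mem_nil, false_imp_iff, implies_true, and_true]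
        exact ⟨h352_fix0, h352_fix1, h352_fix2, h352_fix3, h352_fix4, h352_fix5, h352_fix6, h352_fix7, h352_fix8, h352_fix9, h352_fix10, h352_fix11, h352_fix12, h352_fix13, h352_fix14, h352_fix15, h352_fix16, h352_fix17, h352_fix18, h352_fix19, h352_fix20, h352_fix21⟩) (by decide +kernel)

theorem h352_fix23 : ev (fun a => hSetup.el (([0, 1, 2, 3, 4, 5] : List ℕ).getD a 0)) h352_seed23.tgt •
    ((1 : hSetup.G) : hSetup.G ⧸ hSetup.closureOf hsXY) = ((1 : hSetup.G) : hSetup.G ⧸ hSetup.closureOf hsXY) :=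
  Setup.seed_fixes_ext hSetup_gens h_letters h352_seed23_check [h352_seed0.tgt, h352_seed1.tgt, h352_seed2.tgt, h352_seed3.tgt, h352_seed4.tgt, h352_seed5.tgt, h352_seed6.tgt, h352_seed7.tgt, h352_seed8.tgt, h352_seed9.tgt, h352_seed10.tgt, h352_seed11.tgt, h352_seed12.tgt, h352_seed13.tgt, h352_seed14.tgt, h352_seed15.tgt, h352_seed16.tgt, h352_seed17.tgt, h352_seed18.tgt, h352_seed19.tgt, h352_seed20.tgt, h352_seed21.tgt, h352_seed22.tgt]
    (by simp only [List.forall_mem_cons, List.not_mem_nil, false_imp_iff, implies_true, and_true]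
        exact ⟨h352_fix0, h352_fix1, h352_fix2, h352_fix3, h352_fix4, h352_fix5, h352_fix6, h352_fix7, h352_fix8, h352_fix9, h352_fix10, h352_fix11, h352_fix12, h352_fix13, h352_fix14, h352_fix15, h352_fix16, h352_fix17, h352_fix18, h352_fix19, h352_fix20, h352_fix21, h352_fix22⟩) (by decide +kernel)

theorem h352_fix24 : ev (fun a => hSetup.el (([0, 1, 2, 3, 4, 5] : List ℕ).getD a 0)) h352_seed24.tgt •
    ((1 : hSetup.G) : hSetup.G ⧸ hSetup.closureOf hsXY) = ((1 : hSetup.G) : hSetup.G ⧸ hSetup.closureOf hsXY) :=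
  Setup.seed_fixes_ext hSetup_gens h_letters h352_seed24_check [h352_seed0.tgt, h352_seed1.tgt, h352_seed2.tgt, h352_seed3.tgt, h352_seed4.tgt, h352_seed5.tgt, h352_seed6.tgt, h352_seed7.tgt, h352_seed8.tgt, h352_seed9.tgt, h352_seed10.tgt, h352_seed11.tgt, h352_seed12.tgt, h352_seed13.tgt, h352_seed14.tgt, h352_seed15.tgt, h352_seed16.tgt, h352_seed17.tgt, h352_seed18.tgt, h352_seed19.tgt, h352_seed20.tgt, h352_seed21.tgt, h352_seed22.tgt, h352_seed23.tgt]
    (by simp only [List.forall_mem_cons, List.not_mem_nil, false_imp_iff, implies_true, and_true]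
        exact ⟨h352_fix0, h352_fix1, h352_fix2, h352_fix3, h352_fix4, h352_fix5, h352_fix6, h352_fix7, h352_fix8, h352_fix9, h352_fix10, h352_fix11, h352_fix12, h352_fix13, h352_fix14, h352_fix15, h352_fix16, h352_fix17, h352_fix18, h352_fix19, h352_fix20, h352_fix21, h352_fix22, h352_fix23⟩) (by decide +kernel)

theorem h352_fix25 : ev (fun a => hSetup.el (([0, 1, 2, 3, 4, 5] : List ℕ).getD a 0)) h352_seed25.tgt •
    ((1 : hSetup.G) : hSetup.G ⧸ hSetup.closureOf hsXY) = ((1 : hSetup.G) : hSetup.G ⧸ hSetup.closureOf hsXY) :=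
  Setup.seed_fixes_ext hSetup_gens h_letters h352_seed25_check [h352_seed0.tgt, h352_seed1.tgt, h352_seed2.tgt, h352_seed3.tgt, h352_seed4.tgt, h352_seed5.tgt, h352_seed6.tgt, h352_seed7.tgt, h352_seed8.tgt, h352_seed9.tgt, h352_seed10.tgt, h352_seed11.tgt, h352_seed12.tgt, h352_seed13.tgt, h352_seed14.tgt, h352_seed15.tgt, h352_seed16.tgt, h352_seed17.tgt, h352_seed18.tgt, h352_seed19.tgt, h352_seed20.tgt, h352_seed21.tgt, h352_seed22.tgt, h352_seed23.tgt, h352_seed24.tgt]
    (by simp only [List.forall_mem_cons, List.not_mem_nil, false_imp_iff, implies_true, and_true]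
        exact ⟨h352_fix0, h352_fix1, h352_fix2, h352_fix3, h352_fix4, h352_fix5, h352_fix6, h352_fix7, h352_fix8, h352_fix9, h352_fix10, h352_fix11, h352_fix12, h352_fix13, h352_fix14, h352_fix15, h352_fix16, h352_fix17, h352_fix18, h352_fix19, h352_fix20, h352_fix21, h352_fix22, h352_fix23, h352_fix24⟩) (by decide +kernel)

theorem h352_fix26 : ev (fun a => hSetup.el (([0, 1, 2, 3, 4, 5] : List ℕ).getD a 0)) h352_seed26.tgt •
    ((1 : hSetup.G) : hSetup.G ⧸ hSetup.closureOf hsXY) = ((1 : hSetup.G) : hSetup.G ⧸ hSetup.closureOf hsXY) :=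
  Setup.seed_fixes_ext hSetup_gens h_letters h352_seed26_check [h352_seed0.tgt, h352_seed1.tgt, h352_seed2.tgt, h352_seed3.tgt, h352_seed4.tgt, h352_seed5.tgt, h352_seed6.tgt, h352_seed7.tgt, h352_seed8.tgt, h352_seed9.tgt, h352_seed10.tgt, h352_seed11.tgt, h352_seed12.tgt, h352_seed13.tgt, h352_seed14.tgt, h352_seed15.tgt, h352_seed16.tgt, h352_seed17.tgt, h352_seed18.tgt, h352_seed19.tgt, h352_seed20.tgt, h352_seed21.tgt, h352_seed22.tgt, h352_seed23.tgt, h352_seed24.tgt, h352_seed25.tgt]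
    (by simp only [List.forall_mem_cons, List.not_mem_nil, false_imp_iff, implies_true, and_true]
        exact ⟨h352_fix0, h352_fix1, h352_fix2, h352_fix3, h352_fix4, h352_fix5, h352_fix6, h352_fix7, h352_fix8, h352_fix9, h352_fix10, h352_fix11, h352_fix12, h352_fix13, h352_fix14, h352_fix15, h352_fix16, h352_fix17, h352_fix18, h352_fix19, h352_fix20, h352_fix21, h352_fix22, h352_fix23, h352_fix24, h352_fix25⟩) (by decide +kernel)

theorem h352_fix27 : ev (fun a => hSetup.el (([0, 1, 2, 3, 4, 5] : List ℕ).getD a 0)) h352_seed27.tgt •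
    ((1 : hSetup.G) : hSetup.G ⧸ hSetup.closureOf hsXY) = ((1 : hSetup.G) : hSetup.G ⧸ hSetup.closureOf hsXY) :=
  Setup.seed_fixes_ext hSetup_gens h_letters h352_seed27_check [h352_seed0.tgt, h352_seed1.tgt, h352_seed2.tgt, h352_seed3.tgt, h352_seed4.tgt, h352_seed5.tgt, h352_seed6.tgt, h352_seed7.tgt, h352_seed8.tgt, h352_seed9.tgt, h352_seed10.tgt, h352_seed11.tgt, h352_seed12.tgt, h352_seed13.tgt, h352_seed14.tgt, h352_seed15.tgt, h352_seed16.tgt, h352_seed17.tgt, h352_seed18.tgt, h352_seed19.tgt, h352_seed20.tgt, h352_seed21.tgt, h352_seed22.tgt, h352_seed23.tgt, h352_seed24.tgt, h352_seed25.tgt, h352_seed26.tgt]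
    (by simp only [List.forall_mem_cons, List.not_mem_nil, false_imp_iff, implies_true, and_true]
        exact ⟨h352_fix0, h352_fix1, h352_fix2, h352_fix3, h352_fix4, h352_fix5, h352_fix6, h352_fix7, h352_fix8, h352_fix9, h352_fix10, h352_fix11, h352_fix12, h352_fix13, h352_fix14, h352_fix15, h352_fix16, h352_fix17, h352_fix18, h352_fix19, h352_fix20, h352_fix21, h352_fix22, h352_fix23, h352_fix24, h352_fix25, h352_fix26⟩) (by decide +kernel)

theorem h352_fix28 : ev (fun a => hSetup.el (([0, 1, 2, 3, 4, 5] : List ℕ).getD a 0)) h352_seed28.tgt •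
    ((1 : hSetup.G) : hSetup.G ⧸ hSetup.closureOf hsXY) = ((1 : hSetup.G) : hSetup.G ⧸ hSetup.closureOf hsXY) :=
  Setup.seed_fixes_ext hSetup_gens h_letters h352_seed28_check [h352_seed0.tgt, h352_seed1.tgt, h352_seed2.tgt, h352_seed3.tgt, h352_seed4.tgt, h352_seed5.tgt, h352_seed6.tgt, h352_seed7.tgt, h352_seed8.tgt, h352_seed9.tgt, h352_seed10.tgt, h352_seed11.tgt, h352_seed12.tgt, h352_seed13.tgt, h352_seed14.tgt, h352_seed15.tgt, h352_seed16.tgt, h352_seed17.tgt, h352_seed18.tgt, h352_seed19.tgt, h352_seed20.tgt, h352_seed21.tgt, h352_seed22.tgt, h352_seed23.tgt, h352_seed24.tgt, h352_seed25.tgt, h352_seed26.tgt, h352_seed27.tgt]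
    (by simp only [List.forall_mem_cons, List.not_mem_nil, false_imp_iff, implies_true, and_true]
        exact ⟨h352_fix0, h352_fix1, h352_fix2, h352_fix3, h352_fix4, h352_fix5, h352_fix6, h352_fix7, h352_fix8, h352_fix9, h352_fix10, h352_fix11, h352_fix12, h352_fix13, h352_fix14, h352_fix15, h352_fix16, h352_fix17, h352_fix18, h352_fix19, h352_fix20, h352_fix21, h352_fix22, h352_fix23, h352_fix24, h352_fix25, h352_fix26, h352_fix27⟩) (by decide +kernel)

theorem h352_fix29 : ev (fun a => hSetup.el (([0, 1, 2, 3, 4, 5] : List ℕ).getD a 0)) h352_seed29.tgt •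
    ((1 : hSetup.G) : hSetup.G ⧸ hSetup.closureOf hsXY) = ((1 : hSetup.G) : hSetup.G ⧸ hSetup.closureOf hsXY) :=
  Setup.seed_fixes_ext hSetup_gens h_letters h352_seed29_check [h352_seed0.tgt, h352_seed1.tgt, h352_seed2.tgt, h352_seed3.tgt, h352_seed4.tgt, h352_seed5.tgt, h352_seed6.tgt, h352_seed7.tgt, h352_seed8.tgt, h352_seed9.tgt, h352_seed10.tgt, h352_seed11.tgt, h352_seed12.tgt, h352_seed13.tgt, h352_seed14.tgt, h352_seed15.tgt, h352_seed16.tgt, h352_seed17.tgt, h352_seed18.tgt, h352_seed19.tgt, h352_seed20.tgt, h352_seed21.tgt, h352_seed22.tgt, h352_seed23.tgt, h352_seed24.tgt, h352_seed25.tgt, h352_seed26.tgt, h352_seed27.tgt, h352_seed28.tgt]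
    (by simp only [List.forall_mem_cons, List.not_mem_nil, false_imp_iff, implies_true, and_true]
        exact ⟨h352_fix0, h352_fix1, h352_fix2, h352_fix3, h352_fix4, h352_fix5, h352_fix6, h352_fix7, h352_fix8, h352_fix9, h352_fix10, h352_fix11, h352_fix12, h352_fix13, h352_fix14, h352_fix15, h352_fix16, h352_fix17, h352_fix18, h352_fix19, h352_fix20, h352_fix21, h352_fix22, h352_fix23, h352_fix24, h352_fix25, h352_fix26, h352_fix27, h352_fix28⟩) (by decide +kernel)

theorem h352_fix30 : ev (fun a => hSetup.el (([0, 1, 2, 3, 4, 5] : List ℕ).getD a 0)) h352_seed30.tgt •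
    ((1 : hSetup.G) : hSetup.G ⧸ hSetup.closureOf hsXY) = ((1 : hSetup.G) : hSetup.G ⧸ hSetup.closureOf hsXY) :=
  Setup.seed_fixes_ext hSetup_gens h_letters h352_seed30_check [h352_seed0.tgt, h352_seed1.tgt, h352_seed2.tgt, h352_seed3.tgt, h352_seed4.tgt, h352_seed5.tgt, h352_seed6.tgt, h352_seed7.tgt, h352_seed8.tgt, h352_seed9.tgt, h352_seed10.tgt, h352_seed11.tgt, h352_seed12.tgt, h352_seed13.tgt, h352_seed14.tgt, h352_seed15.tgt, h352_seed16.tgt, h352_seed17.tgt, h352_seed18.tgt, h352_seed19.tgt, h352_seed20.tgt, h352_seed21.tgt, h352_seed22.tgt, h352_seed23.tgt, h352_seed24.tgt, h352_seed25.tgt, h352_seed26.tgt, h352_seed27.tgt, h352_seed28.tgt, h352_seed29.tgt]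
    (by simp only [List.forall_mem_cons, List.not_mem_nil, false_imp_iff, implies_true, and_true]
        exact ⟨h352_fix0, h352_fix1, h352_fix2, h352_fix3, h352_fix4, h352_fix5, h352_fix6, h352_fix7, h352_fix8, h352_fix9, h352_fix10, h352_fix11, h352_fix12, h352_fix13, h352_fix14, h352_fix15, h352_fix16, h352_fix17, h352_fix18, h352_fix19, h352_fix20, h352_fix21, h352_fix22, h352_fix23, h352_fix24, h352_fix25, h352_fix26, h352_fix27, h352_fix28, h352_fix29⟩) (by decide +kernel)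

theorem h352_fix31 : ev (fun a => hSetup.el (([0, 1, 2, 3, 4, 5] : List ℕ).getD a 0)) h352_seed31.tgt •
    ((1 : hSetup.G) : hSetup.G ⧸ hSetup.closureOf hsXY) = ((1 : hSetup.G) : hSetup.G ⧸ hSetup.closureOf hsXY) :=
  Setup.seed_fixes_ext hSetup_gens h_letters h352_seed31_check [h352_seed0.tgt, h352_seed1.tgt, h352_seed2.tgt, h352_seed3.tgt, h352_seed4.tgt, h352_seed5.tgt, h352_seed6.tgt, h352_seed7.tgt, h352_seed8.tgt, h352_seed9.tgt, h352_seed10.tgt, h352_seed11.tgt, h352_seed12.tgt, h352_seed13.tgt, h352_seed14.tgt, h352_seed15.tgt, h352_seed16.tgt, h352_seed17.tgt, h352_seed18.tgt, h352_seed19.tgt, h352_seed20.tgt, h352_seed21.tgt, h352_seed22.tgt, h352_seed23.tgt, h352_seed24.tgt, h352_seed25.tgt, h352_seed26.tgt, h352_seed27.tgt, h352_seed28.tgt, h352_seed29.tgt, h352_seed30.tgt]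
    (by simp only [List.forall_mem_cons, List.not_mem_nil, false_imp_iff, implies_true, and_true]
        exact ⟨h352_fix0, h352_fix1, h352_fix2, h352_fix3, h352_fix4, h352_fix5, h352_fix6, h352_fix7, h352_fix8, h352_fix9, h352_fix10, h352_fix11, h352_fix12, h352_fix13, h352_fix14, h352_fix15, h352_fix16, h352_fix17, h352_fix18, h352_fix19, h352_fix20, h352_fix21, h352_fix22, h352_fix23, h352_fix24, h352_fix25, h352_fix26, h352_fix27, h352_fix28, h352_fix29, h352_fix30⟩) (by decide +kernel)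

theorem h352_fix32 : ev (fun a => hSetup.el (([0, 1, 2, 3, 4, 5] : List ℕ).getD a 0)) h352_seed32.tgt •
    ((1 : hSetup.G) : hSetup.G ⧸ hSetup.closureOf hsXY) = ((1 : hSetup.G) : hSetup.G ⧸ hSetup.closureOf hsXY) :=
  Setup.seed_fixes_ext hSetup_gens h_letters h352_seed32_check [h352_seed0.tgt, h352_seed1.tgt, h352_seed2.tgt, h352_seed3.tgt, h352_seed4.tgt, h352_seed5.tgt, h352_seed6.tgt, h352_seed7.tgt, h352_seed8.tgt, h352_seed9.tgt, h352_seed10.tgt, h352_seed11.tgt, h352_seed12.tgt, h352_seed13.tgt, h352_seed14.tgt, h352_seed15.tgt, h352_seed16.tgt, h352_seed17.tgt, h352_seed18.tgt, h352_seed19.tgt, h352_seed20.tgt, h352_seed21.tgt, h352_seed22.tgt, h352_seed23.tgt, h352_seed24.tgt, h352_seed25.tgt, h352_seed26.tgt, h352_seed27.tgt, h352_seed28.tgt, h352_seed29.tgt, h352_seed30.tgt, h352_seed31.tgt]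
    (by simp only [List.forall_mem_cons, List.not_mem_nil, false_imp_iff, implies_true, and_true]
        exact ⟨h352_fix0, h352_fix1, h352_fix2, h352_fix3, h352_fix4, h352_fix5, h352_fix6, h352_fix7, h352_fix8, h352_fix9, h352_fix10, h352_fix11, h352_fix12, h352_fix13, h352_fix14, h352_fix15, h352_fix16, h352_fix17, h352_fix18, h352_fix19, h352_fix20, h352_fix21, h352_fix22, h352_fix23, h352_fix24, h352_fix25, h352_fix26, h352_fix27, h352_fix28, h352_fix29, h352_fix30, h352_fix31⟩) (by decide +kernel)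

theorem h352_fix33 : ev (fun a => hSetup.el (([0, 1, 2, 3, 4, 5] : List ℕ).getD a 0)) h352_seed33.tgt •
    ((1 : hSetup.G) : hSetup.G ⧸ hSetup.closureOf hsXY) = ((1 : hSetup.G) : hSetup.G ⧸ hSetup.closureOf hsXY) :=
  Setup.seed_fixes_ext hSetup_gens h_letters h352_seed33_check [h352_seed0.tgt, h352_seed1.tgt, h352_seed2.tgt, h352_seed3.tgt, h352_seed4.tgt, h352_seed5.tgt, h352_seed6.tgt, h352_seed7.tgt, h352_seed8.tgt, h352_seed9.tgt, h352_seed10.tgt, h352_seed11.tgt, h352_seed12.tgt, h352_seed13.tgt, h352_seed14.tgt, h352_seed15.tgt, h352_seed16.tgt, h352_seed17.tgt, h352_seed18.tgt, h352_seed19.tgt, h352_seed20.tgt, h352_seed21.tgt, h352_seed22.tgt, h352_seed23.tgt, h352_seed24.tgt, h352_seed25.tgt, h352_seed26.tgt, h352_seed27.tgt, h352_seed28.tgt, h352_seed29.tgt, h352_seed30.tgt, h352_seed31.tgt, h352_seed32.tgt]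
    (by simp only [List.forall_mem_cons, List.not_mem_nil, false_imp_iff, implies_true, and_true]
        exact ⟨h352_fix0, h352_fix1, h352_fix2, h352_fix3, h352_fix4, h352_fix5, h352_fix6, h352_fix7, h352_fix8, h352_fix9, h352_fix10, h352_fix11, h352_fix12, h352_fix13, h352_fix14, h352_fix15, h352_fix16, h352_fix17, h352_fix18, h352_fix19, h352_fix20, h352_fix21, h352_fix22, h352_fix23, h352_fix24, h352_fix25, h352_fix26, h352_fix27, h352_fix28, h352_fix29, h352_fix30, h352_fix31, h352_fix32⟩) (by decide +kernel)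

theorem h352_fix34 : ev (fun a => hSetup.el (([0, 1, 2, 3, 4, 5] : List ℕ).getD a 0)) h352_seed34.tgt •
    ((1 : hSetup.G) : hSetup.G ⧸ hSetup.closureOf hsXY) = ((1 : hSetup.G) : hSetup.G ⧸ hSetup.closureOf hsXY) :=
  Setup.seed_fixes_ext hSetup_gens h_letters h352_seed34_check [h352_seed0.tgt, h352_seed1.tgt, h352_seed2.tgt, h352_seed3.tgt, h352_seed4.tgt, h352_seed5.tgt, h352_seed6.tgt, h352_seed7.tgt, h352_seed8.tgt, h352_seed9.tgt, h352_seed10.tgt, h352_seed11.tgt, h352_seed12.tgt, h352_seed13.tgt, h352_seed14.tgt, h352_seed15.tgt, h352_seed16.tgt, h352_seed17.tgt, h352_seed18.tgt, h352_seed19.tgt, h352_seed20.tgt, h352_seed21.tgt, h352_seed22.tgt, h352_seed23.tgt, h352_seed24.tgt, h352_seed25.tgt, h352_seed26.tgt, h352_seed27.tgt, h352_seed28.tgt, h352_seed29.tgt, h352_seed30.tgt, h352_seed31.tgt, h352_seed32.tgt, h352_seed33.tgt]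
    (by simp only [List.forall_mem_cons, List.not_mem_nil, false_imp_iff, implies_true, and_true]
        exact ⟨h352_fix0, h352_fix1, h352_fix2, h352_fix3, h352_fix4, h352_fix5, h352_fix6, h352_fix7, h352_fix8, h352_fix9, h352_fix10, h352_fix11, h352_fix12, h352_fix13, h352_fix14, h352_fix15, h352_fix16, h352_fix17, h352_fix18, h352_fix19, h352_fix20, h352_fix21, h352_fix22, h352_fix23, h352_fix24, h352_fix25, h352_fix26, h352_fix27, h352_fix28, h352_fix29, h352_fix30, h352_fix31, h352_fix32, h352_fix33⟩) (by decide +kernel)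

theorem h352_fix35 : ev (fun a => hSetup.el (([0, 1, 2, 3, 4, 5] : List ℕ).getD a 0)) h352_seed35.tgt •
    ((1 : hSetup.G) : hSetup.G ⧸ hSetup.closureOf hsXY) = ((1 : hSetup.G) : hSetup.G ⧸ hSetup.closureOf hsXY) :=
  Setup.seed_fixes_ext hSetup_gens h_letters h352_seed35_check [h352_seed0.tgt, h352_seed1.tgt, h352_seed2.tgt, h352_seed3.tgt, h352_seed4.tgt, h352_seed5.tgt, h352_seed6.tgt, h352_seed7.tgt, h352_seed8.tgt, h352_seed9.tgt, h352_seed10.tgt, h352_seed11.tgt, h352_seed12.tgt, h352_seed13.tgt, h352_seed14.tgt, h352_seed15.tgt, h352_seed16.tgt, h352_seed17.tgt, h352_seed18.tgt, h352_seed19.tgt, h352_seed20.tgt, h352_seed21.tgt, h352_seed22.tgt, h352_seed23.tgt, h352_seed24.tgt, h352_seed25.tgt, h352_seed26.tgt, h352_seed27.tgt, h352_seed28.tgt, h352_seed29.tgt, h352_seed30.tgt, h352_seed31.tgt, h352_seed32.tgt, h352_seed33.tgt, h352_seed34.tgt]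
    (by simp only [List.forall_mem_cons, List.not_mem_nil, false_imp_iff, implies_true, and_true]
        exact ⟨h352_fix0, h352_fix1, h352_fix2, h352_fix3, h352_fix4, h352_fix5, h352_fix6, h352_fix7, h352_fix8, h352_fix9, h352_fix10, h352_fix11, h352_fix12, h352_fix13, h352_fix14, h352_fix15, h352_fix16, h352_fix17, h352_fix18, h352_fix19, h352_fix20, h352_fix21, h352_fix22, h352_fix23, h352_fix24, h352_fix25, h352_fix26, h352_fix27, h352_fix28, h352_fix29, h352_fix30, h352_fix31, h352_fix32, h352_fix33, h352_fix34⟩) (by decide +kernel)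

/-- The seeds of the certificate. -/
noncomputable def h352_ext : List (List ℕ) := [h352_seed0.tgt, h352_seed1.tgt, h352_seed2.tgt, h352_seed3.tgt, h352_seed4.tgt, h352_seed5.tgt, h352_seed6.tgt, h352_seed7.tgt, h352_seed8.tgt, h352_seed9.tgt, h352_seed10.tgt, h352_seed11.tgt, h352_seed12.tgt, h352_seed13.tgt, h352_seed14.tgt, h352_seed15.tgt, h352_seed16.tgt, h352_seed17.tgt, h352_seed18.tgt, h352_seed19.tgt, h352_seed20.tgt, h352_seed21.tgt, h352_seed22.tgt, h352_seed23.tgt, h352_seed24.tgt, h352_seed25.tgt, h352_seed26.tgt, h352_seed27.tgt, h352_seed28.tgt, h352_seed29.tgt, h352_seed30.tgt, h352_seed31.tgt, h352_seed32.tgt, h352_seed33.tgt, h352_seed34.tgt, h352_seed35.tgt]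

theorem h352_ext_fix : ∀ w ∈ h352_ext, ev (fun a => hSetup.el (([0, 1, 2, 3, 4, 5] : List ℕ).getD a 0)) w •
    ((1 : hSetup.G) : hSetup.G ⧸ hSetup.closureOf hsXY) = ((1 : hSetup.G) : hSetup.G ⧸ hSetup.closureOf hsXY) := by
  simp only [h352_ext, List.forall_mem_cons, List.not_mem_nil, false_imp_iff, implies_true, and_true]
  exact ⟨h352_fix0, h352_fix1, h352_fix2, h352_fix3, h352_fix4, h352_fix5, h352_fix6, h352_fix7, h352_fix8, h352_fix9, h352_fix10, h352_fix11, h352_fix12, h352_fix13, h352_fix14, h352_fix15, h352_fix16, h352_fix17, h352_fix18, h352_fix19, h352_fix20, h352_fix21, h352_fix22, h352_fix23, h352_fix24, h352_fix25, h352_fix26, h352_fix27, h352_fix28, h352_fix29, h352_fix30, h352_fix31, h352_fix32, h352_fix33, h352_fix34, h352_fix35⟩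

end Cfsg.Agent.HNPres
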