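/-
Upper bound for the presented group on `x, y, z`.
Main results: `hx4`, `hx2y`, `card_hg_le`.
-/
import Cfsg.Agent.Lib.HNPres.CSeeds
import Cfsg.Agent.Lib.HNPres.HSeeds
import Cfsg.Agent.Lib.HNPres.DTable0

set_option autoImplicit false
set_option maxRecDepth 100000
set_option Elab.async false

namespace Cfsg.Agent.HNPres

open Cfsg.Agent.CosetEnum Cfsg.Agent.CosetEnum.Data

/-! ### The cover of `<y, b>` -/

theorem ca_card :
    Nat.card (cSetup.letterGroup [0, 1]) ≤ 6 ∧ Nat.card (cSetup.letterGroup [0, 1]) ≠ 0 := by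
  have h := Setup.card_step cSetup_gens c_letters c6 c6_check [0, 1] (by decide +kernel) [] [] []
    (by decide +kernel) (by decide +kernel) (by simp) (by simp) (Setup.bound_nil cSetup)
  exact h

theorem caj_card :
    Nat.card (cSetup.letterGroup [0, 1, 4, 5]) ≤ 120 ∧ Nat.card (cSetup.letterGroup [0, 1, 4, 5]) ≠ 0 := by
  have h := Setup.card_step cSetup_gens c_letters c20 c20_check [0, 1, 4, 5] (by decide +kernel) [CGen.wa] [] []
    (by decide +kernel) (by decide +kernel) (by simp) (by simp)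
    (Setup.bound_closure cSetup_gens c_letters ca_card (by decide +kernel))
  exact h

theorem cmk_j : PresentedGroup.mk cSetup.rels CGen.wj = PresentedGroup.mk cSetup.rels (CGen.wb ^ 3) := by
  have h : CGen.wj⁻¹ * (CGen.wb ^ 3) ∈ cSetup.rels := Or.inr (by simp [cSetup, cRels])
  exact inv_mul_eq_one.mp (by rw [← map_inv, ← map_mul]; exact PresentedGroup.one_of_mem h)

theorem cHs_eq : cSetup.closureOf cHs = cSetup.closureOf [CGen.wa, CGen.wj] := by
  unfold Setup.closureOf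
  congr 1
  ext g
  simp [cHs, cmk_j]

theorem cab_card :
    Nat.card (cSetup.letterGroup [0, 1, 2, 3]) ≤ 378000 ∧ Nat.card (cSetup.letterGroup [0, 1, 2, 3]) ≠ 0 := by
  have hK : Nat.card (cSetup.closureOf cHs) ≤ 120 ∧ Nat.card (cSetup.closureOf cHs) ≠ 0 := by
    rw [cHs_eq]
    exact Setup.bound_closure cSetup_gens c_letters caj_card (by decide +kernel)
  have h := Setup.card_step cSetup_gens c_letters c3150 c3150_check [0, 1, 2, 3] (by decide +kernel) cHs c3150_ext []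
    (by decide +kernel) (by decide +kernel) (by simp) c3150_ext_fix hK
  exact h

theorem c_top : cSetup.letterGroup [0, 1, 2, 3] = ⊤ := by
  have ha : (PresentedGroup.of CGen.a : cSetup.G) ∈ cSetup.letterGroup [0, 1, 2, 3] :=
    Subgroup.subset_closure ⟨0, by simp, rfl⟩
  have hb : (PresentedGroup.of CGen.b : cSetup.G) ∈ cSetup.letterGroup [0, 1, 2, 3] :=
    Subgroup.subset_closure ⟨2, by simp, rfl⟩
  rw [eq_top_iff, ← PresentedGroup.closure_range_of cSetup.rels, Subgroup.closure_le]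
  rintro _ ⟨x, rfl⟩
  cases x with
  | a => exact ha
  | b => exact hb
  | j =>
    show PresentedGroup.mk cSetup.rels CGen.wj ∈ _
    rw [cmk_j, map_pow]
    exact pow_mem hb 3

theorem c_card : Nat.card cSetup.G ≤ 378000 ∧ Nat.card cSetup.G ≠ 0 := by
  have h := cab_card
  rwa [c_top, Subgroup.card_top] at h

/-! ### Relations -/

/-- The element x. -/
noncomputable def hX : hSetup.G := PresentedGroup.of HGen.x
/-- The element y. -/
noncomputable def hY : hSetup.G := PresentedGroup.of HGen.y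
/-- The element z. -/
noncomputable def hZ : hSetup.G := PresentedGroup.of HGen.z
/-- The element b. -/
noncomputable def hB : hSetup.G := PresentedGroup.of HGen.b

theorem el_vals : hSetup.el 0 = hX ∧ hSetup.el 1 = hX⁻¹ ∧ hSetup.el 2 = hY ∧ hSetup.el 3 = hY⁻¹ ∧
    hSetup.el 4 = hZ ∧ hSetup.el 5 = hZ⁻¹ ∧ hSetup.el 6 = hB ∧ hSetup.el 7 = hB⁻¹ :=
  ⟨rfl, rfl, rfl, rfl, rfl, rfl, rfl, rfl⟩

theorem rel_one {r : FreeGroup HGen} (h : r ∈ hRels) : PresentedGroup.mk hSetup.rels r = 1 :=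
  PresentedGroup.one_of_mem (Or.inr (by exact h))

theorem hb_def : hB = hX⁻¹ * hY * hX := by
  have h := rel_one (r := HGen.wb⁻¹ * (HGen.wx⁻¹ * HGen.wy * HGen.wx)) (by simp [hRels])
  simp only [map_mul, map_inv] at h
  exact inv_mul_eq_one.mp h

theorem hx4 : hX ^ 4 = 1 := by
  have h := Setup.seed_eq_one (S := hSetup) hSetup_gens h_letters (emb := [0, 1, 2, 3]) der_x4_check
    (by decide +kernel) [0, 1, 2, 3] [0, 0, 0, 0] (by decide +kernel)
  calc hX ^ 4 = 1 * hX * hX * hX * hX := by simp only [pow_succ, pow_zero]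
    _ = 1 := h

theorem hx2y : hX ^ 2 * hY = hY * hX ^ 2 := by
  have h := Setup.seed_eq_one (S := hSetup) hSetup_gens h_letters (emb := [0, 1, 2, 3]) der_xxy_check
    (by decide +kernel) [0, 1, 2, 3] [2, 0, 0, 3, 1, 1] (by decide +kernel)
  have h' : hX⁻¹ * hX⁻¹ * hY⁻¹ * hX * hX * hY = 1 := by
    calc hX⁻¹ * hX⁻¹ * hY⁻¹ * hX * hX * hY = 1 * hX⁻¹ * hX⁻¹ * hY⁻¹ * hX * hX * hY := by rw [one_mul]
      _ = 1 := h
  calc hX ^ 2 * hY = hY * hX ^ 2 * (hX⁻¹ * hX⁻¹ * hY⁻¹ * hX * hX * hY) := by rw [pow_two]; group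
    _ = hY * hX ^ 2 := by rw [h', mul_one]

theorem hb_conj : hX⁻¹ * hB * hX = hY := by
  calc hX⁻¹ * hB * hX = (hX ^ 2)⁻¹ * (hY * hX ^ 2) := by rw [hb_def, pow_two]; group
    _ = (hX ^ 2)⁻¹ * (hX ^ 2 * hY) := by rw [hx2y]
    _ = hY := by group

theorem conj_npow {M : Type*} [Group M] (g a : M) (n : ℕ) : (g⁻¹ * a * g) ^ n = g⁻¹ * a ^ n * g := by
  induction n with
  | zero => simp
  | succ n ih => rw [pow_succ, ih, pow_succ]; group

theorem conj_one {M : Type*} [Group M] (g a : M) (n : ℕ) (h : a ^ n = 1) : (g⁻¹ * a * g) ^ n = 1 := by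
  rw [conj_npow, h, mul_one, inv_mul_cancel]

theorem hy6 : hY ^ 6 = 1 := by
  have h := rel_one (r := HGen.wy ^ 6) (by simp [hRels])
  rwa [map_pow] at h

theorem c_rels_hold : ∀ r ∈ cSetup.rels,
    FreeGroup.lift (fun g : CGen => match g with | .a => hY | .b => hB | .j => hB ^ 3) r = 1 := by
  have hb6 : hB ^ 6 = 1 := by rw [hb_def]; exact conj_one _ _ _ hy6
  have hx22 : (hX ^ 2) ^ 4 = 1 := by rw [← pow_mul, show 2 * 4 = 4 * 2 from rfl, pow_mul, hx4, one_pow]
  have hcy : Commute (hX ^ 2) hY := hx2y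
  have hcb : Commute (hX ^ 2) hB := by
    rw [hb_def]
    exact (((Commute.refl hX).inv_right.pow_left 2).mul_right hcy).mul_right ((Commute.refl hX).pow_left 2)
  have e3 : (hY⁻¹ * hB) ^ 3 = 1 := by
    have h := rel_one (r := (HGen.wx⁻¹ * HGen.wy⁻¹ * HGen.wx * HGen.wy) ^ 3) (by simp [hRels])
    simp only [map_pow, map_mul, map_inv] at h
    have e : hY⁻¹ * hB = (hX⁻¹ * hY⁻¹ * hX * hY)⁻¹ := by rw [hb_def]; group
    rw [e, inv_pow, inv_eq_one]
    exact h
  have e4 : (hB ^ 2 * hY ^ 3) ^ 3 = 1 := by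
    have h := rel_one (r := ((HGen.wx⁻¹) * (HGen.wy ^ 2) * HGen.wx * (HGen.wy ^ 3)) ^ 3) (by simp [hRels])
    simp only [map_pow, map_mul, map_inv] at h
    rw [hb_def, conj_npow]
    exact h
  have e5 : (hY ^ 2 * hB ^ 3) ^ 3 = 1 := by
    have e : hY ^ 2 * hB ^ 3 = hX⁻¹ * (hB ^ 2 * hY ^ 3) * hX := by
      calc hY ^ 2 * hB ^ 3 = (hX⁻¹ * hB * hX) ^ 2 * (hX⁻¹ * hY * hX) ^ 3 := by rw [hb_conj, hb_def]
        _ = _ := by rw [conj_npow, conj_npow]; group
    rw [e]; exact conj_one _ _ _ e4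
  have e6 : (hY * hB) ^ 4 = 1 := by
    have h := rel_one (r := (HGen.wx * HGen.wy) ^ 8) (by simp [hRels])
    simp only [map_pow, map_mul] at h
    change (hX * hY) ^ 8 = 1 at h
    have e : (hX * hY) ^ 2 = hX ^ 2 * (hB * hY) := by rw [hb_def, pow_two]; group
    rw [show 8 = 2 * 4 from rfl, pow_mul, e, (hcb.mul_right hcy).mul_pow, hx22, one_mul] at h
    calc (hY * hB) ^ 4 = (hY⁻¹⁻¹ * (hB * hY) * hY⁻¹) ^ 4 := by congr 1; group
      _ = 1 := conj_one _ _ _ h
  have e7 : (hB * hY ^ 3) ^ 4 = 1 := by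
    have h := rel_one (r := (HGen.wx * HGen.wy * HGen.wx * (HGen.wy ^ 3)) ^ 4) (by simp [hRels])
    simp only [map_pow, map_mul] at h
    change (hX * hY * hX * hY ^ 3) ^ 4 = 1 at h
    have e : hX * hY * hX * hY ^ 3 = hX ^ 2 * (hB * hY ^ 3) := by rw [hb_def]; group
    rwa [e, (hcb.mul_right (hcy.pow_right 3)).mul_pow, hx22, one_mul] at h
  have e8 : (hY * hB ^ 3) ^ 4 = 1 := by
    have e : hY * hB ^ 3 = hX⁻¹ * (hB * hY ^ 3) * hX := by
      calc hY * hB ^ 3 = (hX⁻¹ * hB * hX) * (hX⁻¹ * hY * hX) ^ 3 := by rw [hb_conj, hb_def]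
        _ = _ := by rw [conj_npow]; group
    rw [e]; exact conj_one _ _ _ e7
  intro r hr
  rcases hr with ⟨x, hx, -⟩ | hr
  · simp [cSetup, Cfsg.Spor.coxNodes] at hx
  · change r ∈ cRels at hr
    simp only [cRels, List.mem_cons, List.not_mem_nil, or_false] at hr
    rcases hr with rfl | rfl | rfl | rfl | rfl | rfl | rfl | rfl | rfl | rfl | rfl | rfl
    all_goals simp only [map_pow, map_mul, map_inv, FreeGroup.lift_apply_of]
    · exact hy6
    · exact hb6
    · exact e3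
    · exact e4
    · exact e5
    · exact e6
    · exact e7
    · exact e8
    · rw [← pow_mul]; exact hb6
    · exact e8
    · exact e5
    · exact inv_mul_cancel _

/-- The homomorphism from the cover. -/
noncomputable def cHom : cSetup.G →* hSetup.G := PresentedGroup.toGroup c_rels_hold

theorem cHom_a : cHom (PresentedGroup.of CGen.a) = hY := PresentedGroup.toGroup.of _

theorem cHom_b : cHom (PresentedGroup.of CGen.b) = hB := PresentedGroup.toGroup.of _

theorem cHom_range_le : cHom.range ≤ Subgroup.closure {hY, hB} := by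
  rw [MonoidHom.range_eq_map, ← PresentedGroup.closure_range_of cSetup.rels, MonoidHom.map_closure,
    Subgroup.closure_le]
  rintro _ ⟨_, ⟨x, rfl⟩, rfl⟩
  cases x with
  | a => rw [cHom_a]; exact Subgroup.subset_closure (by simp)
  | b => rw [cHom_b]; exact Subgroup.subset_closure (by simp)
  | j =>
    show cHom (PresentedGroup.mk cSetup.rels CGen.wj) ∈ _
    rw [cmk_j, map_pow, map_pow]
    refine pow_mem ?_ 3
    show cHom (PresentedGroup.of CGen.b) ∈ _
    rw [cHom_b]; exact Subgroup.subset_closure (by simp)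

theorem hXY_card :
    Nat.card (hSetup.closureOf hsXY) ≤ 1512000 ∧ Nat.card (hSetup.closureOf hsXY) ≠ 0 := by
  have hfin : Finite cSetup.G := Nat.finite_of_card_ne_zero c_card.2
  set N := cHom.range with hN
  have hNfin : Finite N := Finite.of_surjective _ cHom.rangeRestrict_surjective
  have hNcard : Nat.card N ≤ 378000 :=
    le_trans (Nat.card_le_card_of_surjective _ cHom.rangeRestrict_surjective) c_card.1
  have hyN : hY ∈ N := ⟨_, cHom_a⟩
  have hbN : hB ∈ N := ⟨_, cHom_b⟩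
  have hconj : ∀ n ∈ N, hX * n * hX⁻¹ ∈ N := by
    intro n hn
    have hn' : n ∈ Subgroup.closure ({hY, hB} : Set hSetup.G) := cHom_range_le hn
    clear hn
    induction hn' using Subgroup.closure_induction with
    | mem a ha =>
      rcases ha with rfl | rfl
      · have : hX * hY * hX⁻¹ = hB := by rw [← hb_conj]; group
        rw [this]; exact hbN
      · have : hX * hB * hX⁻¹ = hY := by rw [hb_def]; group
        rw [this]; exact hyN
    | one => simp
    | mul a b _ _ ha hb => rw [show hX * (a * b) * hX⁻¹ = hX * a * hX⁻¹ * (hX * b * hX⁻¹) from by group]; exact mul_mem ha hb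
    | inv a _ ha => rw [show hX * a⁻¹ * hX⁻¹ = (hX * a * hX⁻¹)⁻¹ from by group]; exact inv_mem ha
  have hpow : ∀ i : ℕ, hX ^ i = hX ^ (i % 4) := fun i => by
    conv_lhs => rw [← Nat.div_add_mod i 4, pow_add, pow_mul, hx4, one_pow, one_mul]
  have hconjk : ∀ (k : ℕ) (n : hSetup.G), n ∈ N → hX ^ k * n * (hX ^ k)⁻¹ ∈ N := by
    intro k
    induction k with
    | zero => intro n hn; simpa using hn
    | succ k ih =>
      intro n hn
      rw [show hX ^ (k + 1) * n * (hX ^ (k + 1))⁻¹ = hX * (hX ^ k * n * (hX ^ k)⁻¹) * hX⁻¹ from by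
        rw [pow_succ']; group]
      exact hconj _ (ih n hn)
  let T : Subgroup hSetup.G :=
    { carrier := {g | ∃ n ∈ N, ∃ i : ℕ, g = n * hX ^ i}
      one_mem' := ⟨1, one_mem _, 0, by simp⟩
      mul_mem' := by
        rintro _ _ ⟨n, hn, i, rfl⟩ ⟨m, hm, j, rfl⟩
        exact ⟨n * (hX ^ i * m * (hX ^ i)⁻¹), mul_mem hn (hconjk i m hm), i + j, by rw [pow_add]; group⟩
      inv_mem' := by
        rintro _ ⟨n, hn, i, rfl⟩
        have e : (hX ^ i)⁻¹ = hX ^ (3 * i) := by
          refine inv_eq_of_mul_eq_one_right ?_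
          rw [← pow_add, show i + 3 * i = 4 * i from by ring, pow_mul, hx4, one_pow]
        refine ⟨hX ^ (3 * i) * n⁻¹ * (hX ^ (3 * i))⁻¹, hconjk _ _ (inv_mem hn), 3 * i, ?_⟩
        rw [mul_inv_rev, e]; group }
  have hle : hSetup.closureOf hsXY ≤ T := by
    rw [Setup.closureOf, Subgroup.closure_le]
    rintro _ ⟨r, hr, rfl⟩
    simp only [hsXY, List.mem_cons, List.not_mem_nil, or_false, Set.mem_ofPred_eq] at hr
    rcases hr with rfl | rfl
    · exact ⟨1, one_mem _, 1, by rw [one_mul, pow_one]; rfl⟩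
    · exact ⟨hY, hyN, 0, by rw [pow_zero, mul_one]; rfl⟩
  let f : N × Fin 4 → T := fun p => ⟨(p.1 : hSetup.G) * hX ^ p.2.val, p.1, p.1.2, p.2.val, rfl⟩
  have hf : Function.Surjective f := by
    rintro ⟨_, n, hn, i, rfl⟩
    exact ⟨(⟨n, hn⟩, ⟨i % 4, Nat.mod_lt _ (by norm_num)⟩), Subtype.ext (by simp [f, ← hpow i])⟩
  haveI : Finite T := Finite.of_surjective f hf
  haveI : Finite (hSetup.closureOf hsXY) := Finite.of_injective _ (Subgroup.inclusion_injective hle)
  refine ⟨le_trans (Nat.card_le_card_of_injective _ (Subgroup.inclusion_injective hle))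
    (le_trans (Nat.card_le_card_of_surjective f hf) ?_), Nat.card_pos.ne'⟩
  rw [Nat.card_prod, Nat.card_fin]
  omega

theorem h_xrel : ∀ w ∈ [[0, 0, 0, 0], [2, 0, 0, 3, 1, 1]],
    ev (fun a => hSetup.el (([0, 1, 2, 3, 4, 5] : List ℕ).getD a 0)) w = 1 := by
  intro w hw
  simp only [List.mem_cons, List.not_mem_nil, or_false] at hw
  rcases hw with rfl | rfl
  · calc _ = 1 * hX * hX * hX * hX := rfl
      _ = 1 := by rw [one_mul]; simpa [pow_succ] using hx4
  · calc _ = 1 * hX⁻¹ * hX⁻¹ * hY⁻¹ * hX * hX * hY := rfl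
      _ = (hY * hX ^ 2)⁻¹ * (hX ^ 2 * hY) := by rw [pow_two]; group
      _ = 1 := by rw [hx2y, inv_mul_cancel]

theorem h_top : hSetup.letterGroup [0, 1, 2, 3, 4, 5] = ⊤ := by
  have hm : ∀ a ∈ ([0, 1, 2, 3, 4, 5] : List ℕ), hSetup.el a ∈ hSetup.letterGroup [0, 1, 2, 3, 4, 5] :=
    fun a ha => Subgroup.subset_closure ⟨a, ha, rfl⟩
  have hx : hX ∈ hSetup.letterGroup [0, 1, 2, 3, 4, 5] := hm 0 (by simp)
  have hy : hY ∈ hSetup.letterGroup [0, 1, 2, 3, 4, 5] := hm 2 (by simp)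
  have hb : hB ∈ hSetup.letterGroup [0, 1, 2, 3, 4, 5] := hb_def ▸ mul_mem (mul_mem (inv_mem hx) hy) hx
  rw [eq_top_iff, ← PresentedGroup.closure_range_of hSetup.rels, Subgroup.closure_le]
  rintro _ ⟨x, rfl⟩
  cases x with
  | x => exact hx
  | y => exact hy
  | z => exact hm 4 (by simp)
  | b => exact hb
  | j =>
    have h := rel_one (r := HGen.wj⁻¹ * (HGen.wb ^ 3)) (by simp [hRels])
    simp only [map_mul, map_inv, map_pow] at h
    show PresentedGroup.mk hSetup.rels HGen.wj ∈ _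
    rw [inv_mul_eq_one.mp h]
    exact pow_mem hb 3

theorem card_hg_le : Nat.card hSetup.G ≤ 532224000 ∧ Nat.card hSetup.G ≠ 0 := by
  have h := Setup.card_step hSetup_gens h_letters h352 h352_check [0, 1, 2, 3, 4, 5] (by decide +kernel) hsXY
    h352_ext [[0, 0, 0, 0], [2, 0, 0, 3, 1, 1]] (by decide +kernel) (by decide +kernel) h_xrel h352_ext_fix hXY_card
  rw [h_top, Subgroup.card_top] at h
  exact h

end Cfsg.Agent.HNPres
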