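/-
Words of atoms and their images of points.
Main results: `E` (element of a word), `pi` (action on 1408 points), `img_spec`, `chain_low`, `sub_le_of_cert`.
-/
import Cfsg.Agent.Lib.HNPres.AtomCheck0
import Cfsg.Agent.Lib.HNPres.AtomCheck1
import Cfsg.Agent.Lib.HNPres.AtomCheck2
import Cfsg.Agent.Lib.HNPres.AtomCheck3
import Cfsg.Agent.Lib.HNPres.AtomCheck4
import Cfsg.Agent.Lib.HNPres.AtomCheck5
import Cfsg.Agent.Lib.StabCert.Chain

set_option autoImplicit false
set_option maxRecDepth 100000
set_option Elab.async false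

namespace Cfsg.Agent.HNPres

open Cfsg.Agent.CosetEnum Cfsg.Agent.CosetEnum.Data
open Cfsg.Agent.StabCert (distinctFrom distinctFrom_spec)

/-- The presented group on `x, y, z, b, j`. -/
abbrev HG : Type := hSetup.G

theorem d1408_facts : d1408.PermFacts := Data.permFacts d1408_perm

/-- The action on 1408 points. -/
noncomputable def pi : HG →* Equiv.Perm (Fin d1408.n) :=
  Setup.hom hSetup_gens d1408_letters d1408_facts d1408_rels

/-- The letters of a word of atoms. -/
noncomputable def word (r : List ℕ) : List ℕ := r.flatMap awT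

/-- The element of a word of atoms. -/
noncomputable def E (r : List ℕ) : HG := ev hSetup.el (word r)

theorem E_nil : E [] = 1 := rfl

theorem E_append (r s : List ℕ) : E (r ++ s) = E s * E r := by
  simp only [E, word, List.flatMap_append, ev_append]

theorem E_cons (a : ℕ) (r : List ℕ) : E (a :: r) = E r * E [a] := E_append [a] r

/-- The inverse word. -/
def winv (r : List ℕ) : List ℕ := (r.map flipA).reverse

theorem atoms_ok (a : ℕ) (ha : a < 1458) : atomOK a = true := by
  have key : ∀ q < 59, atomChunk q = true := by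
    intro q hq
    interval_cases q
    exacts [atoms_chunk0, atoms_chunk1, atoms_chunk2, atoms_chunk3, atoms_chunk4, atoms_chunk5, atoms_chunk6, atoms_chunk7, atoms_chunk8, atoms_chunk9, atoms_chunk10, atoms_chunk11, atoms_chunk12, atoms_chunk13, atoms_chunk14, atoms_chunk15, atoms_chunk16, atoms_chunk17, atoms_chunk18, atoms_chunk19, atoms_chunk20, atoms_chunk21, atoms_chunk22, atoms_chunk23, atoms_chunk24, atoms_chunk25, atoms_chunk26, atoms_chunk27, atoms_chunk28, atoms_chunk29, atoms_chunk30, atoms_chunk31, atoms_chunk32, atoms_chunk33, atoms_chunk34, atoms_chunk35, atoms_chunk36, atoms_chunk37, atoms_chunk38, atoms_chunk39, atoms_chunk40, atoms_chunk41, atoms_chunk42, atoms_chunk43, atoms_chunk44, atoms_chunk45, atoms_chunk46, atoms_chunk47, atoms_chunk48, atoms_chunk49, atoms_chunk50, atoms_chunk51, atoms_chunk52, atoms_chunk53, atoms_chunk54, atoms_chunk55, atoms_chunk56, atoms_chunk57, atoms_chunk58]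
  have h := key (a / 25) (by omega)
  unfold atomChunk at h
  have h2 := List.all_eq_true.mp h (a % 25) (List.mem_range.mpr (Nat.mod_lt _ (by norm_num)))
  rwa [Nat.mod_add_div] at h2

theorem atom_pad : atomOK 1458 = true := by decide +kernel

theorem awT_ge {b : ℕ} (h : ¬ b < 1458) : awT b = [] := by
  have hb : Nat.blt b 1458 = false := by rw [← Bool.not_eq_true, Nat.blt_eq]; exact h
  unfold awT
  rw [hb, cond_false]

theorem vecT_ge {b : ℕ} (h : ¬ b < 1458) : vecT b = vecT 1458 := by
  have hb : Nat.blt b 1458 = false := by rw [← Bool.not_eq_true, Nat.blt_eq]; exact h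
  have hN : Nat.blt 1458 1458 = false := by decide
  unfold vecT
  rw [hb, hN, cond_false, cond_false]

theorem atom_spec (a : ℕ) : (∀ l ∈ awT a, l < 10) ∧ vecT a = d1408.trace (awT a) ∧
    awT (flipA a) = Data.winv (D := d1408) (awT a) := by
  have key : ∀ c, atomOK c = true → (∀ l ∈ awT c, l < 10) ∧ vecT c = d1408.trace (awT c) ∧
      awT (flipA c) = Data.winv (D := d1408) (awT c) := fun c hc => by
    simpa only [atomOK, Bool.and_eq_true, List.all_eq_true, Nat.blt_eq, decide_eq_true_eq, beq_iff] using hc
  by_cases ha : a < 1458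
  · exact key a (atoms_ok a ha)
  · have hf : ¬ flipA a < 1458 := by
      simp only [flipA]
      split <;> omega
    have hf' : ¬ flipA 1458 < 1458 := by decide
    have h := key 1458 atom_pad
    rw [awT_ge ha, vecT_ge ha, awT_ge hf]
    rw [awT_ge (lt_irrefl _), awT_ge hf'] at h
    exact h

theorem word_lt (r : List ℕ) : ∀ l ∈ word r, l < d1408.k := by
  intro l hl
  obtain ⟨a, -, ha⟩ := List.mem_flatMap.mp hl
  exact (atom_spec a).1 l ha

theorem ev_winv {M : Type*} [Group M] (el : ℕ → M) (hel : ∀ a < d1408.k, el (d1408.invl a) * el a = 1) :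
    ∀ w : List ℕ, (∀ a ∈ w, a < d1408.k) → ev el (Data.winv (D := d1408) w) = (ev el w)⁻¹
  | [], _ => by simp [Data.winv, ev]
  | a :: v, h => by
    have e : Data.winv (D := d1408) (a :: v) = Data.winv (D := d1408) v ++ [d1408.invl a] := by
      simp [Data.winv]
    rw [e, ev_append, ev_winv el hel v fun b hb => h b (List.mem_cons_of_mem a hb)]
    show 1 * el (d1408.invl a) * (ev el v)⁻¹ = (ev el v * el a)⁻¹
    rw [one_mul, mul_inv_rev, eq_inv_of_mul_eq_one_left (hel a (h a List.mem_cons_self))]

theorem E_flip (a : ℕ) : E [flipA a] = (E [a])⁻¹ := by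
  simp only [E, word, List.flatMap_cons, List.flatMap_nil, List.append_nil]
  rw [(atom_spec a).2.2, ev_winv _ (Setup.el_inv hSetup_gens d1408_letters) _ (atom_spec a).1]

theorem E_winv : ∀ r : List ℕ, E (winv r) = (E r)⁻¹
  | [] => by simp [winv, E_nil]
  | a :: r => by
    have e : winv (a :: r) = winv r ++ [flipA a] := by simp [winv]
    rw [e, E_append, E_winv r, E_flip, E_cons a r, mul_inv_rev]

/-- Image of a point under a word of atoms. -/
noncomputable def img (r : List ℕ) (i : ℕ) : ℕ :=
  List.rec (motive := fun _ => ℕ → ℕ) (fun i => i) (fun a _ ih i => force (lane 12 (vecT a) i) ih) r i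

theorem img_cons (a : ℕ) (r : List ℕ) (i : ℕ) : img (a :: r) i = img r (lane 12 (vecT a) i) := by
  show force (lane 12 (vecT a) i) (fun j => img r j) = _
  rw [force_eq]

theorem img_eq_tw : ∀ (r : List ℕ) (i : ℕ), i < 1408 → img r i = d1408.tw (word r) i
  | [], _, _ => rfl
  | a :: r, i, hi => by
    have hp := d1408_facts
    have hw := (atom_spec a).1
    have h2 : i < 2 ^ d1408.lg := by show i < 2 ^ 11; omega
    have e : lane 12 (vecT a) i = d1408.tw (awT a) i := by
      rw [(atom_spec a).2.1, Data.trace_eq hp _ hw]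
      exact lane_pack hp.hB (fun j hj => self_lt_two_pow_of_lt (by have := hp.hlg; omega)
        (Data.tw_lt hp _ hw j hj)) h2
    rw [img_cons, e, word, List.flatMap_cons, Data.tw_append]
    exact img_eq_tw r _ (Data.tw_lt_n hp _ hw i hi)

theorem pi_ev : ∀ w : List ℕ, (∀ a ∈ w, a < d1408.k) →
    pi (ev hSetup.el w) = ev (Setup.perm d1408 d1408_facts) w
  | [], _ => map_one pi
  | a :: v, h => by
    show pi (ev hSetup.el v * hSetup.el a) = _
    rw [map_mul, pi_ev v fun b hb => h b (List.mem_cons_of_mem a hb), pi,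
      Setup.hom_el hSetup_gens d1408_letters d1408_facts d1408_rels (h a List.mem_cons_self)]
    rfl

/-- The numbered points. -/
def pt (i : ℕ) : Fin d1408.n := Fin.ofNat 1408 i

theorem val_pt {i : ℕ} (h : i < 1408) : (pt i : ℕ) = i := Nat.mod_eq_of_lt h

theorem pt_val (p : Fin d1408.n) : pt p = p := Fin.ext (Nat.mod_eq_of_lt p.isLt)

theorem img_spec (r : List ℕ) {i : ℕ} (hi : i < 1408) :
    img r i < 1408 ∧ pi (E r) (pt i) = pt (img r i) := by
  have h1 : img r i < 1408 := by
    rw [img_eq_tw r i hi]; exact Data.tw_lt_n d1408_facts _ (word_lt r) i hi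
  refine ⟨h1, Fin.ext ?_⟩
  rw [E, pi_ev _ (word_lt r), Setup.ev_perm d1408_facts _ (word_lt r), val_pt hi, val_pt h1, img_eq_tw r i hi]

/-- A level of a chain. -/
structure Lev where
  b : ℕ
  gens : List ℕ
  words : List (List ℕ)
  cert : List (ℕ × List ℕ)

/-- Generators of the first level. -/
def topGens : List Lev → List ℕ
  | [] => []
  | L :: _ => L.gens

/-- The product of the orbit lengths. -/
def size : List Lev → ℕ
  | [] => 1
  | L :: r => L.words.length * size r

/-- Checks of a level, for a lower bound. -/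
noncomputable def levLow (next : List ℕ) (L : Lev) : Bool :=
  Nat.blt L.b 1408 && ((next.all fun g => L.gens.contains g && Nat.beq (img [g] L.b) L.b) &&
    ((L.words.all fun w => w.all fun g => L.gens.contains g) && distinctFrom (L.words.map fun w => img w L.b) 0))

/-- Checks of a chain, for a lower bound. -/
noncomputable def chainLow : List Lev → Bool
  | [] => true
  | L :: r => levLow (topGens r) L && chainLow r

/-- The subgroup of some atoms. -/
noncomputable def sub (gens : List ℕ) : Subgroup HG := Subgroup.closure ((fun g => E [g]) '' {g | g ∈ gens})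

theorem E_mem {gens : List ℕ} : ∀ r : List ℕ, (∀ a ∈ r, a ∈ gens) → E r ∈ sub gens
  | [], _ => by rw [E_nil]; exact one_mem _
  | a :: r, h => by
    rw [E_cons]
    exact mul_mem (E_mem r fun b hb => h b (List.mem_cons_of_mem a hb))
      (Subgroup.subset_closure ⟨a, h a List.mem_cons_self, rfl⟩)

/-- The elements fixing the base points of a chain. -/
noncomputable def fixAll : List Lev → Subgroup HG
  | [] => ⊤
  | L :: r => (MulAction.stabilizer (Equiv.Perm (Fin d1408.n)) (pt L.b)).comap pi ⊓ fixAll r

theorem chain_low [Finite HG] : ∀ ch : List Lev, chainLow ch = true → ∀ P : Subgroup HG,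
    (∀ g ∈ topGens ch, E [g] ∈ P) →
    Nat.card (P ⊓ fixAll ch : Subgroup HG) * size ch ≤ Nat.card P
  | [], _, P, _ => by simp [size, fixAll]
  | L :: r, h, P, hP => by
    simp only [chainLow, levLow, Bool.and_eq_true, List.all_eq_true, List.contains_iff_mem, beq_iff,
      Nat.blt_eq] at h
    obtain ⟨⟨hb, hnext, hw, hd⟩, hr⟩ := h
    set S := (MulAction.stabilizer (Equiv.Perm (Fin d1408.n)) (pt L.b)).comap pi with hS
    have ih := chain_low r hr (P ⊓ S) fun g hg => ⟨hP g (hnext g hg).1, by
      show pi (E [g]) (pt L.b) = pt L.b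
      rw [(img_spec [g] hb).2, (hnext g hg).2]⟩
    have e : (P ⊓ S) ⊓ fixAll r = P ⊓ fixAll (L :: r) := by rw [inf_assoc, hS, fixAll]
    rw [e] at ih
    have hinj := (distinctFrom_spec _ _ hd).1
    let f : Fin L.words.length × (P ⊓ S : Subgroup HG) → P := fun p =>
      ⟨E L.words[p.1.val] * p.2, mul_mem (by
        have hsub : sub L.gens ≤ P := by
          rw [sub, Subgroup.closure_le]
          rintro _ ⟨g, hg, rfl⟩
          exact hP g hg
        exact hsub (E_mem _ (hw _ (List.getElem_mem p.1.isLt)))) p.2.2.1⟩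
    have hf : Function.Injective f := by
      rintro ⟨i, p⟩ ⟨j, q⟩ e
      have e' := congrArg Subtype.val e
      have e2 := congrArg (fun g : HG => pi g (pt L.b)) e'
      simp only [f, map_mul, Equiv.Perm.mul_apply] at e2
      have hp : pi (p : HG) (pt L.b) = pt L.b := p.2.2
      have hq : pi (q : HG) (pt L.b) = pt L.b := q.2.2
      rw [hp, hq, (img_spec _ hb).2, (img_spec _ hb).2] at e2
      have e3 := congrArg Fin.val e2
      rw [val_pt (img_spec _ hb).1, val_pt (img_spec _ hb).1] at e3
      have hij : i = j := Fin.ext ((List.Nodup.getElem_inj_iff hinj (hi := by simp) (hj := by simp)).1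
        (by simpa using e3))
      subst hij
      simp only [f, mul_right_inj] at e'
      exact Prod.ext rfl (Subtype.ext e')
    have := Nat.card_le_card_of_injective f hf
    rw [Nat.card_prod, Nat.card_fin] at this
    calc _ = L.words.length * (Nat.card (P ⊓ fixAll (L :: r) : Subgroup HG) * size r) := by
          simp only [size]; ring
      _ ≤ L.words.length * Nat.card (P ⊓ S : Subgroup HG) := Nat.mul_le_mul_left _ ih
      _ ≤ _ := this

theorem size_le [Finite HG] (ch : List Lev) (h : chainLow ch = true) : size ch ≤ Nat.card (sub (topGens ch)) := by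
  refine le_trans (Nat.le_mul_of_pos_left _ Nat.card_pos) (chain_low ch h _ fun g hg => ?_)
  exact Subgroup.subset_closure ⟨g, hg, rfl⟩

end Cfsg.Agent.HNPres
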