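/-
Exact orders of subgroups given by closed chains, and equality through base images.
Main results: `sameB_spec`, `chain_up`, `fix0_spec`.
-/
import Cfsg.Agent.Lib.HNPres.Core

set_option autoImplicit false
set_option maxRecDepth 100000
set_option Elab.async false

namespace Cfsg.Agent.HNPres

open Cfsg.Agent.CosetEnum Cfsg.Agent.CosetEnum.Data

/-- Two words with the same images on the given points. -/
noncomputable def sameOn (B : List ℕ) (r s : List ℕ) : Bool :=
  B.all fun b => Nat.blt b 1408 && Nat.beq (img r b) (img s b)

/-- One entry of the closure certificate. -/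
noncomputable def upStep (B next : List ℕ) (words : List (List ℕ)) (p : List ℕ) (c : ℕ × List ℕ) : Bool :=
  Nat.blt c.1 words.length && ((c.2.all fun g => next.contains g) &&
    sameOn B p (c.2 ++ words.getD c.1 []))

/-- The Schreier generators of a level lie in the next one. -/
noncomputable def levUp (B next : List ℕ) (L : Lev) : Bool :=
  (L.words.all fun w => w.all fun g => L.gens.contains g) && ((L.words.headD [0]).isEmpty &&
    (Nat.beq L.cert.length (L.words.length * L.gens.length) &&
      ((List.zip (L.words.flatMap fun w => L.gens.map fun g => w ++ [g]) L.cert).all fun p =>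
        upStep B next L.words p.1 p.2)))

/-- Checks of a closed chain. -/
noncomputable def chainUp (B : List ℕ) : List Lev → Bool
  | [] => true
  | L :: r => levUp B (topGens r) L && chainUp B r

/-- Equality is decided on a list of points. -/
def Det (B : List ℕ) : Prop := ∀ g : HG, (∀ b ∈ B, pi g (pt b) = pt b) → g = 1

theorem sameOn_spec {B : List ℕ} (hd : Det B) {r s : List ℕ} (h : sameOn B r s = true) : E r = E s := by
  simp only [sameOn, List.all_eq_true, Bool.and_eq_true, Nat.blt_eq, beq_iff] at h
  refine inv_mul_eq_one.mp (hd _ fun b hb => ?_)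
  obtain ⟨hb', e⟩ := h b hb
  rw [map_mul, map_inv, Equiv.Perm.mul_apply, Equiv.Perm.inv_eq_iff_eq, (img_spec r hb').2,
    (img_spec s hb').2, e]

theorem mem_zip_of_mem {α β : Type*} : ∀ {l : List α} {m : List β} {a : α}, l.length = m.length → a ∈ l →
    ∃ b, (a, b) ∈ List.zip l m
  | [], _, _, _, ha => absurd ha List.not_mem_nil
  | x :: l, [], _, h, _ => by simp at h
  | x :: l, y :: m, a, h, ha => by
    rcases List.mem_cons.1 ha with rfl | ha
    · exact ⟨y, List.mem_cons_self⟩
    · obtain ⟨b, hb⟩ := mem_zip_of_mem (l := l) (m := m) (by simpa using h) ha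
      exact ⟨b, List.mem_cons_of_mem _ hb⟩

theorem length_prod (ws : List (List ℕ)) (gs : List ℕ) :
    (ws.flatMap fun w => gs.map fun g => w ++ [g]).length = ws.length * gs.length := by
  induction ws with
  | nil => simp
  | cons w ws ih => simp [List.flatMap_cons, ih, Nat.succ_mul, Nat.add_comm]

theorem chain_up [Finite HG] {B : List ℕ} (hd : Det B) :
    ∀ ch : List Lev, chainUp B ch = true → Nat.card (sub (topGens ch)) ≤ size ch
  | [], _ => by
    have : sub (topGens []) = ⊥ := by simp [sub, topGens]
    rw [this, Subgroup.card_bot]; rfl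
  | L :: r, h => by
    simp only [chainUp, levUp, upStep, Bool.and_eq_true, List.all_eq_true, List.contains_iff_mem, beq_iff,
      Nat.blt_eq] at h
    obtain ⟨⟨hw, hhead, hlen, hcert⟩, hr⟩ := h
    have ih := chain_up hd r hr
    set K := sub (topGens r) with hK
    set A := sub L.gens with hA
    have hpos : 0 < L.words.length := by
      rcases hw' : L.words with _ | ⟨a, l⟩
      · rw [hw'] at hhead; simp at hhead
      · simp
    have hw0 : L.words[0] = [] := StabCert.getElem_zero_of_head hhead hpos
    let T : Set HG := {g | ∃ (i : Fin L.words.length) (k : HG), k ∈ K ∧ g = E L.words[i.val] * k}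
    have hstep : ∀ g ∈ L.gens, ∀ x ∈ T, E [g] * x ∈ T := by
      rintro g hg _ ⟨i, k, hk, rfl⟩
      obtain ⟨⟨j, low⟩, hjl⟩ := mem_zip_of_mem (l := L.words.flatMap fun w => L.gens.map fun g => w ++ [g])
        (m := L.cert) (a := L.words[i.val] ++ [g]) (by
          rw [hlen, length_prod])
        (List.mem_flatMap.2 ⟨_, List.getElem_mem i.isLt, List.mem_map.2 ⟨g, hg, rfl⟩⟩)
      obtain ⟨hj, hlow, hs⟩ := hcert _ hjl
      have e := sameOn_spec hd hs
      rw [E_append, E_append, List.getD_eq_getElem _ _ hj] at e
      exact ⟨⟨j, hj⟩, E low * k, mul_mem (E_mem low hlow) hk, by rw [← mul_assoc, e, mul_assoc]⟩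
    have hAT : ∀ x ∈ A, x ∈ T := by
      intro x hx
      have hx' : x ∈ Submonoid.closure ((fun g => E [g]) '' {g | g ∈ L.gens}) := by
        rw [← Subgroup.closure_toSubmonoid_of_finite]
        exact hx
      induction hx' using Submonoid.closure_induction_left with
      | one => exact ⟨⟨0, hpos⟩, 1, one_mem _, by simp [hw0, E_nil]⟩
      | mul_left a ha b hb ih2 =>
        obtain ⟨g, hg, rfl⟩ := ha
        refine hstep g hg b (ih2 ?_)
        have : b ∈ A.toSubmonoid := by
          rw [hA, sub, Subgroup.closure_toSubmonoid_of_finite]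
          exact hb
        exact this
    let q : {p : Fin L.words.length × K // E L.words[p.1.val] * (p.2 : HG) ∈ A} → A := fun p => ⟨_, p.2⟩
    have hq : Function.Surjective q := fun x => by
      obtain ⟨i, k, hk, e⟩ := hAT x x.2
      exact ⟨⟨(i, ⟨k, hk⟩), e ▸ x.2⟩, Subtype.ext e.symm⟩
    have := le_trans (Nat.card_le_card_of_surjective q hq)
      (Nat.card_le_card_of_injective _ Subtype.val_injective)
    rw [Nat.card_prod, Nat.card_fin] at this
    calc Nat.card (sub (topGens (L :: r))) = Nat.card A := rfl
      _ ≤ L.words.length * Nat.card K := this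
      _ ≤ L.words.length * size r := Nat.mul_le_mul_left _ ih
      _ = size (L :: r) := rfl

theorem chain_exact [Finite HG] {B : List ℕ} (hd : Det B) (ch : List Lev)
    (h1 : chainLow ch = true) (h2 : chainUp B ch = true) : Nat.card (sub (topGens ch)) = size ch :=
  le_antisymm (chain_up hd ch h2) (size_le ch h1)

end Cfsg.Agent.HNPres
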