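/-
The checks of the chain of the presented group on `x, y, z`.
-/
import Cfsg.Agent.Lib.HNPres.HData

set_option autoImplicit false
set_option maxRecDepth 100000
set_option Elab.async false

namespace Cfsg.Agent.HNPres

theorem hChain_low : chainLow hChain = true := by decide +kernel

theorem hChain_size : size hChain = 177408000 := by decide +kernel

theorem hChain_base : hChain.map (fun L => L.b) = baseB := by decide +kernel

end Cfsg.Agent.HNPres
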