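/-
Words connecting the hundred-point images with the generators of `hsPerm` (generated).
-/
import Cfsg.Agent.EqLemmas

set_option autoImplicit false

namespace Cfsg.Agent.HNPres

/-- A word. -/
def gWordX : List ℕ := [0, 7, 0, 2, 6, 4, 2, 5, 8, 5, 8, 6, 6, 8]

/-- A word. -/
def gWordY : List ℕ := [7, 0, 7, 5, 3, 4, 7, 6, 4, 7, 6, 7]

/-- A word. -/
def gWordZYZ : List ℕ := [7, 0, 3, 3, 2, 4, 4, 5, 4, 4, 6, 6]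

/-- A word. -/
def hWordA : List ℕ := [4, 2, 4, 0, 4, 2, 4, 2, 4, 2, 4, 0, 4, 2, 4, 2, 4, 2, 4, 4, 2, 4, 4, 2, 4, 2, 2, 2, 4, 0, 4, 0, 4, 0, 4, 4, 3, 4, 4, 1, 4, 4, 3, 4, 4, 3, 4, 3, 4, 3, 4, 3, 4, 3, 4, 4, 1, 4, 4, 3, 4, 4, 3, 4, 3, 4, 3, 4, 3, 4, 3, 4, 4, 1, 4, 4, 3, 4, 4, 3, 4, 3, 4, 3, 4, 3, 4, 3, 4, 4, 1, 4, 4, 3, 4, 4, 3, 4, 3, 4, 3, 4, 3, 4, 1, 4, 1, 4, 1, 4, 3, 3, 3, 4, 3, 4, 4, 3, 4, 4, 3, 4, 3, 4, 3, 4, 1, 4, 3, 4, 3, 4, 3, 4, 1, 4, 3, 4]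

/-- A word. -/
def hWordB : List ℕ := [4, 3, 4, 1, 4, 3, 4, 3, 1, 1, 4, 1, 4, 4, 3, 4, 4, 3, 4, 3, 1, 1, 1, 3, 1, 4, 1, 4, 4, 3, 4, 1, 1, 3, 1, 4, 1, 4, 3, 4, 3, 4, 3, 4, 1, 4, 4, 3, 4, 1]

end Cfsg.Agent.HNPres
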