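/-
The action of the presented group on the hundred points and the subgroup of index two.
Main results: `sigma`, `parity`, `evenH`, `evenH_perfect`, `psi`, `psi_surjective`.
-/
import Cfsg.Agent.Lib.HNPres.Bound
import Cfsg.Agent.Lib.HNPres.Perm100
import Cfsg.Agent.Lib.HNPres.Words100
import Cfsg.Agent.Lib.HigmanSimsPerm.Basic

set_option autoImplicit false
set_option maxRecDepth 100000
set_option Elab.async false

namespace Cfsg.Agent.HNPres

open Cfsg.Agent.CosetEnum Cfsg.Agent.CosetEnum.Data
open scoped commutatorElement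

theorem d100_facts : d100.PermFacts := Data.permFacts d100_perm

/-- The action on the hundred points. -/
noncomputable def sigma : hSetup.G →* Equiv.Perm (Fin 100) :=
  Setup.hom hSetup_gens d100_letters d100_facts d100_rels

theorem sigma_ev : ∀ w : List ℕ, (∀ a ∈ w, a < d100.k) →
    sigma (ev hSetup.el w) = ev (Setup.perm d100 d100_facts) w
  | [], _ => map_one sigma
  | a :: v, h => by
    show sigma (ev hSetup.el v * hSetup.el a) = _
    rw [map_mul, sigma_ev v fun b hb => h b (List.mem_cons_of_mem a hb)]
    rw [show sigma (hSetup.el a) = Setup.perm d100 d100_facts a from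
      Setup.hom_el hSetup_gens d100_letters d100_facts d100_rels (h a List.mem_cons_self)]
    rfl

/-- A word acts as a word in the generators of `hsPerm`. -/
noncomputable def agree (w l : List ℕ) : Bool :=
  (w.all fun a => Nat.blt a d100.k) && ((l.all fun a => Nat.blt a 9) &&
    (List.range 100).all fun i => Nat.beq (d100.tw w i) (StabCert.ev 7 HSPerm.tab l i))

theorem agree_spec {w l : List ℕ} (h : agree w l = true) :
    sigma (ev hSetup.el w) = StabCert.wordEl HSPerm.gen l := by
  simp only [agree, Bool.and_eq_true, List.all_eq_true, List.mem_range, Nat.blt_eq, beq_iff] at h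
  obtain ⟨hw, hl, he⟩ := h
  refine Equiv.ext fun i => Fin.ext ?_
  obtain ⟨h1, h2⟩ := StabCert.ev_spec HSPerm.sound l hl i.val i.isLt
  rw [sigma_ev w hw]
  refine (Setup.ev_perm d100_facts w hw i).trans ?_
  have h3 : StabCert.wordEl HSPerm.gen l i = HSPerm.pt (StabCert.ev 7 HSPerm.tab l i) := by
    have := h2
    rw [MonoidHom.id_apply, HSPerm.pt_val] at this
    exact this
  rw [h3, HSPerm.val_pt h1]
  exact he i.val i.isLt

theorem agree_x : agree [1] gWordX = true := by decide +kernel
theorem agree_y : agree [3] gWordY = true := by decide +kernel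
theorem agree_zyz : agree [4, 3, 4] gWordZYZ = true := by decide +kernel
theorem agree_a : agree hWordA [0] = true := by decide +kernel
theorem agree_b : agree hWordB [1] = true := by decide +kernel
theorem sigma_xx_ok : agree [0, 0] [] = true := by decide +kernel

theorem sigma_mem {w l : List ℕ} (h : agree w l = true) : sigma (ev hSetup.el w) ∈ HSPerm.hsPerm := by
  rw [agree_spec h]
  simp only [agree, Bool.and_eq_true, List.all_eq_true, List.mem_range, Nat.blt_eq] at h
  exact StabCert.wordEl_mem HSPerm.gen fun k hk => List.mem_range.2 (h.2.1 k hk)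

/-! ### The parity -/

/-- The images in the group of order two. -/
def parVal : HGen → Multiplicative (ZMod 2)
  | .z => Multiplicative.ofAdd 1
  | _ => 1

theorem parity_rels : ∀ r ∈ hSetup.rels, FreeGroup.lift parVal r = 1 := by
  intro r hr
  rcases hr with ⟨x, hx, -⟩ | hr
  · simp [hSetup, Cfsg.Spor.coxNodes] at hx
  · change r ∈ hRels at hr
    simp only [hRels, List.mem_cons, List.not_mem_nil, or_false] at hr
    rcases hr with rfl | rfl | rfl | rfl | rfl | rfl | rfl | rfl | rfl | rfl | rfl | rfl
    all_goals simp only [map_pow, map_mul, map_inv, FreeGroup.lift_apply_of, parVal]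
    all_goals decide

/-- The parity of the exponent of z. -/
noncomputable def parity : hSetup.G →* Multiplicative (ZMod 2) := PresentedGroup.toGroup parity_rels

/-- The subgroup of index two. -/
noncomputable def evenH : Subgroup hSetup.G := parity.ker

theorem parity_x : parity hX = 1 := PresentedGroup.toGroup.of _
theorem parity_y : parity hY = 1 := PresentedGroup.toGroup.of _
theorem parity_z : parity hZ = Multiplicative.ofAdd 1 := PresentedGroup.toGroup.of _

theorem parity_surjective : Function.Surjective parity := by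
  intro a
  have h : a = 1 ∨ a = Multiplicative.ofAdd 1 := by revert a; decide
  rcases h with rfl | rfl
  exacts [⟨1, map_one _⟩, ⟨hZ, parity_z⟩]

theorem hz2 : hZ * hZ = 1 := by
  have h := rel_one (r := HGen.wz ^ 2) (by simp [hRels])
  rwa [map_pow, pow_two] at h

theorem hz_inv : hZ⁻¹ = hZ := inv_eq_of_mul_eq_one_right hz2

theorem hzx : hZ * hX * hZ = hX⁻¹ := by
  have h := rel_one (r := (HGen.wz * HGen.wx) ^ 2) (by simp [hRels])
  rw [map_pow, map_mul, pow_two] at h
  change hZ * hX * (hZ * hX) = 1 at h
  rw [← mul_assoc] at h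
  exact eq_inv_of_mul_eq_one_left h

/-- The generators of the subgroup of index two. -/
def evenGens : Set hSetup.G := {hX, hY, hZ * hY * hZ}

theorem evenH_eq : evenH = Subgroup.closure evenGens := by
  set L := Subgroup.closure evenGens with hL
  have hx : hX ∈ L := Subgroup.subset_closure (by simp [evenGens])
  have hy : hY ∈ L := Subgroup.subset_closure (by simp [evenGens])
  have hc : hZ * hY * hZ ∈ L := Subgroup.subset_closure (by simp [evenGens])
  have hconj : ∀ g ∈ L, hZ * g * hZ ∈ L := by
    intro g hg
    induction hg using Subgroup.closure_induction with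
    | mem a ha =>
      rcases ha with rfl | rfl | rfl
      · rw [hzx]; exact inv_mem hx
      · exact hc
      · rw [show hZ * (hZ * hY * hZ) * hZ = (hZ * hZ) * hY * (hZ * hZ) from by group, hz2, one_mul, mul_one]
        exact hy
    | one => rw [mul_one, hz2]; exact one_mem _
    | mul a b _ _ ha hb =>
      rw [show hZ * (a * b) * hZ = (hZ * a * hZ) * (hZ * b * hZ) from by
        rw [show hZ * a * hZ * (hZ * b * hZ) = hZ * a * (hZ * hZ) * b * hZ from by group, hz2]; group]
      exact mul_mem ha hb
    | inv a _ ha =>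
      rw [show hZ * a⁻¹ * hZ = (hZ⁻¹ * a * hZ⁻¹)⁻¹ from by group, hz_inv]
      exact inv_mem ha
  let T : Subgroup hSetup.G :=
    { carrier := {g | g ∈ L ∨ g * hZ ∈ L}
      one_mem' := Or.inl (one_mem _)
      mul_mem' := by
        rintro g k (hg | hg) (hk | hk)
        · exact Or.inl (mul_mem hg hk)
        · exact Or.inr (by rw [mul_assoc]; exact mul_mem hg hk)
        · refine Or.inr ?_
          rw [show g * k * hZ = g * hZ * (hZ⁻¹ * k * hZ) from by group, hz_inv]
          exact mul_mem hg (hconj k hk)
        · refine Or.inl ?_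
          have h := hconj (k * hZ) hk
          rw [show hZ * (k * hZ) * hZ = hZ * k * (hZ * hZ) from by group, hz2, mul_one] at h
          rw [show g * k = g * hZ * (hZ⁻¹ * k) from by group, hz_inv]
          exact mul_mem hg h
      inv_mem' := by
        rintro g (hg | hg)
        · exact Or.inl (inv_mem hg)
        · refine Or.inr ?_
          have h := hconj _ (inv_mem hg)
          rw [mul_inv_rev, hz_inv] at h
          rwa [show hZ * (hZ * g⁻¹) * hZ = hZ * hZ * g⁻¹ * hZ from by group, hz2, one_mul] at h }
  have hb : hB ∈ L := hb_def ▸ mul_mem (mul_mem (inv_mem hx) hy) hx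
  have htop : ∀ g, g ∈ T := by
    intro g
    have hle : (⊤ : Subgroup hSetup.G) ≤ T := by
      rw [← PresentedGroup.closure_range_of hSetup.rels, Subgroup.closure_le]
      rintro _ ⟨a, rfl⟩
      cases a with
      | x => exact Or.inl hx
      | y => exact Or.inl hy
      | z => exact Or.inr (by show hZ * hZ ∈ L; rw [hz2]; exact one_mem _)
      | b => exact Or.inl hb
      | j =>
        have h := rel_one (r := HGen.wj⁻¹ * (HGen.wb ^ 3)) (by simp [hRels])
        simp only [map_mul, map_inv, map_pow] at h
        refine Or.inl ?_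
        show PresentedGroup.mk hSetup.rels HGen.wj ∈ L
        rw [inv_mul_eq_one.mp h]
        exact pow_mem hb 3
    exact hle (Subgroup.mem_top g)
  have hLK : L ≤ evenH := by
    rw [hL, Subgroup.closure_le]
    rintro a (rfl | rfl | rfl) <;>
      simp only [evenH, SetLike.mem_coe, MonoidHom.mem_ker, map_mul, parity_x, parity_y, parity_z]
    decide
  refine le_antisymm (fun g hg => ?_) hLK
  rcases htop g with hl | hl
  · exact hl
  · have h : parity (g * hZ) = 1 := hLK hl
    rw [map_mul, show parity g = 1 from hg, one_mul, parity_z] at h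
    exact absurd h (by decide)

instance evenH_normal : evenH.Normal := by unfold evenH; infer_instance

theorem evenH_perfect : ⁅evenH, evenH⁆ = evenH := by
  refine le_antisymm (Subgroup.commutator_le_right _ _) ?_
  set q := QuotientGroup.mk' (⁅evenH, evenH⁆ : Subgroup hSetup.G) with hq
  have hcomm : ∀ u ∈ evenH, ∀ v ∈ evenH, q u * q v = q v * q u := by
    intro u hu v hv
    refine commutatorElement_eq_one_iff_mul_comm.mp ?_
    rw [← map_commutatorElement]
    exact (QuotientGroup.eq_one_iff _).mpr (Subgroup.commutator_mem_commutator hu hv)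
  have hx : hX ∈ evenH := parity_x
  have hy : hY ∈ evenH := parity_y
  set a := q hX with ha
  set c := q hY with hc
  set w := q hZ with hw
  have hac : Commute a c := hcomm _ hx _ hy
  have hw2 : w * w = 1 := by rw [hw, ← map_mul, hz2, map_one]
  have hwa : w * a * w = a⁻¹ := by rw [hw, ha, ← map_mul, ← map_mul, hzx, map_inv]
  have ev1 : ∀ r ∈ hRels, q (PresentedGroup.mk hSetup.rels r) = 1 := fun r hr => by rw [rel_one hr, map_one]
  have hc6 : c ^ 6 = 1 := by
    have h := ev1 (HGen.wy ^ 6) (by simp [hRels])
    simp only [map_pow] at h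
    exact h
  have ha4 : a ^ 4 = 1 := by rw [ha, ← map_pow, hx4, map_one]
  have hc3 : c ^ 3 = 1 := by
    have h := ev1 (((HGen.wx⁻¹) * (HGen.wy ^ 2) * HGen.wx * (HGen.wy ^ 3)) ^ 3) (by simp [hRels])
    simp only [map_pow, map_mul, map_inv] at h
    change (a⁻¹ * c ^ 2 * a * c ^ 3) ^ 3 = 1 at h
    have e : a⁻¹ * c ^ 2 * a = c ^ 2 := by
      rw [mul_assoc, (hac.pow_right 2).eq.symm, inv_mul_cancel_left]
    rw [e, ← pow_add, ← pow_mul, show (2 + 3) * 3 = 6 * 2 + 3 from rfl, pow_add, pow_mul, hc6, one_pow,
      one_mul] at h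
    exact h
  have hc1 : c = 1 := by
    have h := ev1 ((HGen.wx * HGen.wy * HGen.wx * (HGen.wy ^ 3)) ^ 4) (by simp [hRels])
    simp only [map_pow, map_mul] at h
    change (a * c * a * c ^ 3) ^ 4 = 1 at h
    have e : a * c * a = a ^ 2 * c := by rw [mul_assoc, ← hac.eq, ← mul_assoc, pow_two]
    rw [e, hc3, mul_one, (hac.pow_left 2).mul_pow, ← pow_mul, show 2 * 4 = 4 * 2 from rfl, pow_mul, ha4,
      one_pow, one_mul, show 4 = 3 + 1 from rfl, pow_add, hc3, one_mul, pow_one] at h
    exact h
  have ha1 : a = 1 := by
    have h := ev1 (HGen.wz * (((((HGen.wy ^ 3) * HGen.wx * HGen.wy * HGen.wx * HGen.wy)⁻¹ * HGen.wz *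
      ((HGen.wy ^ 3) * HGen.wx * HGen.wy * HGen.wx * HGen.wy)) * HGen.wx) ^ 3)) (by simp [hRels])
    simp only [map_pow, map_mul, map_inv] at h
    change w * ((((c ^ 3) * a * c * a * c)⁻¹ * w * ((c ^ 3) * a * c * a * c)) * a) ^ 3 = 1 at h
    simp only [hc1, one_pow, one_mul, mul_one] at h
    have hwa2 : w * (a * a) * w = (a * a)⁻¹ := by
      calc w * (a * a) * w = w * a * (w * w) * a * w := by rw [hw2]; group
        _ = (w * a * w) * (w * a * w) := by group
        _ = _ := by rw [hwa]; group
    have hk : (a * a)⁻¹ * w * (a * a) = w := by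
      have ha4' : a * a * (a * a) = 1 := by
        rw [← ha4]; simp only [pow_succ, pow_zero, one_mul, mul_assoc]
      calc (a * a)⁻¹ * w * (a * a) = (w * (a * a) * w) * w * (a * a) := by rw [hwa2]
        _ = w * (a * a) * (w * w) * (a * a) := by group
        _ = w * (a * a * (a * a)) := by rw [hw2]; group
        _ = w := by rw [ha4', mul_one]
    rw [hk] at h
    calc a = w * w * a * ((w * a * w) * a) := by rw [hwa, hw2, inv_mul_cancel, mul_one, one_mul]
      _ = w * (w * a) ^ 3 * (a⁻¹ * a) := by
          rw [pow_succ, pow_succ, pow_one]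
          calc w * w * a * (w * a * w * a) = w * (w * a * (w * a) * (w * a)) := by group
            _ = _ := by group
      _ = 1 := by rw [h, inv_mul_cancel, mul_one]
  have hgen : ∀ g ∈ evenGens, q g = 1 := by
    rintro g (rfl | rfl | rfl)
    · exact ha1
    · exact hc1
    · rw [map_mul, map_mul]
      show w * c * w = 1
      rw [hc1, mul_one, hw2]
  intro g hg
  rw [evenH_eq] at hg
  refine (QuotientGroup.eq_one_iff _).mp ?_
  show q g = 1
  induction hg using Subgroup.closure_induction with
  | mem a ha => exact hgen a ha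
  | one => exact map_one q
  | mul a b _ _ ha hb => rw [map_mul, ha, hb, one_mul]
  | inv a _ ha => rw [map_inv, ha, inv_one]

theorem sigma_evenH {g : hSetup.G} (hg : g ∈ evenH) : sigma g ∈ HSPerm.hsPerm := by
  rw [evenH_eq] at hg
  induction hg using Subgroup.closure_induction with
  | mem a ha =>
    rcases ha with rfl | rfl | rfl
    · have h : sigma (1 * hX⁻¹) ∈ HSPerm.hsPerm := sigma_mem agree_x
      rw [one_mul, map_inv] at h
      exact inv_mem_iff.mp h
    · have h : sigma (1 * hY⁻¹) ∈ HSPerm.hsPerm := sigma_mem agree_y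
      rw [one_mul, map_inv] at h
      exact inv_mem_iff.mp h
    · have h : sigma (1 * hZ * hY⁻¹ * hZ) ∈ HSPerm.hsPerm := sigma_mem agree_zyz
      rw [one_mul, show hZ * hY⁻¹ * hZ = (hZ⁻¹ * hY * hZ⁻¹)⁻¹ from by group, hz_inv, map_inv] at h
      exact inv_mem_iff.mp h
  | one => simp
  | mul a b _ _ ha hb => rw [map_mul]; exact mul_mem ha hb
  | inv a _ ha => rw [map_inv]; exact inv_mem ha

/-- The action of the subgroup of index two, into the simple group. -/
noncomputable def psi : evenH →* HSPerm.hsPerm :=
  (sigma.comp evenH.subtype).codRestrict _ fun k => sigma_evenH k.2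

theorem ev_parity : ∀ w : List ℕ, parity (ev hSetup.el w) = (w.map fun a => parity (hSetup.el a)).prod
  | [] => map_one parity
  | a :: v => by
    rw [List.map_cons, List.prod_cons, ← ev_parity v]
    exact (map_mul parity _ _).trans (mul_comm _ _)

theorem parity_el (a : ℕ) : parity (hSetup.el a) =
    if a = 4 ∨ a = 5 then Multiplicative.ofAdd 1 else 1 := by
  match a with
  | 0 => exact parity_x
  | 1 => show parity hX⁻¹ = _; rw [map_inv, parity_x]; rfl
  | 2 => exact parity_y
  | 3 => show parity hY⁻¹ = _; rw [map_inv, parity_y]; rfl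
  | 4 => exact parity_z
  | 5 => show parity hZ⁻¹ = _; rw [map_inv, parity_z]; decide
  | 6 => exact PresentedGroup.toGroup.of _
  | 7 => show parity (PresentedGroup.of HGen.b)⁻¹ = _; rw [map_inv]
         show (parity (PresentedGroup.of HGen.b))⁻¹ = _
         rw [show parity (PresentedGroup.of HGen.b) = 1 from PresentedGroup.toGroup.of _]; rfl
  | 8 => exact PresentedGroup.toGroup.of _
  | 9 => show parity (PresentedGroup.of HGen.j)⁻¹ = _; rw [map_inv]
         rw [show parity (PresentedGroup.of HGen.j) = 1 from PresentedGroup.toGroup.of _]; rfl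
  | _ + 10 => exact map_one _

theorem word_even {w : List ℕ}
    (h : (w.map fun a => if a = 4 ∨ a = 5 then Multiplicative.ofAdd (1 : ZMod 2) else 1).prod = 1) :
    ev hSetup.el w ∈ evenH := by
  show parity _ = 1
  rw [ev_parity]
  simpa only [parity_el] using h

theorem psi_surjective : Function.Surjective psi := by
  intro g
  have key : ∀ x ∈ StabCert.sub HSPerm.gen (List.range 2), ∃ k : evenH, (psi k : Equiv.Perm (Fin 100)) = x := by
    intro x hx
    rw [StabCert.sub] at hx
    induction hx using Subgroup.closure_induction with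
    | mem a ha =>
      obtain ⟨i, hi, rfl⟩ := ha
      have hi' : i < 2 := List.mem_range.mp hi
      interval_cases i
      · exact ⟨⟨_, word_even (w := hWordA) (by decide +kernel)⟩,
          (agree_spec agree_a).trans (by simp [StabCert.wordEl])⟩
      · exact ⟨⟨_, word_even (w := hWordB) (by decide +kernel)⟩,
          (agree_spec agree_b).trans (by simp [StabCert.wordEl])⟩
    | one => exact ⟨1, by simp⟩
    | mul a b _ _ ha hb =>
      obtain ⟨k, hk⟩ := ha
      obtain ⟨l, hl⟩ := hb
      exact ⟨k * l, by rw [map_mul, Subgroup.coe_mul, hk, hl]⟩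
    | inv a _ ha =>
      obtain ⟨k, hk⟩ := ha
      exact ⟨k⁻¹, by rw [map_inv, Subgroup.coe_inv, hk]⟩
  obtain ⟨k, hk⟩ := key g (HSPerm.hsPerm_le g.2)
  exact ⟨k, Subtype.ext hk⟩

end Cfsg.Agent.HNPres
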