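/-
The order of the presented group on `x, y, z` and its double cover structure.
Main results: `card_hg`, `det_baseB`, `double_cover`.
-/
import Cfsg.Agent.Lib.HNPres.HCheck
import Cfsg.Agent.Lib.HNPres.HundredHom
import Cfsg.Agent.Lib.HigmanSimsPerm.Iso
import Cfsg.Agent.Lib.HigmanSimsPerm.Upper
import Cfsg.Agent.Lib.Leech.HSSimple
import Cfsg.Prelude.Def_SporadicB

set_option autoImplicit false
set_option maxRecDepth 100000
set_option Elab.async false

namespace Cfsg.Agent.HNPres

open Cfsg.Agent.CosetEnum Cfsg.Agent.CosetEnum.Data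
open scoped commutatorElement

theorem hg_finite : Finite HG := Nat.finite_of_card_ne_zero card_hg_le.2

/-- The square of x. -/
noncomputable def hC : HG := hX ^ 2

theorem hC_central : hC ∈ Subgroup.center HG := by
  rw [Subgroup.mem_center_iff]
  have hy : Commute (hX ^ 2) hY := hx2y
  have hz : Commute (hX ^ 2) hZ := by
    show hX ^ 2 * hZ = hZ * hX ^ 2
    have h4 : hX ^ 2 = (hX ^ 2)⁻¹ := by
      refine (inv_eq_of_mul_eq_one_right ?_).symm
      rw [← pow_add]; exact hx4
    calc hX ^ 2 * hZ = hZ * hZ * (hX * hX) * hZ := by rw [hz2, one_mul, pow_two]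
      _ = hZ * (hZ * hX * (hZ * hZ) * hX * hZ) := by
          conv_rhs => rw [hz2]
          group
      _ = hZ * ((hZ * hX * hZ) * (hZ * hX * hZ)) := by group
      _ = hZ * (hX ^ 2)⁻¹ := by rw [hzx]; group
      _ = hZ * hX ^ 2 := by rw [← h4]
  intro g
  have hle : (⊤ : Subgroup HG) ≤ Subgroup.centralizer {hC} := by
    rw [← PresentedGroup.closure_range_of hSetup.rels, Subgroup.closure_le]
    rintro _ ⟨a, rfl⟩
    rw [SetLike.mem_coe, Subgroup.mem_centralizer_iff]
    rintro h rfl
    cases a with
    | x => exact ((Commute.refl hX).pow_left 2).eq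
    | y => exact hy.eq
    | z => exact hz.eq
    | b =>
      show hX ^ 2 * hB = hB * hX ^ 2
      rw [hb_def]
      exact ((((Commute.refl hX).pow_left 2).inv_right.mul_right hy).mul_right ((Commute.refl hX).pow_left 2)).eq
    | j =>
      show hX ^ 2 * PresentedGroup.mk hSetup.rels HGen.wj = PresentedGroup.mk hSetup.rels HGen.wj * hX ^ 2
      have h := rel_one (r := HGen.wj⁻¹ * (HGen.wb ^ 3)) (by simp [hRels])
      simp only [map_mul, map_inv, map_pow] at h
      rw [inv_mul_eq_one.mp h]
      show hX ^ 2 * hB ^ 3 = hB ^ 3 * hX ^ 2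
      rw [hb_def]
      exact (((((Commute.refl hX).pow_left 2).inv_right.mul_right hy).mul_right
        ((Commute.refl hX).pow_left 2)).pow_right 3).eq
  exact (Subgroup.mem_centralizer_iff.mp (hle (Subgroup.mem_top g)) hC rfl).symm

theorem hC_sigma : sigma hC = 1 := by
  have h := agree_spec sigma_xx_ok
  have e : ev hSetup.el [0, 0] = hC := by
    show 1 * hX * hX = hX ^ 2
    rw [one_mul, pow_two]
  rw [← e, h]; rfl

theorem hC_ne : hC ≠ 1 := by
  intro h
  have h1 : Nat.beq (img [1, 1] 0) 0 = false := by decide +kernel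
  have h2 := (img_spec [1, 1] (i := 0) (by norm_num)).2
  have e : E [1, 1] = hC := by
    have hw : word [1, 1] = [0, 0] := by decide +kernel
    rw [E, hw]
    show 1 * hX * hX = hX ^ 2
    rw [one_mul, pow_two]
  rw [e, h, map_one, Equiv.Perm.one_apply] at h2
  have h3 := congrArg Fin.val h2
  rw [val_pt (by norm_num), val_pt (img_spec [1, 1] (by norm_num)).1] at h3
  rw [← h3, Nat.beq_refl] at h1
  exact Bool.noConfusion h1

theorem hC_mem : hC ∈ evenH := by
  show parity (hX ^ 2) = 1
  rw [map_pow, parity_x, one_pow]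

theorem hC_ker : (⟨hC, hC_mem⟩ : evenH) ∈ psi.ker := Subtype.ext hC_sigma

theorem card_evenH_mul : Nat.card evenH * 2 = Nat.card HG := by
  rw [← Subgroup.card_mul_index evenH, evenH, Subgroup.index_ker, MonoidHom.range_eq_top.mpr parity_surjective,
    Subgroup.card_top]
  simp

theorem card_psi_ker : Nat.card psi.ker * 44352000 = Nat.card evenH := by
  have h := Subgroup.card_mul_index psi.ker
  rwa [Subgroup.index_ker, MonoidHom.range_eq_top.mpr psi_surjective, Subgroup.card_top,
    HSPerm.natCard_hsPerm] at h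

theorem isPerfect_evenH : Group.IsPerfect evenH := Subgroup.isPerfect_iff.mpr evenH_perfect

/-- A perfect group acts trivially on at most two points. -/
theorem perfect_act_trivial {K X : Type*} [Group K] [Group.IsPerfect K] [Finite X] (hX : Nat.card X ≤ 2)
    (f : K →* Equiv.Perm X) (k : K) : f k = 1 := by
  haveI : IsCyclic (Equiv.Perm X) := by
    have h : Nat.card (Equiv.Perm X) ≤ 2 := by
      rw [Nat.card_perm]
      exact le_trans (Nat.factorial_le hX) (by decide)
    rcases Nat.lt_or_ge (Nat.card (Equiv.Perm X)) 2 with h2 | h2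
    · haveI : Subsingleton (Equiv.Perm X) := by
        rw [← Finite.card_le_one_iff_subsingleton]; omega
      infer_instance
    · haveI := Fact.mk Nat.prime_two
      exact isCyclic_of_prime_card (le_antisymm h h2)
  haveI : Group.IsPerfect f.range := Group.IsPerfect.range f
  haveI : IsMulCommutative f.range := inferInstance
  have hs : Subsingleton f.range := inferInstance
  exact congrArg Subtype.val (Subsingleton.elim (⟨f k, k, rfl⟩ : f.range) 1)

theorem psi_ker_central : psi.ker ≤ Subgroup.center evenH := by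
  haveI := hg_finite
  haveI := isPerfect_evenH
  set c : evenH := ⟨hC, hC_mem⟩ with hc
  have hcc : ∀ k : evenH, k * c = c * k := fun k => Subtype.ext (Subgroup.mem_center_iff.mp hC_central _)
  set Z := Subgroup.zpowers c with hZdef
  have hZc : Z ≤ Subgroup.center evenH := Subgroup.zpowers_le.mpr (Subgroup.mem_center_iff.mpr hcc)
  haveI : Z.Normal := Subgroup.Normal.of_conjugate_fixed fun g => by
    ext a
    constructor
    · rintro ⟨b, hb, rfl⟩
      have := Subgroup.mem_center_iff.mp (hZc hb) g
      simpa [MulAut.conj_apply, this] using hb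
    · intro ha
      refine ⟨a, ha, ?_⟩
      have := Subgroup.mem_center_iff.mp (hZc ha) g
      simp [MulAut.conj_apply, this]
  -- the image of the kernel modulo the centre part
  set q := QuotientGroup.mk' Z
  set Mq := psi.ker.map q with hMq
  have hZM : Z ≤ psi.ker := Subgroup.zpowers_le.mpr hC_ker
  have hZ2 : 2 ≤ Nat.card Z := by
    exact (Subgroup.one_lt_card_iff_ne_bot Z).mpr (by
      rw [hZdef, Ne, Subgroup.zpowers_eq_bot]
      exact fun h => hC_ne (congrArg Subtype.val h))
  have hMq3 : Nat.card Mq ≤ 3 := by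
    have h1 : Nat.card (psi.ker ⊓ Z : Subgroup evenH) * Nat.card Mq = Nat.card psi.ker := by
      have e := Subgroup.card_mul_index ((q.comp psi.ker.subtype).ker)
      rw [Subgroup.index_ker, MonoidHom.range_comp, Subgroup.range_subtype] at e
      rw [← e]
      congr 1
      refine Nat.card_congr ⟨fun g => ⟨⟨g.1, g.2.1⟩, (QuotientGroup.eq_one_iff _).mpr g.2.2⟩,
        fun g => ⟨g.1.1, g.1.2, (QuotientGroup.eq_one_iff _).mp g.2⟩, fun g => rfl, fun g => rfl⟩
    rw [inf_eq_right.mpr hZM] at h1
    have h2 : Nat.card HG ≤ 532224000 := card_hg_le.1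
    have h3 := card_evenH_mul
    have h4 := card_psi_ker
    have h5 : 2 * Nat.card Mq ≤ Nat.card psi.ker := h1 ▸ Nat.mul_le_mul_right _ hZ2
    omega
  -- the action on its nonidentity elements
  let X := {m : evenH ⧸ Z // m ∈ Mq ∧ m ≠ 1}
  have hX : Nat.card X ≤ 2 := by
    have h : Nat.card X + 1 ≤ Nat.card Mq := by
      have e : Nat.card (Option X) ≤ Nat.card Mq :=
        Nat.card_le_card_of_injective (fun o => o.elim (1 : Mq) fun m => ⟨m.1, m.2.1⟩) (by
          rintro (_ | a) (_ | b) h <;> simp only [Option.elim, Subtype.ext_iff] at h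
          · rfl
          · exact absurd h.symm b.2.2
          · exact absurd h a.2.2
          · exact congrArg some (Subtype.ext h))
      rwa [Finite.card_option] at e
    omega
  have hMn : Mq.Normal := Subgroup.Normal.map inferInstance q (QuotientGroup.mk'_surjective Z)
  let act : evenH →* Equiv.Perm X :=
    MonoidHom.mk'
      (fun k =>
        { toFun := fun m => ⟨q k * m.1 * (q k)⁻¹, hMn.conj_mem _ m.2.1 _, fun h => m.2.2 (conj_eq_one_iff.mp h)⟩
          invFun := fun m => ⟨(q k)⁻¹ * m.1 * q k,
            by simpa using hMn.conj_mem _ m.2.1 (q k)⁻¹,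
            fun h => m.2.2 (conj_eq_one_iff (a := (q k)⁻¹).mp (by rwa [inv_inv]))⟩
          left_inv := fun m => Subtype.ext (by group)
          right_inv := fun m => Subtype.ext (by group) })
      (fun a b => Equiv.ext fun m => Subtype.ext (by simp [mul_assoc]))
  have hfix : ∀ (k : evenH) (m : evenH), m ∈ psi.ker → ⁅k, m⁆ ∈ Z := by
    intro k m hm
    rw [← QuotientGroup.eq_one_iff (N := Z), ← QuotientGroup.mk'_apply, map_commutatorElement,
      commutatorElement_eq_one_iff_mul_comm]
    by_cases h1 : q m = 1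
    · rw [h1, mul_one, one_mul]
    · have h := congrArg (fun e : Equiv.Perm X => (e ⟨q m, ⟨m, hm, rfl⟩, h1⟩).1) (perfect_act_trivial hX act k)
      have h' : q k * q m * (q k)⁻¹ = q m := h
      exact mul_inv_eq_iff_eq_mul.mp h'
  have h1 : ⁅⁅(⊤ : Subgroup evenH), psi.ker⁆, (⊤ : Subgroup evenH)⁆ = ⊥ := by
    rw [Subgroup.commutator_top_right_eq_bot_iff_le_center]
    exact (Subgroup.commutator_le.mpr fun k _ m hm => hfix k m hm).trans hZc
  have h2 : ⁅⁅psi.ker, (⊤ : Subgroup evenH)⁆, (⊤ : Subgroup evenH)⁆ = ⊥ := by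
    rw [Subgroup.commutator_comm psi.ker]; exact h1
  have h3 := Subgroup.commutator_commutator_eq_bot_of_rotate (H₁ := (⊤ : Subgroup evenH))
    (H₂ := (⊤ : Subgroup evenH)) (H₃ := psi.ker) h1 h2
  rw [show ⁅(⊤ : Subgroup evenH), (⊤ : Subgroup evenH)⁆ = ⊤ from Group.IsPerfect.commutator_eq_top] at h3
  rw [← Subgroup.commutator_top_right_eq_bot_iff_le_center, Subgroup.commutator_comm]
  exact h3

theorem psi_ker_card : Nat.card psi.ker = 2 := by
  haveI := hg_finite
  haveI := isPerfect_evenH
  have hst : Cfsg.IsStemExtension psi :=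
    ⟨psi_surjective, psi_ker_central, by rw [Group.IsPerfect.commutator_eq_top]; exact le_top⟩
  obtain ⟨p, hp⟩ := HSPerm.Upper.exists_surj_two psi hst
  refine le_antisymm ((Nat.card_le_card_of_surjective p hp).trans (by simp)) ?_
  have h : psi.ker ≠ ⊥ := fun h => hC_ne (congrArg Subtype.val ((Subgroup.eq_bot_iff_forall _).mp h _ hC_ker))
  exact (Subgroup.one_lt_card_iff_ne_bot psi.ker).mpr h

theorem card_hg : Nat.card HG = 177408000 := by
  have h1 := card_evenH_mul
  have h2 := card_psi_ker
  rw [psi_ker_card] at h2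
  omega

theorem mem_fixAll {g : HG} : ∀ {ch : List Lev}, (∀ b ∈ ch.map (fun L => L.b), pi g (pt b) = pt b) → g ∈ fixAll ch
  | [], _ => Subgroup.mem_top g
  | L :: r, h => ⟨h L.b (by simp), mem_fixAll fun b hb => h b (by simp [hb])⟩

theorem det_baseB : Det baseB := by
  haveI := hg_finite
  have h := chain_low hChain hChain_low ⊤ fun g _ => Subgroup.mem_top _
  rw [hChain_size, top_inf_eq, Subgroup.card_top, card_hg] at h
  have h1 : Nat.card (fixAll hChain) ≤ 1 := Nat.le_of_mul_le_mul_right (by rwa [one_mul]) (by norm_num)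
  intro g hg
  haveI : Subsingleton (fixAll hChain) := Finite.card_le_one_iff_subsingleton.mp h1
  have hm : g ∈ fixAll hChain := mem_fixAll (by rw [hChain_base]; exact hg)
  exact congrArg Subtype.val (Subsingleton.elim (⟨g, hm⟩ : fixAll hChain) 1)

theorem pi_injective : Function.Injective pi := by
  rw [← MonoidHom.ker_eq_bot_iff, eq_bot_iff]
  intro g hg
  exact Subgroup.mem_bot.mpr (det_baseB g fun b _ => by rw [show pi g = 1 from hg]; rfl)

theorem isSimple_hsPerm : IsSimpleGroup HSPerm.hsPerm := by
  obtain ⟨e⟩ := S1666.hs_iso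
  haveI := Leech.isSimpleGroup_hs
  haveI : IsSimpleGroup ↥Cfsg.Spor.HS := MulEquiv.isSimpleGroup e
  exact MulEquiv.isSimpleGroup HSPerm.equivHS

theorem center_evenH : Subgroup.center evenH = psi.ker := by
  haveI := hg_finite
  haveI := isSimple_hsPerm
  refine le_antisymm (fun k hk => ?_) psi_ker_central
  have hc : Subgroup.center HSPerm.hsPerm = ⊥ := by
    rcases (inferInstance : (Subgroup.center HSPerm.hsPerm).Normal).eq_bot_or_eq_top with h | h
    · exact h
    · exfalso
      haveI : IsMulCommutative HSPerm.hsPerm :=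
        ⟨⟨fun a b => (Subgroup.mem_center_iff.mp (h ▸ Subgroup.mem_top b : b ∈ Subgroup.center HSPerm.hsPerm) a)⟩⟩
      haveI := isPerfect_evenH
      haveI : Group.IsPerfect HSPerm.hsPerm := Group.IsPerfect.ofSurjective psi_surjective
      have hs : Subsingleton HSPerm.hsPerm := inferInstance
      have := HSPerm.natCard_hsPerm
      rw [Nat.card_of_subsingleton (1 : HSPerm.hsPerm)] at this
      norm_num at this
  have h : psi k ∈ Subgroup.center HSPerm.hsPerm := by
    rw [Subgroup.mem_center_iff]
    intro g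
    obtain ⟨l, rfl⟩ := psi_surjective g
    rw [← map_mul, ← map_mul, Subgroup.mem_center_iff.mp hk l]
  rw [hc, Subgroup.mem_bot] at h
  exact h

/-- The subgroup of index two is a non-split double cover of the Higman-Sims group. -/
theorem double_cover : Cfsg.IsNonsplitDoubleCover evenH Cfsg.Spor.HS := by
  haveI := hg_finite
  haveI := isPerfect_evenH
  refine ⟨by rw [center_evenH]; exact psi_ker_card, ?_, ?_⟩
  · exact ⟨((QuotientGroup.quotientMulEquivOfEq center_evenH).trans
      (QuotientGroup.quotientKerEquivOfSurjective psi psi_surjective)).trans HSPerm.equivHS⟩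
  · intro L hL
    have hi : L.index = 2 := by
      have h := hL.index_eq_card
      rw [Subgroup.IsComplement'] at hL
      rw [← psi_ker_card, ← center_evenH]
      exact h
    haveI : L.Normal := Subgroup.normal_of_index_eq_two hi
    haveI : IsCyclic (evenH ⧸ L) := by
      haveI := Fact.mk Nat.prime_two
      exact isCyclic_of_prime_card hi
    haveI : Group.IsPerfect (evenH ⧸ L) := inferInstance
    have hs : Subsingleton (evenH ⧸ L) := inferInstance
    have h2 : L.index = 1 := by
      rw [Subgroup.index]; exact Nat.card_of_subsingleton 1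
    omega

end Cfsg.Agent.HNPres
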